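import Cfsg.Agent.H223.R3F
import Cfsg.Agent.S0282

/-!
# The row `PSU_3(q)` for elements of order three (S3854, S3832, S4336; task 1200)

`row_psu3` : `Row3 K` for a simple group `K = PSU_3(q)`; `irow_psu3` : `IRow K` if `q ≠ 3`.
-/

set_option autoImplicit false
set_option linter.unusedSectionVars false
set_option linter.unusedFintypeInType false
set_option linter.unusedDecidableInType false

namespace Cfsg.Agent.H223.R3

open Subgroup Cfsg Cfsg.Agent.SignalizersComponents.ComponentExists Cfsg.Agent.H459.Rad Cfsg.Agent.H459.Iface Matrix Cfsg.Agent.H724.UThree Cfsg.Agent.H959.Rad3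
open Cfsg.Agent Cfsg.Agent.LieClassical.HermSiegel Cfsg.Agent.LieClassical.HermBasic
open Cfsg.Agent.ClassicalGeometry.PSUAutCount (gm toAut gm_mul gm_one gm_inv_mul gm_mul_inv gm_inv_mulVec
  gm_mulVec_inv gm_inj herm_gm sc gm_sc_mul toAut_sc_mul eq_of_toAut_eq guConjFun act_guConjFun)
open Cfsg.Agent.ClassicalGeometry.UnitAutBasic (pr pr_surjective exists_ne_zero_orth)
open Cfsg.Agent.Schreier.PSU (f₁)

variable {F : Type*} [Field F] [Fintype F]

/-- **`PSU_3(3)`.** -/
theorem row_three (hF : Fintype.card F = 3 ^ 2) : Row3 (PSU 3 F 3) := by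
  intro x hx hR hT
  have hxp : x ^ 3 = 1 := orderOf_dvd_iff_pow_eq_one.1 hx.dvd
  have hx1 : x ≠ 1 := by
    rintro rfl
    rw [orderOf_one] at hx
    omega
  obtain ⟨A, ρ, rfl⟩ := ClassicalGeometry.PSUAutMain.exists_toAut hF le_rfl (fun h => by omega) x
  by_cases hρ : ρ = 1
  swap
  · exact (field_false hF Nat.prime_three le_rfl hxp hρ hR).elim
  subst hρ
  obtain ⟨r, k, hr, hrc, hk, hk0⟩ := LieClassical.HermBasic.exists_prime_pow hF
  have hr3 : r = 3 := by
    have h1 : r ∣ 3 := by rw [hk]; exact dvd_pow_self r hk0.ne'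
    exact (Nat.prime_dvd_prime_iff_eq hr Nat.prime_three).1 h1
  subst hr3
  have hp : Fact (Nat.Prime 3) := ⟨Nat.prime_three⟩
  have hfx : f₁ A ^ 3 = 1 := hxp
  have h1 : toAut (1 : GU 3 F 3) 1 = toAut (A ^ 3) 1 := by
    change f₁ (1 : GU 3 F 3) = f₁ (A ^ 3)
    rw [map_one, map_pow, hfx]
  obtain ⟨-, c, hc, hc'⟩ := eq_of_toAut_eq hF le_rfl h1
  rw [gm_one] at hc'
  obtain ⟨d, hd, hd3⟩ := exists_cube_root hc (by norm_num)
  have hd0 : d ≠ 0 := left_ne_zero_of_mul_eq_one hd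
  obtain ⟨B, hB⟩ : ∃ B : GU 3 F 3, B = sc 3 ⟨d⁻¹, inv_norm hd⟩ * A := ⟨_, rfl⟩
  have hfB : toAut A 1 = f₁ B := by
    rw [hB]
    exact (toAut_sc_mul _ _ _).symm
  have hB3 : B ^ 3 = 1 := by
    apply gm_inj
    rw [gm_pow, hB, gm_sc_mul, smul_pow, ← gm_pow, hc', smul_smul, inv_pow, hd3, gm_one]
    have hc0 : c ≠ 0 := left_ne_zero_of_mul_eq_one hc
    rw [inv_mul_cancel₀ hc0, one_smul]
  have hdet : (gm B).det = 1 := by
    have h5 := congrArg Matrix.det (congrArg gm hB3)
    rw [gm_pow, Matrix.det_pow, gm_one, Matrix.det_one] at h5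
    have h30 : (3 : F) = 0 := three_eq_zero
    have h6 : ((gm B).det - 1) ^ 3 = 0 := by
      linear_combination h5 + ((gm B).det - (gm B).det ^ 2) * h30
    exact sub_eq_zero.1 (pow_eq_zero_iff (by norm_num) |>.1 h6)
  obtain ⟨g, hg⟩ := exists_toGU B hdet
  have hg3 : g ^ 3 = 1 := toGU_injective (by rw [toGU_pow, hg, hB3]; exact gm_inj rfl)
  rw [hfB, ← hg, f₁_toGU] at hx1 hT
  obtain ⟨N, hN⟩ : ∃ N, N = mat g - 1 := ⟨_, rfl⟩
  have hgN : mat g = 1 + N := by rw [hN]; abel
  have hN3 : N * N * N = 0 := by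
    have := cube_zero hg3
    rw [← hN, pow_succ, pow_two] at this
    exact this
  by_cases hN2 : N * N = 0
  · by_cases hN0 : N = 0
    · apply hx1
      have : g = 1 := by
        apply mat_ext
        rw [hgN, hN0, add_zero, mat_one]
      rw [this, map_one, map_one]
    exact trans_false hF hgN hN2 hN0 hg3 hx1 hT
  · have h2 : (2 : F) ≠ 0 := by
      intro h
      have : (1 : F) = 0 := by linear_combination (three_eq_zero (F := F)) - h
      exact one_ne_zero this
    obtain ⟨X, w, r, h⟩ := exists_adapted hF hgN hN3 hN2 h2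
    exact reg_false hF h hg3 hx1 hT.inv

theorem ne_two {K : Type*} [Group K] [Finite K] [IsSimpleGroup K] {F : Type} [Field F] [Fintype F] {q : ℕ}
    (hF : Fintype.card F = q ^ 2) (e : K ≃* Cfsg.PSU 3 F q) : q ≠ 2 := by
  rintro rfl
  obtain ⟨h1, h2⟩ := Cfsg.Agent.S0282.result (F := F) (by rw [hF]; norm_num)
  have h3 : Nat.card K = 72 := by rw [Nat.card_congr e.toEquiv, h1]
  have h4 : Group.IsSolvable K := Group.isSolvable_of_surjective (f := e.symm.toMonoidHom) e.symm.surjective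
  have h5 : (Nat.card K).Prime := by
    have h6 : ∀ a b : K, a * b = b * a := IsSimpleGroup.comm_iff_isSolvable.2 h4
    let _ : CommGroup K := { (inferInstance : Group K) with mul_comm := h6 }
    exact IsSimpleGroup.prime_card
  rw [h3] at h5
  norm_num at h5

/-- **The row `PSU_3(q)`, `q ≠ 3`.** -/
theorem irow_psu3 {K : Type*} [Group K] [Finite K] [IsSimpleGroup K] {F : Type} [Field F] [Fintype F] {q : ℕ}
    (hF : Fintype.card F = q ^ 2) (hq3 : q ≠ 3) (e : Nonempty (K ≃* Cfsg.PSU 3 F q)) :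
    Cfsg.Agent.H959.Rad3.IRow K := by
  obtain ⟨e⟩ := e
  have hq := ne_two hF e
  have hq2 := LieClassical.GUOrder.two_le hF
  exact (irow_psu hF (by omega)).congr e

/-- **The row `PSU_3(q)`.** -/
theorem row_psu3 {K : Type*} [Group K] [Finite K] [IsSimpleGroup K] {F : Type} [Field F] [Fintype F] {q : ℕ}
    (hF : Fintype.card F = q ^ 2) (e : Nonempty (K ≃* Cfsg.PSU 3 F q)) :
    Cfsg.Agent.H959.Rad3.Row3 K := by
  by_cases hq3 : q = 3
  · subst hq3
    obtain ⟨e⟩ := e
    exact (row_three hF).congr e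
  · exact (irow_psu3 hF hq3 e).row3

end Cfsg.Agent.H223.R3
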