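import Mathlib
import Cfsg.Agent.H223.PMinSys
import Cfsg.Agent.KFacts.RgdNodes
import Cfsg.Agent.KFacts.RgdSyl
import Cfsg.Agent.KFacts.RgdFilt

set_option autoImplicit false
set_option linter.style.haveILetI false
set_option linter.unusedSectionVars false

/-!
# Parabolic systems from root group data

* `psys R hG1 : PSys p Y I`;
* `exists_diag_of_map` : an automorphism fixing `U` and mapping `P_i` to `P_j` gives a diagram symmetry `σ` with `σ i = j`.
-/

namespace Cfsg.Agent.H223.PMinRgd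

open Subgroup Cfsg Cfsg.Agent.H223.PMinSys
open CoxeterSystem Cfsg.Agent.ChevalleyStructure.CoxeterGeom Cfsg.Agent.Tits.Roots Cfsg.Agent.Tits.Core
  Cfsg.Agent.Tits.Exchange Cfsg.Agent.Tits.RootComb Cfsg.Agent.Nodes.Reps Cfsg.Agent.Nodes.BNOf Cfsg.Agent.Nodes.StabComb
  Cfsg.Agent.Nodes.Bruhat Cfsg.Agent.Nodes.OppDec Cfsg.Agent.Nodes.LeviDec Cfsg.Agent.Nodes.NormalForm
  Cfsg.Agent.KFacts.RgdAut Cfsg.Agent.KFacts.RgdDiag

variable {I W Y : Type*} [Fintype I] [DecidableEq I] [Group W] [Group Y] {M : CoxeterMatrix I}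
  {cs : CoxeterSystem M W} {A : I → I → ℤ} {h : IsCartan M A} {p : ℕ} {T : Subgroup Y} {n : I → Y}
  {X : (I → ℤ) → Subgroup Y}

variable (R : RGD cs h p T n X) (hG1 : RGD.Sup X {x | IsRoot cs h x} = ⊤)

include R in
theorem n_mem_PJ_iff [Finite W] {J : Set I} {i : I} : n i ∈ PJ cs h T X J ↔ i ∈ J := by
  constructor
  · intro h1
    have h2 := (cell_mem_PJ_iff R (cell_of_rp (rp_simple cs R.nsys i))).1 h1
    by_contra hcon
    have h3 := rep_apply_of_mem cs h h2 (sr i) hcon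
    rw [rep_simple_sr, Pi.neg_apply, sr_self] at h3
    exact absurd h3 (by decide)
  · intro hi
    exact LJ_le_PJ (n_mem_LJ R hi)

include R in
theorem PJ_le_PJ_iff [Finite W] {J J' : Set I} : PJ cs h T X J ≤ PJ cs h T X J' ↔ J ⊆ J' := by
  constructor
  · intro hle i hi
    exact (n_mem_PJ_iff R).1 (hle ((n_mem_PJ_iff R).2 hi))
  · intro hJ g hg
    obtain ⟨w, hw, hc⟩ := (mem_PJ_iff_cell R).1 hg
    exact (mem_PJ_iff_cell R).2 ⟨w, WJ_mono cs hJ hw, hc⟩

/-- the parabolic system of a root group datum -/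
noncomputable def psys [Finite W] [Finite Y] [Fact p.Prime] : PSys p Y I where
  U := RGD.Sup X (RGD.Pos cs h)
  isP := R.isPGroup_Upos
  idx := by
    have := KFacts.RgdSyl.not_dvd_relIndex R
    rwa [KFacts.RgdFilt.GG_eq_top hG1, Subgroup.relIndex_top_right] at this
  e :=
    have hN : normalizer (RGD.Sup X (RGD.Pos cs h) : Set Y) = RGD.B cs h T X :=
      normalizer_U' R (KFacts.RgdFilt.GG_eq_top hG1)
    { toFun := fun J => ⟨PJ cs h T X J, hN.le.trans B_le_PJ⟩
      invFun := fun Q => {i | n i ∈ Q.1}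
      left_inv := fun J => Set.ext fun i => n_mem_PJ_iff R
      right_inv := fun Q => Subtype.ext (by
        have h1 := inf_eq_PJ R (hN.ge.trans Q.2)
        rw [KFacts.RgdFilt.GG_eq_top hG1, inf_top_eq] at h1
        exact h1.symm)
      map_rel_iff' := fun {J J'} => PJ_le_PJ_iff R }

include R hG1 in
theorem exists_diag_of_map [Finite W] [Finite Y] [Fact p.Prime] {i j : I} {α : MulAut Y}
    (hU : (RGD.Sup X (RGD.Pos cs h)).map α.toMonoidHom = RGD.Sup X (RGD.Pos cs h))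
    (hP : (PJ cs h T X {i}).map α.toMonoidHom = PJ cs h T X {j}) :
    ∃ (β : MulAut Y) (σ : Equiv.Perm I), Diag T X β σ ∧ σ i = j := by
  have hG := KFacts.RgdFilt.GG_eq_top (T := T) hG1
  obtain ⟨u, hu, h1, hB, h2, -, -⟩ := exists_frame R hG (fix_iff.2 hU)
  obtain ⟨σ, hσ⟩ := exists_diag R hG h1 h2
  refine ⟨_, σ, hσ, ?_⟩
  -- `β (n i) ∈ P_j`
  have h3 : (MulAut.conj u * α) (n i) ∈ PJ cs h T X {j} := by
    rw [MulAut.mul_apply, MulAut.conj_apply]
    have hu' : u ∈ PJ cs h T X {j} := B_le_PJ (RGD.U_le_B hu)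
    refine mul_mem (mul_mem hu' ?_) (inv_mem hu')
    rw [← hP]
    exact ⟨n i, (n_mem_PJ_iff R).2 rfl, rfl⟩
  have h4 := (cell_mem_PJ_iff R (cell_of_rp (hσ.rp (R := R) i))).1 h3
  exact eq_of_simple_mem h h4

end Cfsg.Agent.H223.PMinRgd
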