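import Mathlib
import Cfsg.Prelude.Def_Local
import Cfsg.Agent.Lib.Cores
import Cfsg.Agent.Lib.CoprimeCommutator
import Cfsg.Agent.Lib.GenFitting
import Cfsg.Agent.SignalizersComponents.Components
import Cfsg.Agent.SignalizersComponents.CompBasic
import Cfsg.Agent.SignalizersComponents.FStarNormal

/-!
# Groups with `O_p = 1` and `p`-groups acting on them

* `quadratic_trivial`: `O_p(K) = 1`, `Y` a `p`-group normalising `K`, `[K,Y,Y] = 1` implies `[K,Y] = 1`;
* `split_of_fitting_sup_layer`: `O_p(L) = 1`, `L = F(L)E(L)`, `Y` a `p`-group normalising `L`, then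
  `L = [L,Y] C_L(Y)`;
* `commutator_stable_of_split`: then `[L,Y] = [L,Y,Y]`;
* `split_of_subnormal`: the same for `L ≤ F*(H)` subnormal in `H` with `O_p(H) = 1`.
-/

set_option autoImplicit false

set_option linter.style.haveILetI false

namespace Cfsg.Agent.H223.OpTrivial

open scoped commutatorElement

open Cfsg Subgroup
open Cfsg.Agent.Lib.Cores Cfsg.Agent.Lib.CoprimeCommutator
open Cfsg.Agent.SignalizersComponents.Components (component_le_or_commutator_eq_bot_of_le_normalizer
  commutator_eq_bot_of_commutator_commutator_eq_bot component_le_layer)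
open Cfsg.Agent.SignalizersComponents.CompBasic (map_subtype_pCore_of_subnormal)

variable {G : Type*} [Group G]

/-- If `x` normalises `A` then it normalises the image in `G` of a characteristic subgroup of `A`. -/
theorem normalizer_le_map_characteristic (A : Subgroup G) (C : Subgroup A) [hC : C.Characteristic] :
    normalizer (A : Set G) ≤ normalizer ((C.map A.subtype : Subgroup G) : Set G) := by
  intro x hx
  have hxA : ∀ a : A, x * (a : G) * x⁻¹ ∈ A := fun a => (mem_normalizer_iff.mp hx a).mp a.2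
  have hxA' : ∀ a : A, x⁻¹ * (a : G) * x ∈ A := fun a => by
    have := (mem_normalizer_iff.mp (inv_mem hx) a).mp a.2
    simpa using this
  let e : A ≃* A :=
    { toFun := fun a => ⟨x * a * x⁻¹, hxA a⟩
      invFun := fun a => ⟨x⁻¹ * a * x, hxA' a⟩
      left_inv := fun a => by ext; simp [mul_assoc]
      right_inv := fun a => by ext; simp [mul_assoc]
      map_mul' := fun a b => by ext; simp [mul_assoc] }
  have he : ∀ c : A, c ∈ C ↔ e c ∈ C := fun c => by
    have := (characteristic_iff_comap_eq.mp hC) e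
    conv_lhs => rw [← this]
    rfl
  rw [mem_normalizer_iff]
  intro g
  constructor
  · rintro ⟨c, hc, rfl⟩
    exact ⟨e c, (he c).mp hc, rfl⟩
  · rintro ⟨c, hc, hcg⟩
    refine ⟨e.symm c, ?_, ?_⟩
    · rw [SetLike.mem_coe, he]
      simpa using hc
    · have h1 : (A.subtype (e.symm c) : G) = x⁻¹ * (c : G) * x := rfl
      rw [h1]
      have h2 : (c : G) = x * g * x⁻¹ := hcg
      rw [h2]; group

/-- `[L,Y] ≤ L` if `Y` normalises `L`. -/
theorem commutator_le_of_norm {L Y : Subgroup G} (hYL : Y ≤ normalizer (L : Set G)) :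
    ⁅L, Y⁆ ≤ L := commutator_le_left hYL

/-- If `L = [L,Y] C_L(Y)` then `[L,Y] = [L,Y,Y]`. -/
theorem commutator_stable_of_split {L Y : Subgroup G} (hYL : Y ≤ normalizer (L : Set G))
    (h : ⁅L, Y⁆ ⊔ (L ⊓ centralizer (Y : Set G)) = L) : ⁅L, Y⁆ = ⁅⁅L, Y⁆, Y⁆ := by
  apply le_antisymm
  · have hMN : ⁅L, Y⁆ ≤ normalizer ((⁅⁅L, Y⁆, Y⁆ : Subgroup G) : Set G) :=
      left_le_normalizer_commutator _ _
    have hCN : L ⊓ centralizer (Y : Set G) ≤ normalizer ((⁅⁅L, Y⁆, Y⁆ : Subgroup G) : Set G) := by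
      intro c hc
      have hcL : ∀ x ∈ ⁅L, Y⁆, c * x * c⁻¹ ∈ ⁅L, Y⁆ := fun x hx =>
        (mem_normalizer_iff.mp (left_le_normalizer_commutator L Y hc.1) x).mp hx
      have hcL' : ∀ x ∈ ⁅L, Y⁆, c⁻¹ * x * c ∈ ⁅L, Y⁆ := fun x hx => by
        have := (mem_normalizer_iff.mp (inv_mem (left_le_normalizer_commutator L Y hc.1)) x).mp hx
        simpa using this
      have key : ∀ d : G, (∀ x ∈ ⁅L, Y⁆, d * x * d⁻¹ ∈ ⁅L, Y⁆) → (∀ y ∈ Y, d * y * d⁻¹ = y) →
          ∀ z ∈ (⁅⁅L, Y⁆, Y⁆ : Subgroup G), d * z * d⁻¹ ∈ (⁅⁅L, Y⁆, Y⁆ : Subgroup G) := by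
        intro d hd1 hd2 z hz
        have hle : (⁅⁅L, Y⁆, Y⁆ : Subgroup G) ≤
            (⁅⁅L, Y⁆, Y⁆ : Subgroup G).comap (MulAut.conj d).toMonoidHom := by
          rw [← Subgroup.map_le_iff_le_comap, Subgroup.map_commutator]
          apply commutator_mono
          · rintro _ ⟨x, hx, rfl⟩
            exact hd1 x hx
          · rintro _ ⟨y, hy, rfl⟩
            have : (MulAut.conj d).toMonoidHom y = y := hd2 y hy
            rw [this]; exact hy
        exact hle hz
      have hcy : ∀ y ∈ Y, c * y * c⁻¹ = y := fun y hy => by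
        have := (mem_centralizer_iff.mp hc.2) y hy
        rw [← this]; group
      have hcy' : ∀ y ∈ Y, c⁻¹ * y * c⁻¹⁻¹ = y := fun y hy => by
        have := (mem_centralizer_iff.mp hc.2) y hy
        rw [inv_inv, mul_assoc, this]; group
      rw [mem_normalizer_iff]
      intro z
      refine ⟨key c hcL hcy z, fun hz => ?_⟩
      have h1 := key c⁻¹ (fun x hx => by simpa using hcL' x hx) hcy' _ hz
      have h2 : c⁻¹ * (c * z * c⁻¹) * c⁻¹⁻¹ = z := by group
      rwa [h2] at h1
    have hLN : L ≤ normalizer ((⁅⁅L, Y⁆, Y⁆ : Subgroup G) : Set G) := by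
      conv_lhs => rw [← h]
      exact sup_le hMN hCN
    rw [Subgroup.commutator_le]
    intro l hl y hy
    -- the set of good elements is a subgroup
    let S : Subgroup G :=
      { carrier := {g | g ∈ L ∧ ⁅g, y⁆ ∈ (⁅⁅L, Y⁆, Y⁆ : Subgroup G)}
        one_mem' := ⟨one_mem _, by simp⟩
        mul_mem' := by
          rintro a b ⟨ha, ha'⟩ ⟨hb, hb'⟩
          refine ⟨mul_mem ha hb, ?_⟩
          have h1 : ⁅a * b, y⁆ = (a * ⁅b, y⁆ * a⁻¹) * ⁅a, y⁆ := by
            simp only [commutatorElement_def]; group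
          rw [h1]
          exact mul_mem ((mem_normalizer_iff.mp (hLN ha) _).mp hb') ha'
        inv_mem' := by
          rintro a ⟨ha, ha'⟩
          refine ⟨inv_mem ha, ?_⟩
          have h1 : ⁅a⁻¹, y⁆ = a⁻¹ * ⁅a, y⁆⁻¹ * a⁻¹⁻¹ := by
            simp only [commutatorElement_def]; group
          rw [h1]
          exact (mem_normalizer_iff.mp (hLN (inv_mem ha)) _).mp (inv_mem ha') }
    have hS : L ≤ S := by
      conv_lhs => rw [← h]
      refine sup_le ?_ ?_
      · intro m hm
        exact ⟨commutator_le_left hYL hm, commutator_mem_commutator hm hy⟩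
      · intro c hc
        refine ⟨hc.1, ?_⟩
        have h1 : ⁅c, y⁆ = 1 := by
          rw [commutatorElement_eq_one_iff_mul_comm]
          exact ((mem_centralizer_iff.mp hc.2) y hy).symm
        rw [h1]; exact one_mem _
    exact (hS hl).2
  · exact commutator_mono (commutator_le_left hYL) le_rfl

/-- `O_p(K) = 1`, `Y` a `p`-subgroup normalising `K`, `[K,Y,Y] = 1` implies `[K,Y] = 1`. -/
theorem quadratic_trivial {p : ℕ} (K : Subgroup G) (hO : pCore p ↥K = ⊥)
    (Y : Subgroup G) (hY : IsPGroup p ↥Y) (hYK : Y ≤ normalizer (K : Set G))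
    (hq : ⁅⁅K, Y⁆, Y⁆ = ⊥) : ⁅K, Y⁆ = ⊥ := by
  -- `[K,Y]` centralises `Y`; then `N = Y [K,Y]` is normalised by `K` and `Y`; `Y` is normal in `N`
  have hD : ⁅K, Y⁆ ≤ centralizer (Y : Set G) := commutator_eq_bot_iff_le_centralizer.mp hq
  -- `[K,Y]` is a `p`-group: `[K,Y] = Y^K ...`
  -- the subgroup `Z = K ⊓ (Y ⊔ [K,Y])`
  -- conjugates of `Y` by `K` lie in `Y ⊔ [K,Y]` and are normalised by it
  have hKN : K ≤ normalizer ((⁅K, Y⁆ : Subgroup G) : Set G) := left_le_normalizer_commutator K Y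
  have hmulK : ∀ k ∈ K, ∀ y ∈ Y, k * y * k⁻¹ ∈ Y ⊔ ⁅K, Y⁆ := by
    intro k hk y hy
    have h1 : k * y * k⁻¹ = ⁅k, y⁆ * y := by simp only [commutatorElement_def]; group
    rw [h1]
    exact mul_mem (le_sup_right (a := Y) (commutator_mem_commutator hk hy))
      (le_sup_left (b := ⁅K, Y⁆) hy)
  -- `⁅k,y⁆` commutes with `Y`; so `⁅k, y⁆ = (k y k⁻¹) y⁻¹` where the two factors commute
  -- every element of `[K,Y]` has `p`-power order because `[K,Y]` is abelian?
  -- we use: the map `y ↦ ⁅k,y⁆` and the normal closure.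
  -- `Y` is normal in `M = Y ⊔ [K,Y]`
  set M : Subgroup G := Y ⊔ ⁅K, Y⁆ with hM
  have hYM : M ≤ normalizer (Y : Set G) := by
    refine sup_le le_normalizer (hD.trans (centralizer_le_normalizer _))
  -- `M` is normalised by `K`
  have hKM : ∀ k ∈ K, ∀ m ∈ M, k * m * k⁻¹ ∈ M := by
    intro k hk m hm
    have hle : M ≤ M.comap (MulAut.conj k).toMonoidHom := by
      refine sup_le ?_ ?_
      · intro y hy; exact hmulK k hk y hy
      · intro x hx
        exact le_sup_right (a := Y) ((mem_normalizer_iff.mp (hKN hk) x).mp hx)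
    exact hle hm
  have hKMn : K ≤ normalizer (M : Set G) := by
    intro k hk
    rw [mem_normalizer_iff]
    intro m
    refine ⟨hKM k hk m, fun h => ?_⟩
    have := hKM k⁻¹ (inv_mem hk) _ h
    have h2 : k⁻¹ * (k * m * k⁻¹) * k⁻¹⁻¹ = m := by group
    rwa [h2] at this
  -- `O_p(M)` contains `Y` and is normalised by `K`
  have hYc : Y ≤ (pCore p ↥M).map M.subtype := by
    have h1 : Y.subgroupOf M ≤ pCore p ↥M := by
      refine le_pCore (normal_subgroupOf_of_le_normalizer hYM) ?_
      exact hY.comap_of_injective M.subtype M.subtype_injective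
    have h2 := Subgroup.map_mono (f := M.subtype) h1
    rwa [map_subgroupOf_eq_of_le le_sup_left] at h2
  haveI := pCore_characteristic (G := ↥M) p
  have hKc : K ≤ normalizer (((pCore p ↥M).map M.subtype : Subgroup G) : Set G) :=
    hKMn.trans (normalizer_le_map_characteristic M (pCore p ↥M))
  -- hence `[K,Y] ≤ O_p(M)`
  have h3 : ⁅K, Y⁆ ≤ (pCore p ↥M).map M.subtype := by
    rw [Subgroup.commutator_le]
    intro k hk y hy
    have h4 : ⁅k, y⁆ = (k * y * k⁻¹) * y⁻¹ := rfl
    rw [h4]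
    exact mul_mem ((mem_normalizer_iff.mp (hKc hk) y).mp (hYc hy)) (inv_mem (hYc hy))
  have hp : IsPGroup p (⁅K, Y⁆ : Subgroup G) := by
    refine IsPGroup.to_le ?_ h3
    exact (pCore_isPGroup (G := ↥M) p).map M.subtype
  -- and `[K,Y]` is normal in `K`
  have hKY : ⁅K, Y⁆ ≤ K := commutator_le_left hYK
  have h5 : (⁅K, Y⁆ : Subgroup G).subgroupOf K ≤ pCore p ↥K := by
    refine le_pCore (normal_subgroupOf_of_le_normalizer hKN) ?_
    exact hp.comap_of_injective K.subtype K.subtype_injective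
  rw [hO, le_bot_iff, subgroupOf_eq_bot] at h5
  have h6 := h5.eq_bot
  rwa [inf_eq_left.mpr hKY] at h6

/-- `p ∤ |F(L)|` if `O_p(L) = 1`. -/
theorem not_dvd_card_fitting {L : Type*} [Group L] [Finite L] {p : ℕ} [hp : Fact p.Prime]
    (hO : pCore p L = ⊥) : ¬ p ∣ Nat.card (fittingSubgroup L) := by
  intro hdvd
  obtain ⟨x, hx⟩ := exists_prime_orderOf_dvd_card' p hdvd
  have h1 : (x : L) ∈ pCore p L := by
    refine Cfsg.Agent.Lib.GenFitting.mem_pCore_of_mem_fitting (k := 1) x.2 ?_
    rw [pow_one, ← hx, ← SubgroupClass.coe_pow, pow_orderOf_eq_one]; rfl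
  rw [hO, mem_bot] at h1
  have h2 : x = 1 := Subtype.ext h1
  rw [h2, orderOf_one] at hx
  exact hp.out.one_lt.ne hx

/-- `O_p(L) = 1`, `L = F(L)E(L)`, `Y` a `p`-group normalising `L`: then `L = [L,Y] C_L(Y)`. -/
theorem split_of_fitting_sup_layer [Finite G] {p : ℕ} [Fact p.Prime] {L Y : Subgroup G}
    (hY : IsPGroup p Y) (hYL : Y ≤ normalizer (L : Set G)) (hO : pCore p ↥L = ⊥)
    (hL : fittingSubgroup ↥L ⊔ layer ↥L = ⊤) :
    ⁅L, Y⁆ ⊔ (L ⊓ centralizer (Y : Set G)) = L := by
  apply le_antisymm (sup_le (commutator_le_left hYL) inf_le_left)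
  have hLe : L = (fittingSubgroup ↥L).map L.subtype ⊔ (layer ↥L).map L.subtype := by
    rw [← Subgroup.map_sup, hL, ← MonoidHom.range_eq_map, range_subtype]
  haveI := fittingSubgroup_characteristic (G := ↥L)
  haveI := Cfsg.Agent.SignalizersComponents.Components.layer_characteristic ↥L
  have hYF : Y ≤ normalizer (((fittingSubgroup ↥L).map L.subtype : Subgroup G) : Set G) :=
    hYL.trans (normalizer_le_map_characteristic L _)
  have hYE : Y ≤ normalizer (((layer ↥L).map L.subtype : Subgroup G) : Set G) :=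
    hYL.trans (normalizer_le_map_characteristic L _)
  set F : Subgroup G := (fittingSubgroup ↥L).map L.subtype with hF
  set E : Subgroup G := (layer ↥L).map L.subtype with hE
  have hFL : F ≤ L := map_subtype_le _
  have hEL : E ≤ L := map_subtype_le _
  have hFc : ¬ p ∣ Nat.card F := by
    rw [hF, card_map_of_injective L.subtype_injective]
    exact not_dvd_card_fitting hO
  have hFs : F ≤ ⁅L, Y⁆ ⊔ (L ⊓ centralizer (Y : Set G)) := by
    intro k hk
    obtain ⟨m, hm, c, hc, rfl⟩ :=
      exists_commutator_mul_fixed_of_isPGroup p Y F hY hYF hFc k hk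
    exact mul_mem (le_sup_left (b := L ⊓ centralizer (Y : Set G)) (commutator_mono hFL le_rfl hm))
      (le_sup_right (a := ⁅L, Y⁆) ⟨hFL hc.1, hc.2⟩)
  have hEs : E ≤ ⁅L, Y⁆ ⊔ (L ⊓ centralizer (Y : Set G)) := by
    have hlay : layer ↥L ≤
        (⁅L, Y⁆ ⊔ (L ⊓ centralizer (Y : Set G))).comap L.subtype := by
      rw [Cfsg.Agent.SignalizersComponents.Components.layer_le_iff]
      intro K hK
      -- `[E,Y]` is normalised by `K`
      have hKE : K.map L.subtype ≤ E := map_mono (component_le_layer hK)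
      have hKn : K.map L.subtype ≤ normalizer ((⁅E, Y⁆ : Subgroup G) : Set G) :=
        hKE.trans (left_le_normalizer_commutator E Y)
      have hEY : ⁅E, Y⁆ ≤ L := (commutator_le_left hYE).trans hEL
      have hKn' : K ≤ normalizer (((⁅E, Y⁆ : Subgroup G).subgroupOf L : Subgroup L) : Set L) := by
        intro k hk
        rw [mem_normalizer_iff]
        intro x
        rw [mem_subgroupOf, mem_subgroupOf]
        exact mem_normalizer_iff.mp (hKn ⟨k, hk, rfl⟩) (x : G)
      rcases component_le_or_commutator_eq_bot_of_le_normalizer hK hKn' with h | h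
      · intro k hk
        rw [mem_comap]
        refine le_sup_left (b := L ⊓ centralizer (Y : Set G)) ?_
        exact commutator_mono hEL le_rfl (mem_subgroupOf.mp (h hk))
      · -- `[[Y,K],K] = 1`
        have hperf : Group.IsPerfect (K.map L.subtype) :=
          (Cfsg.Agent.SignalizersComponents.Components.isQuasisimple_of_mulEquiv
            (K.equivMapOfInjective L.subtype L.subtype_injective) hK.2).1
        have h1 : ⁅⁅Y, K.map L.subtype⁆, K.map L.subtype⁆ = ⊥ := by
          rw [commutator_eq_bot_iff_le_centralizer]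
          have h2 : ⁅Y, K.map L.subtype⁆ ≤ ⁅E, Y⁆ := by
            rw [commutator_comm]; exact commutator_mono hKE le_rfl
          refine h2.trans ?_
          intro x hx
          rw [mem_centralizer_iff]
          rintro _ ⟨k, hk, rfl⟩
          have h3 : ⁅k, (⟨x, hEY hx⟩ : L)⁆ ∈ ⁅K, (⁅E, Y⁆ : Subgroup G).subgroupOf L⁆ :=
            commutator_mem_commutator hk (mem_subgroupOf.mpr hx)
          rw [h, mem_bot, commutatorElement_eq_one_iff_mul_comm] at h3
          exact congrArg Subtype.val h3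
        have h4 := commutator_eq_bot_of_commutator_commutator_eq_bot hperf h1
        rw [commutator_comm, commutator_eq_bot_iff_le_centralizer] at h4
        intro k hk
        rw [mem_comap]
        refine le_sup_right (a := ⁅L, Y⁆) ⟨?_, h4 ⟨k, hk, rfl⟩⟩
        exact k.2
    intro x hx
    obtain ⟨l, hl, rfl⟩ := hx
    exact hlay hl
  conv_lhs => rw [hLe]
  exact sup_le hFs hEs

/-- Hypotheses for `L ≤ F*(H)` subnormal in `H`, `H ≤ G`. -/
theorem fitting_sup_layer_of_subnormal [Finite G] {H L : Subgroup G}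
    (hLF : L ≤ (generalizedFittingSubgroup ↥H).map H.subtype)
    (hLsn : (L.subgroupOf H).IsSubnormal) : fittingSubgroup ↥L ⊔ layer ↥L = ⊤ := by
  have hLH : L ≤ H := hLF.trans (map_subtype_le _)
  have h1 : L.subgroupOf H ≤ generalizedFittingSubgroup ↥H := by
    intro x hx
    obtain ⟨y, hy, hyx⟩ := hLF (mem_subgroupOf.mp hx)
    have : y = x := Subtype.ext hyx
    rwa [← this]
  have h2 := Cfsg.Agent.SignalizersComponents.FStarNormal.fitting_sup_layer_eq_top hLsn h1
  have e := subgroupOfEquivOfLe hLH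
  have h3 := congrArg (Subgroup.map e.toMonoidHom) h2
  rw [Subgroup.map_sup, map_equiv_fittingSubgroup,
    Cfsg.Agent.SignalizersComponents.Components.map_equiv_layer,
    Subgroup.map_top_of_surjective _ e.surjective] at h3
  exact h3

/-- `O_p(L) = 1` for `L` subnormal in `H` with `O_p(H) = 1`. -/
theorem pCore_eq_bot_of_subnormal {p : ℕ} {H L : Subgroup G} (hO : pCore p ↥H = ⊥) (hLH : L ≤ H)
    (hLsn : (L.subgroupOf H).IsSubnormal) : pCore p ↥L = ⊥ := by
  have h1 := map_subtype_pCore_of_subnormal p hLsn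
  rw [hO, inf_bot_eq, Subgroup.map_eq_bot_iff_of_injective _ (subtype_injective _)] at h1
  rw [← map_equiv_pCore (subgroupOfEquivOfLe hLH) p, h1, Subgroup.map_bot]

/-- **S2812.** -/
theorem split_of_subnormal [Finite G] {p : ℕ} [Fact p.Prime] {H Y L : Subgroup G}
    (hO : pCore p ↥H = ⊥) (hY : IsPGroup p ↥Y)
    (hLF : L ≤ (generalizedFittingSubgroup ↥H).map H.subtype)
    (hLsn : (L.subgroupOf H).IsSubnormal) (hYL : Y ≤ normalizer (L : Set G)) :
    ⁅L, Y⁆ ⊔ (L ⊓ centralizer (Y : Set G)) = L :=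
  split_of_fitting_sup_layer hY hYL
    (pCore_eq_bot_of_subnormal hO (hLF.trans (map_subtype_le _)) hLsn)
    (fitting_sup_layer_of_subnormal hLF hLsn)

end Cfsg.Agent.H223.OpTrivial
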