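import Mathlib
import Cfsg.Prelude.Def_Local
import Cfsg.Agent.H223.OpTrivial

/-!
# `F*` of subnormal subgroups; `p`-subgroups of groups with `O_p = 1`

* `genFitting_inf_subnormal`: `F*(G) ∩ B = F*(B)` for `B` subnormal in the finite group `G`;
* `commutator_genFitting_subnormal`: `O_p(G) = 1`, `Y ≤ K` subnormal, `Y` a `p`-group:
  `[F*(G),Y] = [F*(K),Y] = [F*(K),Y,Y]`;
* `eq_bot_of_commutator_genFitting`: `O_p(G) = 1`, `Y` a `p`-group with `[F*(G),Y] = 1`: `Y = 1`.
-/

set_option autoImplicit false
set_option linter.style.haveILetI false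

namespace Cfsg.Agent.H223.FStarSub

open scoped commutatorElement
open Cfsg Subgroup
open Cfsg.Agent.Lib.Cores Cfsg.Agent.Lib.CoprimeCommutator
open Cfsg.Agent.SignalizersComponents.FStarNormal
open Cfsg.Agent.SignalizersComponents.ComponentNormalize
open Cfsg.Agent.H223.OpTrivial

variable {G : Type*} [Group G]

/-- `F*(G) ∩ B = F*(B)` for `B` subnormal in the finite group `G`. -/
theorem genFitting_inf_subnormal [Finite G] {B : Subgroup G} (hB : B.IsSubnormal) :
    generalizedFittingSubgroup G ⊓ B = (generalizedFittingSubgroup B).map B.subtype := by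
  refine le_antisymm ?_
    (le_inf (genFitting_map_le_of_subnormal hB) (Subgroup.map_subtype_le _))
  have hFs : (generalizedFittingSubgroup G).Normal := genFitting_normal
  set N : Subgroup G := generalizedFittingSubgroup G ⊓ B with hN
  have hNn : N.IsSubnormal := hFs.isSubnormal.inf hB
  have h1 := fitting_sup_layer_eq_top hNn (inf_le_left : N ≤ _)
  have h2 : N = (fittingSubgroup N).map N.subtype ⊔ (layer N).map N.subtype := by
    rw [← Subgroup.map_sup, h1, ← MonoidHom.range_eq_map, Subgroup.range_subtype]
  rw [h2]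
  change _ ≤ (layer B ⊔ fittingSubgroup B).map B.subtype
  rw [Subgroup.map_sup, sup_comm]
  refine sup_le_sup ?_ ?_
  · change (sSup _ : Subgroup N).map _ ≤ _
    rw [sSup_eq_iSup', Subgroup.map_iSup]
    refine iSup_le ?_
    rintro ⟨K, hK⟩
    exact component_le_layer_map (component_map_subtype hNn hK)
      ((Subgroup.map_subtype_le _).trans inf_le_right)
  · rw [fitting_map_of_subnormal hNn, fitting_map_of_subnormal hB]
    exact inf_le_inf_left _ inf_le_right

/-- `O_p(G) = 1`: `F*(G) = [F*(G),Y] C_{F*(G)}(Y)` for a `p`-subgroup `Y`. -/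
theorem split_genFitting [Finite G] {p : ℕ} [Fact p.Prime] (hO : pCore p G = ⊥) {Y : Subgroup G}
    (hY : IsPGroup p Y) :
    ⁅generalizedFittingSubgroup G, Y⁆ ⊔ (generalizedFittingSubgroup G ⊓ centralizer (Y : Set G)) =
      generalizedFittingSubgroup G := by
  have hFs : (generalizedFittingSubgroup G).Normal := genFitting_normal
  refine split_of_fitting_sup_layer (p := p) hY ?_ ?_ ?_
  · rw [normalizer_eq_top]; exact le_top
  · have h1 := Cfsg.Agent.SignalizersComponents.CompBasic.map_subtype_pCore_of_subnormal p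
      hFs.isSubnormal
    rwa [hO, inf_bot_eq, Subgroup.map_eq_bot_iff_of_injective _ (subtype_injective _)] at h1
  · exact fitting_sup_layer_eq_top hFs.isSubnormal le_rfl

/-- `O_p(G) = 1`: `[F*(G),Y] = [F*(G),Y,Y]` for a `p`-subgroup `Y`. -/
theorem commutator_genFitting_stable [Finite G] {p : ℕ} [Fact p.Prime] (hO : pCore p G = ⊥)
    {Y : Subgroup G} (hY : IsPGroup p Y) :
    ⁅generalizedFittingSubgroup G, Y⁆ = ⁅⁅generalizedFittingSubgroup G, Y⁆, Y⁆ := by
  have hFs : (generalizedFittingSubgroup G).Normal := genFitting_normal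
  refine commutator_stable_of_split ?_ (split_genFitting hO hY)
  rw [normalizer_eq_top]; exact le_top

/-- `O_p(G) = 1`, `Y ≤ K` subnormal, `Y` a `p`-group: `[F*(G),Y] = [F*(K),Y]`. -/
theorem commutator_genFitting_subnormal [Finite G] {p : ℕ} [Fact p.Prime] (hO : pCore p G = ⊥)
    {Y K : Subgroup G} (hY : IsPGroup p Y) (hK : K.IsSubnormal) (hYK : Y ≤ K) :
    ⁅generalizedFittingSubgroup G, Y⁆ =
      ⁅(generalizedFittingSubgroup ↥K).map K.subtype, Y⁆ := by
  have hFs : (generalizedFittingSubgroup G).Normal := genFitting_normal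
  have hst := commutator_genFitting_stable hO hY
  -- the iterated commutators agree with `[F*,Y]`
  have hit : ∀ n, ⁅generalizedFittingSubgroup G, Y⁆ ≤
      Cfsg.Agent.SignalizersComponents.Components.itcomm ⊤ K n := by
    intro n
    induction n with
    | zero => exact le_top
    | succ n ih =>
      rw [Cfsg.Agent.SignalizersComponents.Components.itcomm_succ, hst]
      exact commutator_mono ih hYK
  obtain ⟨n, hn⟩ := Cfsg.Agent.SignalizersComponents.Components.exists_itcomm_top_le hK
  have h1 : ⁅generalizedFittingSubgroup G, Y⁆ ≤ K := (hit n).trans hn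
  have h2 : ⁅generalizedFittingSubgroup G, Y⁆ ≤ (generalizedFittingSubgroup ↥K).map K.subtype := by
    rw [← genFitting_inf_subnormal hK]
    refine le_inf (commutator_le_left ?_) h1
    rw [normalizer_eq_top]; exact le_top
  apply le_antisymm
  · conv_lhs => rw [hst]
    exact commutator_mono h2 le_rfl
  · exact commutator_mono (genFitting_map_le_of_subnormal hK) le_rfl

/-- `O_p(G) = 1`: a `p`-subgroup centralising `F*(G)` is trivial. -/
theorem eq_bot_of_commutator_genFitting [Finite G] {p : ℕ} [hp : Fact p.Prime]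
    (hO : pCore p G = ⊥) {Y : Subgroup G} (hY : IsPGroup p Y)
    (h : ⁅generalizedFittingSubgroup G, Y⁆ = ⊥) : Y = ⊥ := by
  have hFs : (generalizedFittingSubgroup G).Normal := genFitting_normal
  have h1 : Y ≤ centralizer (generalizedFittingSubgroup G : Set G) := by
    rw [commutator_comm] at h
    exact commutator_eq_bot_iff_le_centralizer.mp h
  have h2 : centralizer (generalizedFittingSubgroup G : Set G) ≤ generalizedFittingSubgroup G :=
    Cfsg.Agent.Lib.GenFitting.centralizer_genFitting_le
  -- `C(F*) = Z(F*)` is abelian and normal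
  have hCn : (centralizer (generalizedFittingSubgroup G : Set G)).Normal := inferInstance
  have hCc : IsMulCommutative (centralizer (generalizedFittingSubgroup G : Set G)) := by
    refine ⟨⟨fun a b => ?_⟩⟩
    apply Subtype.ext
    exact (mem_centralizer_iff.mp b.2 a (h2 a.2))
  have hCnil : Group.IsNilpotent (centralizer (generalizedFittingSubgroup G : Set G)) := by
    letI : CommGroup (centralizer (generalizedFittingSubgroup G : Set G)) :=
      { (inferInstance : Group (centralizer (generalizedFittingSubgroup G : Set G))) with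
        mul_comm := hCc.is_comm.comm }
    infer_instance
  rw [eq_bot_iff]
  intro y hy
  obtain ⟨k, hk⟩ := hY ⟨y, hy⟩
  have hk' : y ^ p ^ k = 1 := congrArg Subtype.val hk
  have h3 := Cfsg.Agent.Lib.GenFitting.mem_pCore_of_mem_nilpotent_normal hCn hCnil (h1 hy) hk'
  rwa [hO] at h3

end Cfsg.Agent.H223.FStarSub
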