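import Cfsg.Agent.H223.NoEvU4B
import Cfsg.Agent.H818.StrP.Own
import Cfsg.Agent.H242.StrP.Uni
import Cfsg.Agent.S0283

/-!
# `NoEv` for `PSU_4(q)`, `q` odd (for S3002, S2993; task 2044)

* `noEv_own` : `NoEv (PSU n K q)` for `n ≥ 4` in characteristic `p ≥ 5`;
* `noEv_cross` : `NoEv (PSU n K q)` for `n ≥ 4`, `q` odd, if a prime `r ≥ 5` divides `q + 1` and not `n`;
* `noEv_psu4`.
-/

set_option autoImplicit false
set_option linter.unusedSectionVars false
set_option linter.unusedFintypeInType false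
set_option linter.unusedDecidableInType false

namespace Cfsg.Agent.H223.EvU

open Subgroup Cfsg Matrix
open Cfsg.Agent.LieClassical.HermSiegel Cfsg.Agent.LieClassical.HermBasic
open Cfsg.Agent.ClassicalGeometry.UnitAutBasic (pr pr_surjective exists_scalar_of_mem_center)
open Cfsg.Agent.H254.Ev

variable {K : Type} [Field K] [Fintype K] {q n : ℕ}

theorem key (hK : Fintype.card K = q ^ 2) (hn : 4 ≤ n) (h2 : (2 : K) ≠ 0) (ho : Odd q) {r : ℕ} [hr : Fact r.Prime]
    (h5 : 5 ≤ r) (hno : H998.StrP.NoSP r (PSU n K q))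
    (hex : ∀ (s : SU n K q) (μ : K), Lift hK s μ → ∃ y : SU n K q, s * y = y * s ∧ y ^ r = 1 ∧
      ¬ ∃ κ : K, ∀ x, act y x = κ • x) : NoEv (PSU n K q) := by
  have hfin : Finite (PSU n K q) := inferInstance
  have hsimp : IsSimpleGroup (PSU n K q) := S0283.result hK n (by omega) (by omega)
  rintro H hH ⟨t, ht, ht4⟩
  have hHt : H ≠ ⊤ := ne_top_of_exact (k := 4) (by norm_num) ht4
  obtain ⟨a, ha, ha4⟩ := exists_conj_exact (k := 4) (by norm_num) ht4
  obtain ⟨t', ht'⟩ : ∃ t', t' = a⁻¹ * t * a := ⟨_, rfl⟩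
  rw [← ht'] at ha
  have ht'o : orderOf t' = 2 := by
    rw [ht', ← ht]
    have := (MulAut.conj a⁻¹).orderOf_eq t
    simpa using this
  have ht'1 : t' ≠ 1 := by
    intro h
    rw [h, orderOf_one] at ht'o
    omega
  obtain ⟨s, μ, hs, hL⟩ := exists_lift hK (by omega) h2 ho ht'o
  obtain ⟨y, hsy, hyr, hns⟩ := hex s μ hL
  have hy1 : pr n K q y ≠ 1 := by
    intro h
    obtain ⟨c, -, hc⟩ := exists_scalar_of_mem_center hK (by omega) ((QuotientGroup.eq_one_iff _).1 h)
    exact hns ⟨c, hc⟩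
  have hyo : orderOf (pr n K q y) = r := orderOf_eq_prime (by rw [← map_pow, hyr, map_one]) hy1
  have hyH : pr n K q y ∈ H := by
    refine hH.mem_of_comm le_rfl ha ht'1 ?_ ?_
    · rw [← hs, ← map_mul, ← map_mul, hsy]
    · rw [hyo]
      exact H254.Fx.coprime_six_of_prime hr.out h5
  refine hH.false_of_noSP le_rfl hHt hr.out h5 ?_ hno
  rw [← hyo]
  exact Subgroup.orderOf_dvd_natCard _ hyH

/-- **Own characteristic at least five.** -/
theorem noEv_own (hK : Fintype.card K = q ^ 2) (hn : 4 ≤ n) {p : ℕ} [hp : Fact p.Prime] [hcp : CharP K p] (hp5 : 5 ≤ p) :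
    NoEv (PSU n K q) := by
  have hfin : Finite (PSU n K q) := inferInstance
  have h2 : (2 : K) ≠ 0 := by
    intro h
    have h3 : p ∣ 2 := (CharP.cast_eq_zero_iff K p 2).1 (by exact_mod_cast h)
    have := Nat.le_of_dvd (by norm_num) h3
    omega
  have ho : Odd q := by
    obtain ⟨r, k, hr, hrc, hk, hk0⟩ := LieClassical.HermBasic.exists_prime_pow hK
    have h1 : r = p := CharP.eq K hrc hcp
    rw [hk]
    exact (hr.odd_of_ne_two (by omega)).pow
  refine key hK hn h2 ho hp5 (H818.StrP.Own.hasRGD2_PSU hK hn).noSP ?_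
  intro s μ hL
  obtain ⟨y, hsy, hy1, hy⟩ := exists_unip hK hn hL
  refine ⟨y, hsy, ?_, ?_⟩
  · obtain ⟨N, hN⟩ : ∃ N, N = mat y - 1 := ⟨_, rfl⟩
    have hNx : ∀ x, N *ᵥ x = act y x - x := by
      intro x
      rw [hN, sub_mulVec, one_mulVec]
      rfl
    have hN2 : N * N = 0 := by
      apply Matrix.ext_of_mulVec_single
      intro i
      rw [← mulVec_mulVec, zero_mulVec, hNx, hNx, hy, sub_self]
    apply mat_injective
    have h6 : ∀ k, mat (y ^ k) = mat y ^ k := by
      intro k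
      induction k with
      | zero => rw [pow_zero, pow_zero, mat_one]
      | succ k ih => rw [pow_succ, pow_succ, mat_mul, ih]
    have h1 : mat y = 1 + N := by rw [hN]; abel
    have hne : Nonempty (Fin n) := ⟨⟨0, by omega⟩⟩
    rw [h6, mat_one, h1, add_pow_char_of_commute (p := p) (Commute.one_left _), one_pow]
    obtain ⟨k, hk⟩ : ∃ k, p = 2 + k := ⟨p - 2, by omega⟩
    rw [hk, pow_add, pow_two, hN2, zero_mul, add_zero]
  · rintro ⟨κ, hκ⟩
    apply hy1
    obtain ⟨x, hx⟩ : ∃ x : Fin n → K, x ≠ 0 := ⟨Pi.single ⟨0, by omega⟩ 1, fun h => by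
      have := congrFun h ⟨0, by omega⟩
      rw [Pi.single_eq_same] at this
      exact one_ne_zero this⟩
    have h1 := hy x
    simp only [hκ] at h1
    have h3 : ((κ - 1) * (κ - 1)) • x = 0 := by
      have := sub_eq_zero.2 h1
      rw [← this]
      funext i
      simp only [Pi.sub_apply, Pi.smul_apply, smul_eq_mul]
      ring
    have h4 : κ = 1 := sub_eq_zero.1 (mul_self_eq_zero.1 ((smul_eq_zero.1 h3).resolve_right hx))
    apply ext_act
    intro z
    rw [hκ, h4, one_smul, act_one]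

/-- **Cross characteristic.** -/
theorem noEv_cross (hK : Fintype.card K = q ^ 2) (hn : 4 ≤ n) (ho : Odd q) {r : ℕ} [hr : Fact r.Prime] (h5 : 5 ≤ r)
    (hrq : r ∣ q + 1) (hrn : ¬ r ∣ n) : NoEv (PSU n K q) := by
  have hfin : Finite (PSU n K q) := inferInstance
  have hsimp : IsSimpleGroup (PSU n K q) := S0283.result hK n (by omega) (by omega)
  obtain ⟨p, k, hp, hpc, hk, hk0⟩ := LieClassical.HermBasic.exists_prime_pow hK
  have hpf : Fact p.Prime := ⟨hp⟩
  have hp2 : p ≠ 2 := by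
    rintro rfl
    rw [hk] at ho
    have := (Nat.even_pow.2 ⟨even_two, hk0.ne'⟩ : Even (2 ^ k))
    exact (Nat.not_even_iff_odd.2 ho) this
  have h2 : (2 : K) ≠ 0 := by
    intro h
    have h3 : p ∣ 2 := (CharP.cast_eq_zero_iff K p 2).1 (by exact_mod_cast h)
    exact hp2 ((Nat.prime_dvd_prime_iff_eq hp Nat.prime_two).1 h3)
  have hrp : r ≠ p := by
    rintro rfl
    have h3 : r ∣ q := by rw [hk]; exact dvd_pow_self r hk0.ne'
    have h4 : r ∣ 1 := (Nat.dvd_add_right h3).1 hrq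
    have := Nat.le_of_dvd (by norm_num) h4
    omega
  refine key hK hn h2 ho h5 ?_ fun s μ hL => exists_tor hK (by omega) hL hrq hrn
  -- a root of unity
  obtain ⟨g, hg1, hg⟩ := H724.UThree.exists_gen_norm hK
  obtain ⟨m, hm⟩ := hrq
  have hgq : g ^ (q + 1) = 1 := by rw [pow_succ', hg1]
  have hg0 : g ≠ 0 := left_ne_zero_of_mul_eq_one hg1
  have hm0 : 0 < m := by
    rcases Nat.eq_zero_or_pos m with h1 | h1
    · rw [h1, mul_zero] at hm
      omega
    · exact h1
  have hna : ¬ IsMulCommutative (PSU n K q) :=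
    Cfsg.Agent.CpAut.Fix.not_comm_quot (H := ↥(Cfsg.SU n K q)) (hs := hsimp)
  refine H242.StrP.Uni.noSP_of_root (r := p) (p := r) (G := PSU n K q) hK hn hna hrp (by omega) (MulEquiv.refl _)
    (w := Units.mk0 g hg0 ^ m) ?_ ?_ ?_
  · rw [← pow_mul, mul_comm, ← hm]
    apply Units.ext
    rw [Units.val_pow_eq_pow_val, Units.val_mk0, hgq, Units.val_one]
  · intro h
    have h1 : g ^ m = 1 := by
      have := congrArg (Units.val) h
      rwa [Units.val_pow_eq_pow_val, Units.val_mk0, Units.val_one] at this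
    have h3 := Nat.le_of_dvd hm0 (hg m h1)
    have h4 : 2 * m ≤ r * m := Nat.mul_le_mul_right m hr.out.two_le
    omega
  · apply Units.ext
    rw [Units.val_pow_eq_pow_val, Units.val_pow_eq_pow_val, Units.val_mk0, ← pow_mul, mul_comm, pow_mul, hgq, one_pow,
      Units.val_one]

/-- an odd prime power `q = 3 ^ k ≥ 5`: `q + 1` has a prime divisor `≥ 5` -/
theorem exists_prime {k : ℕ} (hk : 5 ≤ 3 ^ k) : ∃ r : ℕ, r.Prime ∧ 5 ≤ r ∧ r ∣ 3 ^ k + 1 := by
  by_contra hcon
  push Not at hcon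
  -- `3 ^ k + 1` is a power of two
  have h3 : ¬ 3 ∣ 3 ^ k + 1 := by
    have hk0 : k ≠ 0 := by
      rintro rfl
      norm_num at hk
    intro h
    have h1 : 3 ∣ 1 := (Nat.dvd_add_right (dvd_pow_self 3 hk0)).1 h
    omega
  have h8 : ¬ 8 ∣ 3 ^ k + 1 := by
    intro h
    have h1 : (3 ^ k + 1) % 8 = 0 := Nat.mod_eq_zero_of_dvd h
    have h2 : ∀ k : ℕ, 3 ^ k % 8 = 1 ∨ 3 ^ k % 8 = 3 := by
      intro k
      induction k with
      | zero => left; rfl
      | succ k ih => rw [pow_succ]; omega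
    have := h2 k
    omega
  have h2 : ∀ r : ℕ, r.Prime → r ∣ 3 ^ k + 1 → r = 2 := by
    intro r hr hd
    have h1 := hr.two_le
    by_contra hne
    rcases Nat.lt_or_ge r 5 with h5 | h5
    · have : r = 3 ∨ r = 4 := by omega
      rcases this with rfl | rfl
      · exact h3 hd
      · exact absurd hr (by norm_num)
    · exact hcon r hr h5 hd
  have h4 : ∃ j, 3 ^ k + 1 = 2 ^ j := by
    refine ⟨_, Nat.eq_prime_pow_of_unique_prime_dvd (by positivity) fun {d} hd hdd => h2 d hd hdd⟩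
  obtain ⟨j, hj⟩ := h4
  have h5 : j < 3 := by
    by_contra h6
    apply h8
    rw [hj]
    exact pow_dvd_pow 2 (by omega : 3 ≤ j)
  have h6 : 2 ^ j ≤ 2 ^ 2 := Nat.pow_le_pow_right (by norm_num) (by omega)
  omega

/-- **`PSU_4(q)`, `q ≥ 5` odd.** -/
theorem noEv_psu4 {q : ℕ} (K : Type) [Field K] [Fintype K] (hK : Fintype.card K = q ^ 2) (ho : Odd q) (hq : 5 ≤ q) :
    NoEv (Cfsg.PSU 4 K q) := by
  obtain ⟨p, k, hp, hpc, hk, hk0⟩ := LieClassical.HermBasic.exists_prime_pow hK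
  have hpf : Fact p.Prime := ⟨hp⟩
  by_cases hp5 : 5 ≤ p
  · exact noEv_own hK le_rfl hp5
  · have hp3 : p = 3 := by
      have h2 := hp.two_le
      have : p = 2 ∨ p = 3 ∨ p = 4 := by omega
      rcases this with rfl | rfl | rfl
      · exfalso
        rw [hk] at ho
        exact (Nat.not_even_iff_odd.2 ho) (Nat.even_pow.2 ⟨even_two, hk0.ne'⟩)
      · rfl
      · exact absurd hp (by norm_num)
    subst hp3
    obtain ⟨r, hr, hr5, hrq⟩ := exists_prime (k := k) (by rw [← hk]; exact hq)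
    have hrf : Fact r.Prime := ⟨hr⟩
    refine noEv_cross hK le_rfl ho hr5 (by rw [hk]; exact hrq) ?_
    intro h
    have := Nat.le_of_dvd (by norm_num) h
    omega

end Cfsg.Agent.H223.EvU
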