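import Mathlib
import Cfsg.Prelude.Def_AlmostLie
import Cfsg.Agent.H223.PMinRgd

set_option autoImplicit false
set_option linter.style.haveILetI false
set_option linter.unusedSectionVars false

/-!
# p-minimal groups with a normal subgroup of Lie type: the framework

* `PGood p Y` : the conclusion of the theorem for all `p`-minimal `X` with a normal subgroup isomorphic to `Y`;
* `PGood.congr`, `PGood.final` : transport;
* `pgood_of_psys` : rank one;
* `pgood_of_rgd` : root group data.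
-/

namespace Cfsg.Agent.H223.PMinGood

open Subgroup Cfsg Cfsg.Agent.H223.PMinSys

universe u v w

/-- The three exceptional cases of rank two. -/
def Rk2 (K : Type*) [Group K] : Prop :=
  (∃ (F : Type) (_ : Field F) (_ : Fintype F) (_ : CharP F 2),
    Nonempty (K ≃* Matrix.ProjectiveSpecialLinearGroup (Fin 3) F)) ∨
  (∃ (F : Type) (_ : Field F) (_ : Fintype F) (_ : CharP F 2), 4 ≤ Fintype.card F ∧ Nonempty (K ≃* Cfsg.PSp 2 F)) ∨
  Nonempty (K ≃* ↥(alternatingGroup (Fin 6)))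

def Res (p : ℕ) (K : Type*) [Group K] (b : Prop) : Prop :=
  Cfsg.IsLieRankOneChar p K ∨ (p = 2 ∧ b ∧ Rk2 K)

theorem Rk2.congr {K : Type v} {L : Type w} [Group K] [Group L] (e : K ≃* L) (h : Rk2 K) : Rk2 L := by
  rcases h with ⟨F, i1, i2, i3, ⟨f⟩⟩ | ⟨F, i1, i2, i3, h4, ⟨f⟩⟩ | ⟨⟨f⟩⟩
  · exact Or.inl ⟨F, i1, i2, i3, ⟨e.symm.trans f⟩⟩
  · exact Or.inr (Or.inl ⟨F, i1, i2, i3, h4, ⟨e.symm.trans f⟩⟩)
  · exact Or.inr (Or.inr ⟨e.symm.trans f⟩)

theorem rankOne_congr {p : ℕ} {K : Type v} {L : Type w} [Group K] [Group L] (e : K ≃* L)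
    (h : Cfsg.IsLieRankOneChar p K) : Cfsg.IsLieRankOneChar p L := by
  rcases h with ⟨F, i1, i2, i3, h4, ⟨f⟩⟩ | ⟨F, i1, i2, i3, q, h4, h5, ⟨f⟩⟩ | ⟨hp, h⟩ | ⟨hp, h | ⟨F, i1, i2, i3, ⟨f⟩⟩⟩
  · exact Or.inl ⟨F, i1, i2, i3, h4, ⟨e.symm.trans f⟩⟩
  · exact Or.inr (Or.inl ⟨F, i1, i2, i3, q, h4, h5, ⟨e.symm.trans f⟩⟩)
  · obtain ⟨K', i1, i2, m, hm, hK, ⟨f⟩⟩ := h
    exact Or.inr (Or.inr (Or.inl ⟨hp, K', i1, i2, m, hm, hK, ⟨e.symm.trans f⟩⟩))
  · obtain ⟨K', i1, i2, m, hm, hK, ⟨f⟩⟩ := h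
    exact Or.inr (Or.inr (Or.inr ⟨hp, Or.inl ⟨K', i1, i2, m, hm, hK, ⟨e.symm.trans f⟩⟩⟩))
  · exact Or.inr (Or.inr (Or.inr ⟨hp, Or.inr ⟨F, i1, i2, i3, ⟨e.symm.trans f⟩⟩⟩))

theorem Res.congr {p : ℕ} {K : Type v} {L : Type w} [Group K] [Group L] (e : K ≃* L) {b c : Prop} (hbc : b → c)
    (h : Res p K b) : Res p L c := by
  rcases h with h | ⟨hp, hb, h⟩
  · exact Or.inl (rankOne_congr e h)
  · exact Or.inr ⟨hp, hbc hb, h.congr e⟩

/-- The conclusion for all `p`-minimal `X` with a normal subgroup isomorphic to `Y`. -/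
def PGood (p : ℕ) (Y : Type v) [Group Y] : Prop :=
  ∀ (X : Type u) [Group X] [Finite X] (f : Y →* X), Function.Injective f → f.range.Normal → IsPMinimal p X →
    (∃ U : Subgroup Y, IsPGroup p U ∧ ¬ p ∣ U.index ∧ IsCoatom (normalizer (U.map f : Set X))) ∧ Res p Y (f.range ≠ ⊤)

theorem PGood.congr {p : ℕ} {Y : Type v} {Z : Type w} [Group Y] [Group Z] (e : Y ≃* Z) (h : PGood.{u} p Y) :
    PGood.{u} p Z := by
  intro X _ _ f hf hn hX
  have hr : (f.comp e.toMonoidHom).range = f.range := by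
    rw [MonoidHom.range_comp, MonoidHom.range_eq_top_of_surjective _ e.surjective, ← MonoidHom.range_eq_map]
  obtain ⟨⟨U, hU, hi, hc⟩, hR⟩ := h X (f.comp e.toMonoidHom) (hf.comp e.injective) (by rw [hr]; exact hn) hX
  refine ⟨⟨U.map e.toMonoidHom, hU.map _, ?_, ?_⟩, hR.congr e fun hb => by rwa [hr] at hb⟩
  · rwa [Subgroup.index_map_of_bijective (f := e.toMonoidHom) e.bijective]
  · rw [Subgroup.map_map]
    exact hc

/-- The final form. -/
theorem PGood.final {p : ℕ} [Fact p.Prime] {X : Type u} [Group X] [Finite X] {K : Subgroup X} (hK : K.Normal)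
    (h : PGood.{u} p K) (hX : IsPMinimal p X) (U : Sylow p K) :
    IsCoatom (normalizer (((U : Subgroup K).map K.subtype : Subgroup X) : Set X)) ∧ Res p K (K ≠ ⊤) := by
  obtain ⟨⟨V, hV, hi, hc⟩, hR⟩ := h X K.subtype K.subtype_injective (by rw [K.range_subtype]; exact hK) hX
  rw [K.range_subtype] at hR
  refine ⟨?_, hR⟩
  obtain ⟨k, hk⟩ := MulAction.exists_smul_eq K (hV.toSylow hi) U
  have h1 : (U : Subgroup K) = V.map (MulAut.conj k).toMonoidHom := by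
    rw [← hk]
    rfl
  have h2 : (U : Subgroup K).map K.subtype = (V.map K.subtype).map (MulAut.conj (k : X)).toMonoidHom := by
    rw [h1, Subgroup.map_map, Subgroup.map_map]
    congr 1
  have h3 : normalizer (((U : Subgroup K).map K.subtype : Subgroup X) : Set X) =
      (MulEquiv.mapSubgroup (MulAut.conj (k : X))) (normalizer (V.map K.subtype : Set X)) := by
    rw [h2]
    exact (Subgroup.map_equiv_normalizer_eq (V.map K.subtype) (MulAut.conj (k : X))).symm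
  rw [h3, OrderIso.isCoatom_iff]
  exact hc

theorem pgood_of_sys {p : ℕ} [Fact p.Prime] {Y : Type v} [Group Y] {ι : Type w} [Nonempty ι] (Z : PSys p Y ι)
    (h : ∀ (X : Type u) [Group X] [Finite X] (f : Y →* X), Function.Injective f → f.range.Normal → IsPMinimal p X →
      (∀ i j, ∃ α : MulAut Y, Z.U.map α.toMonoidHom = Z.U ∧
        (Z.e {i} : Subgroup Y).map α.toMonoidHom = (Z.e {j} : Subgroup Y)) →
      (∀ i j : ι, i ≠ j → f.range ≠ ⊤) → (∀ i j : ι, i ≠ j → (∀ k, k = i ∨ k = j) → p = 2) →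
      Res p Y (f.range ≠ ⊤)) : PGood.{u} p Y := by
  intro X _ _ f hf hn hX
  obtain ⟨h1, h2, h3, h4⟩ := PMinSys.main hX f hf hn Z
  exact ⟨⟨Z.U, Z.isP, Z.idx, h1⟩, h X f hf hn hX h2 h3 h4⟩

/-- rank one -/
theorem pgood_of_rankOne {p : ℕ} [Fact p.Prime] {Y : Type v} [Group Y] {ι : Type w} [Nonempty ι] (Z : PSys p Y ι)
    (h : IsLieRankOneChar p Y) : PGood.{u} p Y :=
  pgood_of_sys Z fun _ _ _ _ _ _ _ _ _ _ => Or.inl h

/-- rank two, with transitive automorphisms -/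
theorem pgood_of_rankTwo {p : ℕ} [Fact p.Prime] {Y : Type v} [Group Y] {ι : Type w} [Nonempty ι] (Z : PSys p Y ι)
    {i j : ι} (hij : i ≠ j) (hk : ∀ k, k = i ∨ k = j) (h : p = 2 → Rk2 Y) : PGood.{u} p Y :=
  pgood_of_sys Z fun _ _ _ _ _ _ _ _ h3 h4 =>
    have hp := h4 i j hij hk
    Or.inr ⟨hp, h3 i j hij, h hp⟩

/-- two nodes which are not conjugate -/
theorem pgood_of_sep {p : ℕ} [Fact p.Prime] {Y : Type v} [Group Y] {ι : Type w} [Nonempty ι] (Z : PSys p Y ι)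
    {i j : ι} (h : ∀ α : MulAut Y, Z.U.map α.toMonoidHom = Z.U →
      (Z.e {i} : Subgroup Y).map α.toMonoidHom ≠ (Z.e {j} : Subgroup Y)) : PGood.{u} p Y :=
  pgood_of_sys Z fun _ _ _ _ _ _ _ h2 _ _ =>
    have ⟨α, h5, h6⟩ := h2 i j
    absurd h6 (h α h5)

section rgd

open CoxeterSystem Cfsg.Agent.ChevalleyStructure.CoxeterGeom Cfsg.Agent.Tits.Roots Cfsg.Agent.Tits.Core
  Cfsg.Agent.Nodes.BNOf Cfsg.Agent.Nodes.Reps
  Cfsg.Agent.KFacts.RgdAut Cfsg.Agent.KFacts.RgdDiag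

variable {I W : Type*} {Y : Type v} [Fintype I] [DecidableEq I] [Group W] [Group Y] {M : CoxeterMatrix I}
  {cs : CoxeterSystem M W} {A : I → I → ℤ} {h : IsCartan M A} {p : ℕ} {T : Subgroup Y} {n : I → Y}
  {X : (I → ℤ) → Subgroup Y}
  (R : RGD cs h p T n X) (hG1 : RGD.Sup X {x | IsRoot cs h x} = ⊤)

include R hG1

theorem rgd_sep [Finite W] [Finite Y] [Fact p.Prime] {i j : I} (hs : ∀ β σ, Diag T X β σ → σ i ≠ j) : PGood.{u} p Y := by
  haveI : Nonempty I := ⟨i⟩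
  refine pgood_of_sep (PMinRgd.psys R hG1) (i := i) (j := j) fun α hU hP => ?_
  obtain ⟨β, σ, D, hσ⟩ := PMinRgd.exists_diag_of_map R hG1 hU hP
  exact hs β σ D hσ

/-- the number of neighbours of a node (itself included) -/
def val {I : Type*} [Fintype I] (M : CoxeterMatrix I) (i : I) : ℕ := (Finset.univ.filter fun j => M i j ≠ 2).card

omit R hG1 in
theorem val_comp {σ : Equiv.Perm I} (hσ : ∀ i j, M (σ i) (σ j) = M i j) (i : I) : val M (σ i) = val M i := by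
  unfold val
  symm
  apply Finset.card_bij (fun j _ => σ j)
  · intro j hj
    simp only [Finset.mem_filter, Finset.mem_univ, true_and] at hj ⊢
    rwa [hσ]
  · intro a _ b _ hab
    exact σ.injective hab
  · intro b hb
    refine ⟨σ.symm b, ?_, σ.apply_symm_apply b⟩
    simp only [Finset.mem_filter, Finset.mem_univ, true_and] at hb ⊢
    rw [← hσ, σ.apply_symm_apply]
    exact hb

theorem rgd_val [Finite W] [Finite Y] [Fact p.Prime] {i j : I} (hs : val M i ≠ val M j) : PGood.{u} p Y := by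
  refine rgd_sep R hG1 (i := i) (j := j) fun β σ D hσ => hs ?_
  rw [← hσ, val_comp (D.matrix R)]

theorem rgd_card [Finite W] [Finite Y] [Fact p.Prime] {i j : I}
    (hs : Nat.card (X (sr i)) ≠ Nat.card (X (sr j))) : PGood.{u} p Y := by
  refine rgd_sep R hG1 (i := i) (j := j) fun β σ D hσ => hs ?_
  rw [← hσ]
  exact (KFacts.RgdNodes.Diag.card_eq D i).symm

theorem rgd_rankOne [Nonempty I] [Finite W] [Finite Y] [Fact p.Prime] (hY : IsLieRankOneChar p Y) : PGood.{u} p Y :=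
  pgood_of_rankOne (PMinRgd.psys R hG1) hY

theorem rgd_rankTwo [Finite W] [Finite Y] [Fact p.Prime] {i j : I} (hij : i ≠ j) (hk : ∀ k, k = i ∨ k = j)
    (hY : p = 2 → Rk2 Y) : PGood.{u} p Y :=
  haveI : Nonempty I := ⟨i⟩
  pgood_of_rankTwo (PMinRgd.psys R hG1) hij hk hY

theorem rgd_rankTwo_sep [Finite W] [Finite Y] [Fact p.Prime] {i j : I} (hij : i ≠ j) (hk : ∀ k, k = i ∨ k = j)
    (hs : p = 2 → ∀ β σ, Diag T X β σ → σ i ≠ j) : PGood.{u} p Y := by
  by_cases hp : p = 2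
  · exact rgd_sep R hG1 (hs hp)
  · exact rgd_rankTwo R hG1 hij hk fun h => absurd h hp

end rgd

end Cfsg.Agent.H223.PMinGood
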