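import Mathlib
import Cfsg.Agent.H223.PMinGood

set_option autoImplicit false
set_option linter.style.haveILetI false
set_option linter.unusedSectionVars false

/-!
# p-minimal groups: two invariant subgroups

`pgood_of_two` : `K` simple, normal in `H` with `H / K` a `p`-group, `H` containing a Sylow `p`-subgroup `U` of `Aut K`
(of order `p ^ a`), and two proper overgroups `P`, `Q` of `U` generating `H`: then no `p`-minimal group has a normal
subgroup isomorphic to `K`.
-/

namespace Cfsg.Agent.H223.PMinTwo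

open Subgroup Cfsg Cfsg.Agent.H223.PMinSys Cfsg.Agent.H223.PMinGood

universe u v w

variable {p : ℕ} [Fact p.Prime] {H : Type w} {K : Type v} [Group H] [Group K] (j : K →* H)
  (hj : Function.Injective j) (hjn : j.range.Normal)

include hj hjn in
/-- the intersections with `K` generate `K` -/
theorem comap_sup [IsSimpleGroup K] {U P Q : Subgroup H} (hUP : U ≤ P) (hUQ : U ≤ Q) (hUK : U ⊔ j.range = ⊤)
    (hP : P ≠ ⊤) (_hQ : Q ≠ ⊤) (hPQ : P ⊔ Q = ⊤) : P.comap j ⊔ Q.comap j = ⊤ := by
  haveI := hjn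
  -- `P = U (P ∩ K)`
  have key : ∀ R : Subgroup H, U ≤ R → ∀ g ∈ R, ∃ u ∈ U, ∃ k ∈ R.comap j, g = u * j k := by
    intro R hR g hg
    have h1 : g ∈ U ⊔ j.range := by rw [hUK]; trivial
    rw [← SetLike.mem_coe, Subgroup.mul_normal] at h1
    obtain ⟨u, hu, _, ⟨k, rfl⟩, e⟩ := h1
    have e' : u * j k = g := e
    refine ⟨u, hu, k, ?_, e'.symm⟩
    rw [Subgroup.mem_comap]
    have : j k = u⁻¹ * g := by rw [← e']; group
    rw [this]
    exact mul_mem (inv_mem (hR hu)) hg
  set L : Subgroup K := P.comap j ⊔ Q.comap j with hL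
  have hnorm : ∀ u ∈ U, ∀ R : Subgroup H, U ≤ R → ∀ k ∈ R.comap j, u * j k * u⁻¹ ∈ (R.comap j).map j := by
    intro u hu R hR k hk
    have h1 : u * j k * u⁻¹ ∈ j.range := hjn.conj_mem _ ⟨k, rfl⟩ u
    obtain ⟨k', hk'⟩ := h1
    refine ⟨k', ?_, hk'⟩
    show j k' ∈ R
    rw [hk']
    exact mul_mem (mul_mem (hR hu) hk) (inv_mem (hR hu))
  have hUL : U ≤ normalizer (L.map j : Set H) := by
    have key2 : ∀ u ∈ U, L.map j ≤ (L.map j).comap (MulAut.conj u).toMonoidHom := by
      intro u hu
      rw [hL, Subgroup.map_sup]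
      refine sup_le ?_ ?_
      · rintro _ ⟨k, hk, rfl⟩
        exact (le_sup_left : (P.comap j).map j ≤ _) (hnorm u hu P hUP k hk)
      · rintro _ ⟨k, hk, rfl⟩
        exact (le_sup_right : (Q.comap j).map j ≤ _) (hnorm u hu Q hUQ k hk)
    intro u hu
    rw [Subgroup.mem_normalizer_iff]
    intro x
    refine ⟨fun hx => key2 u hu hx, fun hx => ?_⟩
    have h1 := key2 u⁻¹ (inv_mem hu) hx
    have h2 : u⁻¹ * (u * x * u⁻¹) * u⁻¹⁻¹ ∈ L.map j := h1
    have h3 : u⁻¹ * (u * x * u⁻¹) * u⁻¹⁻¹ = x := by group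
    rwa [h3] at h2
  have hPL : P ≤ normalizer (L.map j : Set H) := by
    intro g hg
    obtain ⟨u, hu, k, hk, rfl⟩ := key P hUP g hg
    exact mul_mem (hUL hu) (le_normalizer ⟨k, (le_sup_left : P.comap j ≤ L) hk, rfl⟩)
  have hQL : Q ≤ normalizer (L.map j : Set H) := by
    intro g hg
    obtain ⟨u, hu, k, hk, rfl⟩ := key Q hUQ g hg
    exact mul_mem (hUL hu) (le_normalizer ⟨k, (le_sup_right : Q.comap j ≤ L) hk, rfl⟩)
  have htop : normalizer (L.map j : Set H) = ⊤ := by
    rw [eq_top_iff, ← hPQ]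
    exact sup_le hPL hQL
  have hLn : L.Normal := by
    constructor
    intro x hx g
    have h1 : j g ∈ normalizer (L.map j : Set H) := by rw [htop]; trivial
    have h2 := (Subgroup.mem_normalizer_iff.1 h1 (j x)).1 ⟨x, hx, rfl⟩
    rw [← map_inv, ← map_mul, ← map_mul, Subgroup.mem_map_iff_mem hj] at h2
    exact h2
  rcases hLn.eq_bot_or_eq_top with h | h
  · exfalso
    have hb : ∀ R : Subgroup H, U ≤ R → R.comap j ≤ L → R = U := by
      intro R hR hRL
      refine le_antisymm (fun g hg => ?_) hR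
      obtain ⟨u, hu, k, hk, rfl⟩ := key R hR g hg
      have h1 : k = 1 := by
        have := hRL hk
        rwa [h, Subgroup.mem_bot] at this
      rw [h1, map_one, mul_one]
      exact hu
    have h1 := hb P hUP le_sup_left
    have h2 := hb Q hUQ le_sup_right
    rw [h1, h2, sup_idem] at hPQ
    exact hP (h1.trans hPQ)
  · exact h

/-- the action of `H` on `K` -/
theorem pgood_of_two [Finite H] [IsSimpleGroup K] {U P Q : Subgroup H} {a : ℕ} (hU : Nat.card U = p ^ a)
    (hA : ¬ p ^ (a + 1) ∣ Nat.card (MulAut K)) (hC : ∀ h : H, (∀ k, h * j k * h⁻¹ = j k) → h = 1)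
    (hpK : p ∣ Nat.card K) (hUP : U ≤ P) (hUQ : U ≤ Q) (hUK : U ⊔ j.range = ⊤)
    (hP : P ≠ ⊤) (hQ : Q ≠ ⊤) (hPQ : P ⊔ Q = ⊤) (hj : Function.Injective j) (hjn : j.range.Normal) :
    PGood.{u} p K := by
  intro X _ _ f hf hn hX
  exfalso
  haveI : Finite K := Finite.of_injective f hf
  haveI : Finite (MulAut K) := Finite.of_injective (fun α : MulAut K => (α : K → K)) DFunLike.coe_injective
  have hcen : center K = ⊥ := by
    rcases (inferInstance : (center K).Normal).eq_bot_or_eq_top with h | h
    · exact h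
    · exfalso
      -- then `K` is central in itself: elements of `j.range` centralise
      obtain ⟨k, hk⟩ := exists_ne (1 : K)
      apply hk
      apply hj
      rw [map_one]
      apply hC
      intro y
      have h1 : k ∈ center K := by rw [h]; trivial
      have h2 := Subgroup.mem_center_iff.1 h1 y
      rw [← map_mul, ← map_inv, ← map_mul, ← h2, mul_inv_cancel_right]
  have hT : ∀ T : Sylow p K, ¬ (T : Subgroup K).Normal := by
    intro T hTn
    rcases hTn.eq_bot_or_eq_top with h | h
    · have h1 := T.not_dvd_index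
      rw [h, Subgroup.index_bot] at h1
      exact h1 hpK
    · have h1 : IsPGroup p K := by
        intro k
        obtain ⟨n, hn⟩ := T.isPGroup' ⟨k, by rw [h]; trivial⟩
        exact ⟨n, congrArg Subtype.val hn⟩
      have h2 := h1.center_nontrivial
      rw [Subgroup.nontrivial_iff_ne_bot] at h2
      exact h2 hcen
  obtain ⟨T⟩ : Nonempty (Sylow p K) := inferInstance
  obtain ⟨S, hS⟩ := (T.isPGroup'.map f).exists_le_sylow
  have hcomap : (S : Subgroup X).comap f = T := by
    have h1 : IsPGroup p ((S : Subgroup X).comap f) := S.isPGroup'.comap_of_injective f hf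
    have h2 : (T : Subgroup K) ≤ (S : Subgroup X).comap f := Subgroup.map_le_iff_le_comap.1 hS
    exact T.is_maximal' h1 h2
  obtain ⟨-, M, ⟨hM, hSM⟩, huniq⟩ := hX S
  have hmax : ∀ L : Subgroup X, (S : Subgroup X) ≤ L → L ≠ ⊤ → L ≤ M := by
    intro L hL hne
    obtain ⟨M', hM', hLM'⟩ := (eq_top_or_exists_le_coatom L).resolve_left hne
    have h1 := huniq M' ⟨hM', hL.trans hLM'⟩
    rwa [← h1]
  -- `U` is a Sylow subgroup of `Aut K`
  have hψ : Function.Injective (act j hj hjn) := by
    rw [injective_iff_map_eq_one]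
    intro h hh
    apply hC
    intro k
    rw [← f_act j hj hjn, hh]
    rfl
  have hUs : IsPGroup p (U.map (act j hj hjn)) := (IsPGroup.of_card hU).map _
  have hUi : ¬ p ∣ (U.map (act j hj hjn)).index := by
    intro hdvd
    apply hA
    rw [← Subgroup.card_mul_index (U.map (act j hj hjn)), pow_succ]
    refine mul_dvd_mul ?_ hdvd
    rw [← hU]
    exact (Nat.card_congr (U.equivMapOfInjective _ hψ).toEquiv).dvd
  obtain ⟨A, hA'⟩ := (S.isPGroup'.map (act f hf hn)).exists_le_sylow
  obtain ⟨α, hα⟩ := MulAction.exists_smul_eq (MulAut K) (hUs.toSylow hUi) A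
  -- the elements of `S`
  have hSact : ∀ s ∈ S, ∃ u ∈ U, act f hf hn s = α * act j hj hjn u * α⁻¹ := by
    intro s hs
    have h1 : act f hf hn s ∈ (A : Subgroup (MulAut K)) := hA' ⟨s, hs, rfl⟩
    rw [← hα] at h1
    obtain ⟨_, ⟨u, hu, rfl⟩, e⟩ := h1
    exact ⟨u, hu, e.symm⟩
  have hsup := comap_sup j hj hjn hUP hUQ hUK hP hQ hPQ
  -- the image of the intersection lies in `M`
  have key : ∀ R : Subgroup H, U ≤ R → R ≠ ⊤ → ((R.comap j).map α.toMonoidHom).map f ≤ M := by
    intro R hR hRt
    set R' : Subgroup K := (R.comap j).map α.toMonoidHom with hR'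
    have hstep : ∀ s ∈ S, ∀ k ∈ R', s * f k * s⁻¹ ∈ R'.map f := by
      intro s hs k hk
      obtain ⟨x, hx, rfl⟩ := hk
      obtain ⟨u, hu, e⟩ := hSact s hs
      rw [← f_act f hf hn, e]
      refine ⟨_, ?_, rfl⟩
      refine ⟨act j hj hjn u x, ?_, ?_⟩
      · show j _ ∈ R
        rw [f_act]
        exact mul_mem (mul_mem (hR hu) hx) (inv_mem (hR hu))
      · show α (act j hj hjn u x) = α (act j hj hjn u (α⁻¹ (α x)))
        rw [MulAut.inv_apply_self]
    have hnorm : (S : Subgroup X) ≤ normalizer (R'.map f : Set X) := by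
      intro s hs
      rw [Subgroup.mem_normalizer_iff]
      intro x
      constructor
      · rintro ⟨k, hk, rfl⟩
        exact hstep s hs k hk
      · rintro ⟨k, hk, e⟩
        have h1 := hstep s⁻¹ (inv_mem hs) k hk
        rw [e] at h1
        have h2 : s⁻¹ * (s * x * s⁻¹) * s⁻¹⁻¹ = x := by group
        rwa [h2] at h1
    have hL : (S : Subgroup X) ⊔ R'.map f ≠ ⊤ := by
      intro htop
      apply hRt
      rw [eq_top_iff, ← hUK]
      refine sup_le hR ?_
      rintro _ ⟨k, rfl⟩
      have h2 : f (α k) ∈ (S : Subgroup X) ⊔ R'.map f := by rw [htop]; trivial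
      rw [← SetLike.mem_coe, Subgroup.coe_mul_of_left_le_normalizer_right _ _ hnorm] at h2
      obtain ⟨s, hs, _, ⟨_, ⟨x, hx, rfl⟩, rfl⟩, e⟩ := h2
      have e' : s * f (α x) = f (α k) := e
      have hs' : s = f (α (k * x⁻¹)) := by
        rw [map_mul, map_mul, map_inv, map_inv, ← e']
        exact (mul_inv_cancel_right _ _).symm
      obtain ⟨u, hu, e2⟩ := hSact s hs
      have h3 : act j hj hjn (j (k * x⁻¹)) = act j hj hjn u := by
        have h4 : act j hj hjn u = α⁻¹ * act f hf hn s * α := by rw [e2]; group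
        rw [h4]
        ext y
        apply hj
        rw [f_act]
        have h5 : act f hf hn s (α y) = α (k * x⁻¹ * y * (k * x⁻¹)⁻¹) := by
          apply hf
          rw [f_act, hs']
          simp only [map_mul, map_inv]
        show _ = j (α⁻¹ (act f hf hn s (α y)))
        rw [h5, MulAut.inv_apply_self]
        simp only [map_mul, map_inv]
      have h4 : j (k * x⁻¹) ∈ R := by
        rw [hψ h3]
        exact hR hu
      have h5 : j x ∈ R := hx
      have h6 : j k = j (k * x⁻¹) * j x := by rw [← map_mul, inv_mul_cancel_right]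
      rw [h6]
      exact mul_mem h4 h5
    exact le_trans le_sup_right (hmax _ le_sup_left hL)
  have hKM : f.range ≤ M := by
    have h1 : ((P.comap j).map α.toMonoidHom).map f ⊔ ((Q.comap j).map α.toMonoidHom).map f ≤ M :=
      sup_le (key P hUP hP) (key Q hUQ hQ)
    rw [← Subgroup.map_sup, ← Subgroup.map_sup, hsup, Subgroup.map_top_of_surjective _ α.surjective,
      ← MonoidHom.range_eq_map] at h1
    exact h1
  -- Frattini
  have hNM : normalizer ((T : Subgroup K).map f : Set X) ≤ M := by
    refine hmax _ ?_ ?_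
    · have hstep : ∀ s ∈ S, ∀ k ∈ (T : Subgroup K), s * f k * s⁻¹ ∈ (T : Subgroup K).map f := by
        intro s hs k hk
        rw [← f_act f hf hn]
        refine ⟨_, ?_, rfl⟩
        rw [← hcomap] at hk ⊢
        show f (act f hf hn s k) ∈ S
        rw [f_act]
        exact mul_mem (mul_mem hs hk) (inv_mem hs)
      intro s hs
      rw [Subgroup.mem_normalizer_iff]
      intro x
      constructor
      · rintro ⟨k, hk, rfl⟩
        exact hstep s hs k hk
      · rintro ⟨k, hk, e⟩
        have h1 := hstep s⁻¹ (inv_mem hs) k hk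
        rw [e] at h1
        have h2 : s⁻¹ * (s * x * s⁻¹) * s⁻¹⁻¹ = x := by group
        rwa [h2] at h1
    · intro htop
      apply hT T
      constructor
      intro x hx g
      have h1 : f g ∈ normalizer ((T : Subgroup K).map f : Set X) := by rw [htop]; trivial
      have h2 := (Subgroup.mem_normalizer_iff.1 h1 (f x)).1 ⟨x, hx, rfl⟩
      rw [← map_inv, ← map_mul, ← map_mul, Subgroup.mem_map_iff_mem hf] at h2
      exact h2
  apply hM.1
  rw [eq_top_iff]
  intro x _
  haveI := hn
  let T' : Sylow p f.range := T.mapSurjective (f := f.rangeRestrict) f.rangeRestrict_surjective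
  have h1 := T'.normalizer_sup_eq_top
  have h2 : (T' : Subgroup f.range).map f.range.subtype = (T : Subgroup K).map f := by
    show ((T : Subgroup K).map f.rangeRestrict).map f.range.subtype = _
    rw [Subgroup.map_map]
    rfl
  rw [h2] at h1
  have h3 : x ∈ f.range ⊔ normalizer ((T : Subgroup K).map f : Set X) := by
    rw [sup_comm, h1]
    trivial
  exact (sup_le hKM hNM) h3

end Cfsg.Agent.H223.PMinTwo
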