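import Mathlib
import Cfsg.Agent.H223.PMinTwo
import Cfsg.Agent.Omega.TwoF.TitsAut

set_option autoImplicit false
set_option linter.style.haveILetI false
set_option linter.unusedSectionVars false

/-!
# p-minimal groups: the Tits group
-/

namespace Cfsg.Agent.H223.PMinTits

open Subgroup Cfsg Cfsg.Agent.H223.PMinSys Cfsg.Agent.H223.PMinGood Cfsg.Agent.H223.PMinTwo

universe u v w

/-- the centraliser of a subgroup of index two -/
theorem eq_one_of_index_two {H : Type w} [Group H] {C : Subgroup H} (hidx : C.index = 2)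
    (hZ : center H = ⊥) (hC : center C = ⊥) {h : H} (hh : ∀ k : C, h * k * h⁻¹ = k) : h = 1 := by
  have hcomm : ∀ k ∈ C, h * k = k * h := fun k hk => by
    have := hh ⟨k, hk⟩
    exact mul_inv_eq_iff_eq_mul.1 this
  by_cases hhC : h ∈ C
  · have h1 : (⟨h, hhC⟩ : C) ∈ center C := by
      rw [Subgroup.mem_center_iff]
      intro k
      exact Subtype.ext (hcomm k k.2).symm
    rw [hC, Subgroup.mem_bot] at h1
    exact congrArg Subtype.val h1
  · have h1 : h ∈ center H := by
      rw [Subgroup.mem_center_iff]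
      intro g
      by_cases hg : g ∈ C
      · exact (hcomm g hg).symm
      · have h2 : h * g ∈ C := by
          rw [Subgroup.mul_mem_iff_of_index_two hidx]
          exact iff_of_false hhC hg
        have h3 := hcomm _ h2
        rw [mul_assoc] at h3
        exact (mul_left_cancel h3).symm
    rw [hZ, Subgroup.mem_bot] at h1
    exact h1

theorem pgood_of_index_two {H : Type w} [Group H] [Finite H] {C : Subgroup H} (hidx : C.index = 2)
    (hZ : center H = ⊥) (hs : IsSimpleGroup C) (hC : center C = ⊥) {U P Q : Subgroup H} {a : ℕ}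
    (hU : Nat.card U = 2 ^ a) (hA : ¬ 2 ^ (a + 1) ∣ Nat.card (MulAut C)) (h2 : 2 ∣ Nat.card C)
    (hUP : U ≤ P) (hUQ : U ≤ Q) (hUC : U ⊔ C = ⊤) (hP : P ≠ ⊤) (hQ : Q ≠ ⊤) (hPQ : P ⊔ Q = ⊤) :
    PGood.{u} 2 C := by
  have : Fact (Nat.Prime 2) := ⟨Nat.prime_two⟩
  have hCn : C.Normal := Subgroup.normal_of_index_eq_two hidx
  refine pgood_of_two C.subtype hU hA (fun h hh => eq_one_of_index_two hidx hZ hC hh) h2 hUP hUQ ?_ hP hQ hPQ
    C.subtype_injective ?_
  · rw [C.range_subtype]; exact hUC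
  · rw [C.range_subtype]; exact hCn

section Tits

open scoped MatrixGroups
open Cfsg.Agent.ChevalleyStructure.Tits.Data Cfsg.Agent.ChevalleyStructure.Tits.Rank2
  Cfsg.Agent.ChevalleyStructure.Tits.Sat Cfsg.Agent.ChevalleyStructure.Tits.Final
  Cfsg.Agent.ChevalleyStructure.Tits.Main Cfsg.Agent.ChevalleyStructure.Tits.Order
  Cfsg.Agent.ChevalleyStructure.Tits.Mat
  Cfsg.Agent.Omega.TwoF.TitsAut

theorem pgood_H0 : PGood.{u} 2 ↥(commutator H0) := by
  have hfin := fin_H0
  have hX := card_X (y := yH) Sat_yH (yH_ne_one (by norm_num)) yH7_sq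
  have hG : (rd Sat_yH).G = ⊤ := by rw [rd_G Sat_yH, gen_yH]
  have hU : Nat.card (rd Sat_yH).U = 4096 := card_V_yH
  have hcard := card_H0
  have hZ : center H0 = ⊥ := by
    apply core _ inferInstance
    intro z hz
    refine mem_of_norm (rd Sat_yH) hX hU hG hcard fun u hu => ?_
    rw [← Subgroup.mem_center_iff.1 hz u, mul_inv_cancel_right]
    exact hu
  have hPne : ∀ s, Pp (rd Sat_yH) s ≠ ⊤ := by
    intro s h
    have h1 := card_P (rd Sat_yH) hX hU hG hcard s
    rw [h, Subgroup.card_top, hcard] at h1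
    cases s <;> norm_num at h1
  refine pgood_of_index_two (U := V yH 0) (P := Pp (rd Sat_yH) false) (Q := Pp (rd Sat_yH) true) (a := 12)
    H0_result.1 hZ H0_result.2.1 (center_of H0_result.2.1 H0_result.2.2.1) (by rw [card_V_yH]; norm_num) not_dvd_H0
    ?_ (U_le_P (rd Sat_yH) false) (U_le_P (rd Sat_yH) true) ?_ (hPne _) (hPne _) ?_
  · rw [H0_result.2.2.2]
    norm_num
  · rw [sup_comm]
    exact sup_H0
  · rw [eq_top_iff, ← hG]
    unfold RD.G
    rw [Subgroup.closure_le]
    rintro x (hx | ⟨s, rfl⟩)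
    · exact (le_sup_left : Pp (rd Sat_yH) false ≤ _) (U_le_P _ _ hx)
    · cases s
      · exact (le_sup_left : Pp (rd Sat_yH) false ≤ _) (n_mem_P _ _)
      · exact (le_sup_right : Pp (rd Sat_yH) true ≤ _) (n_mem_P _ _)

theorem pgood_aux (T : Subgroup (GL I52 (ZMod 2))) (hT : T = H0) : PGood.{u} 2 ↥(commutator T) := by
  subst hT
  exact pgood_H0

theorem congr_aux {G : Type w} [Group G] (T : Subgroup G) (h : PGood.{u} 2 ↥(commutator T)) {K : Type v} [Group K]
    (e : K ≃* commutator T) : PGood.{u} 2 K := h.congr e.symm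

theorem pgood_Tits {G : Type v} [Group G] (h : Lie.IsoTits G) : PGood.{u} 2 G := by
  obtain ⟨T, hT, ⟨e⟩⟩ := Omega.TwoF.TitsAut.exists_equiv h
  exact congr_aux T (pgood_aux T hT) e

end Tits

end Cfsg.Agent.H223.PMinTits
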