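import Mathlib
import Cfsg.Agent.H460.AADef

/-!
# Average number of fixed points of the products `f * (m * f * m⁻¹)` over a doubly transitive group
-/

set_option autoImplicit false

namespace Cfsg.Agent.H223.PanAvg

open Finset Cfsg.Agent.H460.AA

variable {Om : Type*}

/-- doubly transitive group of permutations -/
def TwoTr (M : Subgroup (Equiv.Perm Om)) : Prop :=
  ∀ a b c d : Om, a ≠ b → c ≠ d → ∃ m ∈ M, m a = c ∧ m b = d

section Count

variable [Fintype Om] [DecidableEq Om]

open Classical in
/-- the elements of `M` -/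
noncomputable def el (M : Subgroup (Equiv.Perm Om)) : Finset (Equiv.Perm Om) := univ.filter (fun m => m ∈ M)

theorem mem_el {M : Subgroup (Equiv.Perm Om)} {m : Equiv.Perm Om} : m ∈ el M ↔ m ∈ M := by
  classical
  simp [el]

variable {M : Subgroup (Equiv.Perm Om)} (h : TwoTr M)

include h in
theorem cnt2 {a b c d a' b' c' d' : Om} (hab : a ≠ b) (hcd : c ≠ d) (hab' : a' ≠ b') (hcd' : c' ≠ d') :
    ((el M).filter (fun m => m a = c ∧ m b = d)).card ≤ ((el M).filter (fun m => m a' = c' ∧ m b' = d')).card := by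
  obtain ⟨s, hs, hs1, hs2⟩ := h a' b' a b hab' hab
  obtain ⟨t, ht, ht1, ht2⟩ := h c d c' d' hcd hcd'
  refine Finset.card_le_card_of_injOn (fun m => t * m * s) ?_ ?_
  · intro m hm
    rw [mem_coe, mem_filter, mem_el] at hm ⊢
    refine ⟨M.mul_mem (M.mul_mem ht hm.1) hs, ?_, ?_⟩
    · change t (m (s a')) = c'
      rw [hs1, hm.2.1, ht1]
    · change t (m (s b')) = d'
      rw [hs2, hm.2.2, ht2]
  · intro m _ m' _ he
    exact mul_left_cancel (mul_right_cancel he)

include h in
theorem cnt1 {u0 u1 : Om} (h01 : u0 ≠ u1) (u v : Om) : ((el M).filter (fun m => m u = v)).card =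
    (Fintype.card Om - 1) * ((el M).filter (fun m => m u0 = u0 ∧ m u1 = u1)).card := by
  obtain ⟨u', hu'⟩ : ∃ u', u ≠ u' := by
    by_cases hu : u = u0
    · exact ⟨u1, by rw [hu]; exact h01⟩
    · exact ⟨u0, hu⟩
  rw [Finset.card_eq_sum_card_fiberwise (f := fun m : Equiv.Perm Om => m u') (t := univ.erase v)]
  · rw [Finset.sum_congr rfl (g := fun _ => ((el M).filter (fun m => m u0 = u0 ∧ m u1 = u1)).card)]
    · rw [sum_const, card_erase_of_mem (mem_univ v), card_univ, smul_eq_mul]
    · intro w hw
      rw [filter_filter]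
      have hvw : v ≠ w := (ne_of_mem_erase hw).symm
      exact le_antisymm (cnt2 h hu' hvw h01 h01) (cnt2 h h01 h01 hu' hvw)
  · intro m hm
    rw [mem_coe, mem_filter] at hm
    rw [mem_coe, mem_erase]
    refine ⟨fun he => hu' ?_, mem_univ _⟩
    apply m.injective
    exact hm.2.trans he.symm

include h in
theorem total {u0 u1 : Om} (h01 : u0 ≠ u1) : (el M).card = Fintype.card Om * ((Fintype.card Om - 1) *
    ((el M).filter (fun m => m u0 = u0 ∧ m u1 = u1)).card) := by
  rw [Finset.card_eq_sum_card_fiberwise (f := fun m : Equiv.Perm Om => m u0) (t := univ) (fun _ _ => mem_univ _)]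
  rw [Finset.sum_congr rfl (g := fun _ => (Fintype.card Om - 1) *
    ((el M).filter (fun m => m u0 = u0 ∧ m u1 = u1)).card) (fun w _ => cnt1 h h01 u0 w)]
  rw [sum_const, card_univ, smul_eq_mul]

/-- the fixed points -/
def fx (f : Equiv.Perm Om) : Finset Om := univ.filter (fun x => f x = x)

theorem mem_fx {f : Equiv.Perm Om} {x : Om} : x ∈ fx f ↔ f x = x := by simp [fx]

include h in
theorem sum_fx {u0 u1 : Om} (h01 : u0 ≠ u1) (f : Equiv.Perm Om) :
    ∑ m ∈ el M, (fx (f * (m * f * m⁻¹))).card =
      ((el M).filter (fun m => m u0 = u0 ∧ m u1 = u1)).card *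
        ((fx f).card * ((fx f).card * (Fintype.card Om - 1)) + (Fintype.card Om - (fx f).card) ^ 2) := by
  set k := ((el M).filter (fun m => m u0 = u0 ∧ m u1 = u1)).card with hk
  have h1 : ∀ m ∈ el M, (fx (f * (m * f * m⁻¹))).card = (univ.filter (fun u => f (m (f u)) = m u)).card := by
    intro m _
    refine Finset.card_bij' (fun x _ => m⁻¹ x) (fun u _ => m u) ?_ ?_ ?_ ?_
    · intro x hx
      rw [mem_fx] at hx
      rw [mem_filter]
      refine ⟨mem_univ _, ?_⟩
      change f (m (f (m⁻¹ x))) = x at hx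
      rw [hx]
      exact (m.apply_symm_apply x).symm
    · intro u hu
      rw [mem_filter] at hu
      rw [mem_fx]
      change f (m (f (m⁻¹ (m u)))) = m u
      rw [show m⁻¹ (m u) = u from m.symm_apply_apply u]
      exact hu.2
    · intro x _
      exact m.apply_symm_apply x
    · intro u _
      exact m.symm_apply_apply u
  rw [Finset.sum_congr rfl h1]
  have h2 : ∑ m ∈ el M, (univ.filter (fun u => f (m (f u)) = m u)).card =
      ∑ u, ((el M).filter (fun m => f (m (f u)) = m u)).card :=
    Finset.sum_card_bipartiteAbove_eq_sum_card_bipartiteBelow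
      (fun (m : Equiv.Perm Om) (u : Om) => f (m (f u)) = m u)
  rw [h2, ← Finset.sum_filter_add_sum_filter_not univ (fun u => f u = u)]
  have h3 : ∑ u ∈ univ.filter (fun u => f u = u), ((el M).filter (fun m => f (m (f u)) = m u)).card =
      (fx f).card * ((fx f).card * ((Fintype.card Om - 1) * k)) := by
    rw [Finset.sum_congr rfl (g := fun _ => (fx f).card * ((Fintype.card Om - 1) * k))]
    · rw [sum_const, smul_eq_mul]; rfl
    · intro u hu
      rw [mem_filter] at hu
      rw [Finset.card_eq_sum_card_fiberwise (f := fun m : Equiv.Perm Om => m u) (t := fx f)]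
      · rw [Finset.sum_congr rfl (g := fun _ => (Fintype.card Om - 1) * k)]
        · rw [sum_const, smul_eq_mul]
        · intro v hv
          rw [mem_fx] at hv
          rw [hk, ← cnt1 h h01 u v, filter_filter]
          congr 1
          ext m
          rw [mem_filter, mem_filter]
          constructor
          · rintro ⟨h4, -, h5⟩
            exact ⟨h4, h5⟩
          · rintro ⟨h4, h5⟩
            refine ⟨h4, ?_, h5⟩
            rw [hu.2, h5, hv]
      · intro m hm
        rw [mem_coe, mem_filter] at hm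
        rw [mem_coe, mem_fx]
        have := hm.2
        rwa [hu.2] at this
  have h4 : ∑ u ∈ univ.filter (fun u => ¬ f u = u), ((el M).filter (fun m => f (m (f u)) = m u)).card =
      (Fintype.card Om - (fx f).card) * ((Fintype.card Om - (fx f).card) * k) := by
    have hc : (univ.filter (fun u => ¬ f u = u)).card = Fintype.card Om - (fx f).card := by
      have h5 := Finset.card_filter_add_card_filter_not (s := (univ : Finset Om)) (fun u => f u = u)
      rw [card_univ] at h5
      have h6 : (fx f).card = (univ.filter (fun u => f u = u)).card := rfl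
      omega
    rw [Finset.sum_congr rfl (g := fun _ => (Fintype.card Om - (fx f).card) * k)]
    · rw [sum_const, smul_eq_mul, hc]
    · intro u hu
      rw [mem_filter] at hu
      rw [Finset.card_eq_sum_card_fiberwise (f := fun m : Equiv.Perm Om => m (f u))
        (t := univ.filter (fun u => ¬ f u = u))]
      · rw [Finset.sum_congr rfl (g := fun _ => k)]
        · rw [sum_const, smul_eq_mul, hc]
        · intro w hw
          rw [mem_filter] at hw
          have h5 : ((el M).filter (fun m => m (f u) = w ∧ m u = f w)).card = k :=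
            le_antisymm (cnt2 h hu.2 (Ne.symm hw.2) h01 h01) (cnt2 h h01 h01 hu.2 (Ne.symm hw.2))
          rw [← h5, filter_filter]
          congr 1
          ext m
          rw [mem_filter, mem_filter]
          constructor
          · rintro ⟨h6, h7, h8⟩
            refine ⟨h6, h8, ?_⟩
            rw [← h7, h8]
          · rintro ⟨h6, h7, h8⟩
            refine ⟨h6, ?_, h7⟩
            rw [h7, h8]
      · intro m hm
        rw [mem_coe, mem_filter] at hm
        rw [mem_coe, mem_filter]
        refine ⟨mem_univ _, fun he => hu.2 ?_⟩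
        rw [hm.2] at he
        exact (m.injective he).symm
  rw [h3, h4]
  ring

end Count

/-- the number of fixed points -/
noncomputable def nf (f : Equiv.Perm Om) : ℕ := Nat.card {x // f x = x}

theorem nf_eq [Fintype Om] [DecidableEq Om] (f : Equiv.Perm Om) : nf f = (fx f).card := by
  rw [nf, Nat.card_eq_fintype_card, Fintype.card_subtype]
  rfl

/-- **Average argument.** All products `f * (m * f * m⁻¹)` have at least two fixed points. -/
theorem avg [Finite Om] {M : Subgroup (Equiv.Perm Om)} (h : TwoTr M) (hn : 2 ≤ Nat.card Om) {f : Equiv.Perm Om}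
    (h2 : ∀ m ∈ M, 2 ≤ nf (f * (m * f * m⁻¹))) :
    (Nat.card Om : ℤ) - 1 ≤ ((nf f : ℤ) - 1) ^ 2 ∧ (3 ≤ nf f → (Nat.card Om : ℤ) - 1 < ((nf f : ℤ) - 1) ^ 2) := by
  classical
  have : Fintype Om := Fintype.ofFinite Om
  have hcard : Nat.card Om = Fintype.card Om := Nat.card_eq_fintype_card
  rw [hcard] at hn ⊢
  obtain ⟨u0, u1, h01⟩ := Fintype.one_lt_card_iff.1 (by omega : 1 < Fintype.card Om)
  have hs := sum_fx h h01 f
  have ht := total h h01
  have hk : 1 ≤ ((el M).filter (fun m => m u0 = u0 ∧ m u1 = u1)).card := by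
    refine Finset.card_pos.2 ⟨1, ?_⟩
    rw [mem_filter, mem_el]
    exact ⟨M.one_mem, rfl, rfl⟩
  set k := ((el M).filter (fun m => m u0 = u0 ∧ m u1 = u1)).card with hkdef
  have hle : (fx f).card ≤ Fintype.card Om := by
    rw [← Finset.card_univ]; exact Finset.card_le_card (Finset.subset_univ _)
  have h3 : 2 * (el M).card ≤ ∑ m ∈ el M, (fx (f * (m * f * m⁻¹))).card := by
    rw [mul_comm, ← smul_eq_mul]
    refine Finset.card_nsmul_le_sum _ _ _ fun m hm => ?_
    rw [← nf_eq]
    exact h2 m (mem_el.1 hm)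
  have h4 : 2 * (el M).card + (fx f).card ≤ ∑ m ∈ el M, (fx (f * (m * f * m⁻¹))).card + 2 := by
    have h1mem : (1 : Equiv.Perm Om) ∈ el M := mem_el.2 M.one_mem
    rw [← Finset.add_sum_erase _ _ h1mem]
    have h5 : 2 * ((el M).card - 1) ≤ ∑ m ∈ (el M).erase 1, (fx (f * (m * f * m⁻¹))).card := by
      rw [mul_comm, ← smul_eq_mul, ← Finset.card_erase_of_mem h1mem]
      refine Finset.card_nsmul_le_sum _ _ _ fun m hm => ?_
      rw [← nf_eq]
      exact h2 m (mem_el.1 (Finset.mem_of_mem_erase hm))
    have h6 : (fx f).card ≤ (fx (f * (1 * f * 1⁻¹))).card := by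
      refine Finset.card_le_card fun x hx => ?_
      rw [mem_fx] at hx ⊢
      rw [one_mul, inv_one, mul_one]
      change f (f x) = x
      rw [hx, hx]
    have h7 : 1 ≤ (el M).card := Finset.card_pos.2 ⟨1, h1mem⟩
    omega
  rw [hs, ht] at h3 h4
  rw [nf_eq]
  set n := Fintype.card Om with hndef
  set φ := (fx f).card with hφ
  zify [hle, (by omega : 1 ≤ n)] at h3 h4 hk hn hle
  have e1 : (k : ℤ) * ((φ : ℤ) * (φ * (n - 1)) + (n - φ) ^ 2) = k * n * ((φ - 1) ^ 2 + (n - 1)) := by ring
  rw [e1] at h3 h4
  have hkn : (0 : ℤ) < k * n := by positivity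
  constructor
  · by_contra hcon
    push Not at hcon
    nlinarith
  · intro h5
    have h5' : (3 : ℤ) ≤ φ := by exact_mod_cast h5
    by_contra hcon
    push Not at hcon
    nlinarith

/-- An `r`-element has at least two fixed points if `r` divides neither `|Om|` nor `|Om| - 1`. -/
theorem two_le_nf [Finite Om] {r : ℕ} [Fact r.Prime] (h1 : ¬ r ∣ Nat.card Om) (h2 : ¬ r ∣ Nat.card Om - 1)
    {g : Equiv.Perm Om} (hg : PE r g) : 2 ≤ nf g := by
  classical
  obtain ⟨k, hk⟩ := hg
  have hp : IsPGroup r (Subgroup.zpowers g) := IsPGroup.of_card (n := k) (by rw [Nat.card_zpowers, hk])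
  have h3 := hp.card_modEq_card_fixedPoints Om
  have e : MulAction.fixedPoints (Subgroup.zpowers g) Om ≃ {x // g x = x} := by
    refine Equiv.subtypeEquivRight fun x => ?_
    rw [MulAction.mem_fixedPoints]
    constructor
    · intro h
      exact h ⟨g, Subgroup.mem_zpowers g⟩
    · rintro h ⟨m, hm⟩
      obtain ⟨i, rfl⟩ := Subgroup.mem_zpowers_iff.1 hm
      change (g ^ i) x = x
      have h4 : g ∈ MulAction.stabilizer (Equiv.Perm Om) x := h
      exact (Subgroup.zpow_mem _ h4 i : g ^ i ∈ MulAction.stabilizer (Equiv.Perm Om) x)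
  rw [Nat.card_congr e] at h3
  change Nat.card Om ≡ nf g [MOD r] at h3
  by_contra hcon
  push Not at hcon
  have h5 : nf g = 0 ∨ nf g = 1 := by omega
  rcases h5 with h5 | h5
  · rw [h5] at h3
    exact h1 ((Nat.modEq_zero_iff_dvd).1 h3)
  · rw [h5] at h3
    by_cases h0 : Nat.card Om = 0
    · exact h1 (by rw [h0]; exact dvd_zero _)
    · exact h2 ((Nat.modEq_iff_dvd' (by omega)).1 h3.symm)

end Cfsg.Agent.H223.PanAvg
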