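import Cfsg.Agent.H223.U3Fin
import Cfsg.Agent.H223.PanAvg
import Cfsg.Agent.H460.Pan
import Cfsg.Agent.H460.Lem1

/-!
# The rank one unitary panels (AA-PANU, S3833/S3834/S3840)

* `pn_u3` : the family of root groups of `PSU₃(q)` satisfies `PN r` if `r` divides neither `q` nor `q ^ 3 + 1`;
* `px_u3_two` : `PX r` if `q = 2`, `r ≠ 2`.
-/

set_option autoImplicit false
set_option linter.unusedSectionVars false
set_option linter.unusedVariables false

namespace Cfsg.Agent.H223.PanU3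

open Cfsg.Agent.FixBN Cfsg.Agent.FixBN.U3Model Cfsg.Agent.FixBN.U3Core Cfsg.Agent.FixBN.RankOneU3
  Cfsg.Agent.FixBN.U3One Cfsg.Agent.H223.U3Fin Cfsg.Agent.H223.PanAvg Cfsg.Agent.H460.AA Cfsg.Agent.H460.Pan

variable {F : Type*} [Field F] {σ : F →+* F} [H : Inv2 σ] {q : ℕ}

local notation "tl" => U3Model.tr
local notation "tp" => RankOneU3.toPt

/-! ### Cardinalities -/

/-- `x ↦ x - σ x` -/
def df (σ : F →+* F) : F →+ F where
  toFun x := x - σ x
  map_zero' := by rw [map_zero, sub_zero]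
  map_add' x y := by rw [map_add]; ring

theorem mem_ker_df {x : F} : x ∈ (df σ).ker ↔ σ x = x := by
  rw [AddMonoidHom.mem_ker]
  change x - σ x = 0 ↔ _
  rw [sub_eq_zero, eq_comm]

theorem mem_range_df (hF : UG σ q) {b : F} : b ∈ (df σ).range ↔ σ b = -b := by
  constructor
  · rintro ⟨x, rfl⟩
    change σ (x - σ x) = -(x - σ x)
    rw [map_sub, H.invol]; ring
  · intro hb
    obtain ⟨w, hw⟩ := hF.tr
    refine ⟨w * b, ?_⟩
    change w * b - σ (w * b) = b
    rw [map_mul, hb]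
    linear_combination b * hw

theorem card_fix [Finite F] (hF : UG σ q) : Nat.card {x : F // σ x = x} = q ∧ Nat.card {b : F // σ b = -b} = q := by
  have h1 : Nat.card (df σ).ker * Nat.card (df σ).range = Nat.card F := by
    rw [← AddSubgroup.index_ker (df σ)]
    exact (df σ).ker.card_mul_index
  have e1 : Nat.card (df σ).ker = Nat.card {x : F // σ x = x} :=
    Nat.card_congr (Equiv.subtypeEquivRight fun x => mem_ker_df)
  have e2 : Nat.card (df σ).range = Nat.card {b : F // σ b = -b} :=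
    Nat.card_congr (Equiv.subtypeEquivRight fun x => mem_range_df hF)
  obtain ⟨w, hw⟩ := hF.ne
  have hs : w - σ w ≠ 0 := fun h => hw (sub_eq_zero.1 h).symm
  have hss : σ (w - σ w) = -(w - σ w) := by rw [map_sub, H.invol]; ring
  have e3 : Nat.card {x : F // σ x = x} = Nat.card {b : F // σ b = -b} := by
    refine Nat.card_congr
      { toFun := fun x => ⟨(w - σ w) * x.1, by rw [map_mul, hss, x.2]; ring⟩
        invFun := fun b => ⟨b.1 / (w - σ w), by rw [map_div₀, hss, b.2, neg_div_neg_eq]⟩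
        left_inv := fun x => Subtype.ext ?_
        right_inv := fun b => Subtype.ext ?_ }
    · change (w - σ w) * x.1 / (w - σ w) = x.1
      rw [mul_div_cancel_left₀ _ hs]
    · change (w - σ w) * (b.1 / (w - σ w)) = b.1
      rw [mul_div_cancel₀ _ hs]
  rw [e1, e2, hF.card, ← e3, ← sq] at h1
  have h2 := Nat.pow_left_injective (n := 2) (by norm_num) h1
  exact ⟨h2, e3 ▸ h2⟩

theorem finite_pt [Finite F] : Finite (Pt σ) :=
  Finite.of_injective (fun x : Pt σ => (x.a, x.b)) fun x y h => ext' (congrArg Prod.fst h) (congrArg Prod.snd h)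

/-- the projection on the first coordinate -/
def pr (σ : F →+* F) [Inv2 σ] : Pt σ →* Multiplicative F where
  toFun x := Multiplicative.ofAdd x.a
  map_one' := rfl
  map_mul' x y := rfl

theorem mem_ker {x : Pt σ} : x ∈ (pr σ).ker ↔ x.a = 0 := by
  rw [MonoidHom.mem_ker]
  exact Iff.rfl

theorem card_ker [Finite F] (hF : UG σ q) : Nat.card (pr σ).ker = q := by
  rw [← (card_fix hF).2]
  refine Nat.card_congr
    { toFun := fun x => ⟨x.1.b, by
        have h1 := x.1.h
        rw [mem_ker.1 x.2] at h1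
        linear_combination h1⟩
      invFun := fun b => ⟨⟨0, b.1, by rw [b.2, map_zero]; ring⟩, by rw [mem_ker]⟩
      left_inv := fun x => Subtype.ext (ext' (mem_ker.1 x.2).symm rfl)
      right_inv := fun b => rfl }

theorem card_pt [Finite F] (hF : UG σ q) : Nat.card (Pt σ) = q ^ 3 := by
  have hfin : Finite (Pt σ) := finite_pt
  have h1 := (pr σ).ker.card_mul_index
  have h2 : (pr σ).ker.index = Nat.card F := by
    rw [Subgroup.index_ker, MonoidHom.range_eq_top.2]
    · rw [Subgroup.card_top]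
      rfl
    · intro a
      obtain ⟨x, hx⟩ := U3Fin.exists_pt hF a.toAdd
      exact ⟨x, congrArg Multiplicative.ofAdd hx⟩
  rw [h2, card_ker hF, hF.card] at h1
  rw [← h1]; ring

/-! ### Subfields -/

theorem card_sq_le [Finite F] {E A : Subfield F} (hEA : E ≤ A) {x : F} (hxA : x ∈ A) (hxE : x ∉ E) :
    Nat.card E ^ 2 ≤ Nat.card A := by
  rw [sq, ← Nat.card_prod]
  refine Nat.card_le_card_of_injective
    (fun p : E × E => (⟨p.1 + p.2 * x, A.add_mem (hEA p.1.2) (A.mul_mem (hEA p.2.2) hxA)⟩ : A)) ?_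
  rintro ⟨a, b⟩ ⟨c, d⟩ h
  have h1 : (a : F) + b * x = c + d * x := congrArg Subtype.val h
  have hbd : b = d := by
    by_contra hbd
    apply hxE
    have h2 : (b : F) - d ≠ 0 := fun h => hbd (Subtype.ext (sub_eq_zero.1 h))
    have h3 : x = (c - a) / (b - d) := by
      rw [eq_div_iff h2]
      linear_combination h1
    rw [h3]
    exact E.div_mem (E.sub_mem c.2 a.2) (E.sub_mem b.2 d.2)
  subst hbd
  have hac : a = c := Subtype.ext (by linear_combination h1)
  rw [hac]

/-- the fixed field of an endomorphism -/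
def fixF (τ : F →+* F) : Subfield F := τ.eqLocusField (RingHom.id F)

theorem mem_fixF {τ : F →+* F} {x : F} : x ∈ fixF τ ↔ τ x = x := Iff.rfl

/-- The semilinear map `b ↦ c * τ b` has at most `|E|` fixed points in a set on which the quotients are in `E`. -/
theorem card_line_le [Finite F] {S : Set F} {E : Subfield F} (h : ∀ a ∈ S, ∀ b ∈ S, a / b ∈ E) :
    Nat.card S ≤ Nat.card E := by
  by_cases h0 : ∃ a ∈ S, a ≠ 0
  · obtain ⟨a, ha, ha0⟩ := h0
    refine Nat.card_le_card_of_injective (fun b : S => (⟨b.1 / a, h _ b.2 _ ha⟩ : E)) ?_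
    intro b c hbc
    have h1 : b.1 / a = c.1 / a := congrArg Subtype.val hbc
    exact Subtype.ext (by rwa [div_left_inj' ha0] at h1)
  · push Not at h0
    have h1 : Subsingleton S := ⟨fun a b => Subtype.ext (by rw [h0 _ a.2, h0 _ b.2])⟩
    have h2 : Nat.card S ≤ 1 := Finite.card_le_one_iff_subsingleton.2 h1
    have h3 : 1 ≤ Nat.card E := Nat.card_pos
    omega

/-- **The fixed points of an automorphism not centralising the centre.** -/
theorem card_le [Finite F] (hF : UG σ q) (hq : 2 < q) {β : Equiv.Perm (Om σ)} {φ φ' : Pt σ → Pt σ} (A : Au β φ φ')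
    (hz : ∃ x : Pt σ, x.a = 0 ∧ φ x ≠ x) : Nat.card {x : Pt σ // φ x = x} ^ 2 ≤ q ^ 3 := by
  classical
  have hfin : Finite (Pt σ) := finite_pt
  obtain ⟨c, τ, hc, ha, hb⟩ := semi hF hq A
  set SA : Set F := {a | c * τ a = a} with hSA
  set SZ : Set F := {b | σ b = -b ∧ c * σ c * τ b = b} with hSZ
  have hN : c * σ c ≠ 0 := mul_ne_zero hc ((map_ne_zero σ).2 hc)
  -- the basic inequality
  have h1 : Nat.card {x : Pt σ // φ x = x} ≤ Nat.card SA * Nat.card SZ := by
    rw [← Nat.card_prod]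
    let r : F → Pt σ := fun a => if h : ∃ x : Pt σ, φ x = x ∧ x.a = a then h.choose else 1
    have hr : ∀ x : Pt σ, φ x = x → φ (r x.a) = r x.a ∧ (r x.a).a = x.a := by
      intro x hx
      have hex : ∃ y : Pt σ, φ y = y ∧ y.a = x.a := ⟨x, hx, rfl⟩
      have e : r x.a = hex.choose := dif_pos hex
      rw [e]
      exact hex.choose_spec
    have hd : ∀ x : Pt σ, φ x = x → (x * (r x.a)⁻¹).a = 0 ∧ φ (x * (r x.a)⁻¹) = x * (r x.a)⁻¹ := by
      intro x hx
      obtain ⟨h2, h3⟩ := hr x hx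
      refine ⟨by rw [mul_a, inv_a, h3]; ring, ?_⟩
      rw [A.mul, A.inv, hx, h2]
    refine Nat.card_le_card_of_injective (fun x : {x : Pt σ // φ x = x} =>
      ((⟨x.1.a, by
          have h2 := ha x.1
          rw [x.2] at h2
          exact h2.symm⟩ : SA), (⟨(x.1 * (r x.1.a)⁻¹).b, by
          obtain ⟨h2, h3⟩ := hd x.1 x.2
          refine ⟨?_, ?_⟩
          · have h4 := (x.1 * (r x.1.a)⁻¹).h
            rw [h2] at h4
            linear_combination h4
          · rw [← hb _ h2, h3]⟩ : SZ))) ?_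
    intro x y hxy
    have h2 : x.1.a = y.1.a := congrArg (fun p : SA × SZ => (p.1 : F)) hxy
    have h3 : (x.1 * (r x.1.a)⁻¹).b = (y.1 * (r y.1.a)⁻¹).b := congrArg (fun p : SA × SZ => (p.2 : F)) hxy
    have h4 : x.1 * (r x.1.a)⁻¹ = y.1 * (r y.1.a)⁻¹ := ext' (by rw [(hd x.1 x.2).1, (hd y.1 y.2).1]) h3
    rw [← h2] at h4
    exact Subtype.ext (mul_right_cancel h4)
  have hquo : ∀ N : F, N ≠ 0 → ∀ a b : F, N * τ a = a → N * τ b = b → τ (a / b) = a / b := by
    intro N hN a b h2 h3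
    rw [map_div₀]
    have e1 : τ a = a / N := by rw [eq_div_iff hN]; linear_combination h2
    have e2 : τ b = b / N := by rw [eq_div_iff hN]; linear_combination h3
    rw [e1, e2, div_div_div_cancel_right₀ hN]
  have h2 : Nat.card SA ≤ Nat.card (fixF τ) := card_line_le fun a h3 b h4 => mem_fixF.2 (hquo c hc a b h3 h4)
  have h3 : Nat.card SZ ≤ Nat.card (fixF τ ⊓ fixF σ : Subfield F) := by
    refine card_line_le fun a h3 b h4 => ⟨hquo _ hN a b h3.2 h4.2, ?_⟩
    change σ (a / b) = a / b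
    rw [map_div₀, h3.1, h4.1, neg_div_neg_eq]
  have hσ : Nat.card (fixF σ) = q := (card_fix hF).1
  have htop : ∀ x, τ x ≠ x → Nat.card (fixF τ) ≤ q := by
    intro x hx
    have h4 := card_sq_le (E := fixF τ) (A := ⊤) le_top (x := x) trivial (fun h => hx h)
    have h5 : Nat.card (⊤ : Subfield F) = Nat.card F := Nat.card_congr (Subfield.topEquiv).toEquiv
    rw [h5, hF.card] at h4
    exact (Nat.pow_le_pow_iff_left (by norm_num)).1 h4
  by_cases hcase : ∃ x, σ x = x ∧ τ x ≠ x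
  · obtain ⟨x, hx1, hx2⟩ := hcase
    have h4 : Nat.card (fixF τ ⊓ fixF σ : Subfield F) ^ 2 ≤ Nat.card (fixF σ) :=
      card_sq_le inf_le_right (x := x) hx1 (fun h => hx2 h.1)
    rw [hσ] at h4
    calc Nat.card {x : Pt σ // φ x = x} ^ 2 ≤ (Nat.card SA * Nat.card SZ) ^ 2 := Nat.pow_le_pow_left h1 2
      _ = Nat.card SA ^ 2 * Nat.card SZ ^ 2 := by ring
      _ ≤ q ^ 2 * q := Nat.mul_le_mul (Nat.pow_le_pow_left (h2.trans (htop x hx2)) 2)
          ((Nat.pow_le_pow_left h3 2).trans h4)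
      _ = q ^ 3 := by ring
  · push Not at hcase
    obtain ⟨z, hz0, hz1⟩ := hz
    have hzb : σ z.b = -z.b := by
      have := z.h
      rw [hz0] at this
      linear_combination this
    have hSZ1 : ∀ b ∈ SZ, b = 0 := by
      intro b hb0
      by_contra hne
      apply hz1
      have h4 : σ (z.b / b) = z.b / b := by rw [map_div₀, hzb, hb0.1, neg_div_neg_eq]
      have h5 := hcase _ h4
      have h6 : z.b = b * (z.b / b) := by rw [mul_div_cancel₀ _ hne]
      refine ext' ?_ ?_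
      · rw [ha, hz0, map_zero, mul_zero]
      · rw [hb z hz0, h6, map_mul, h5]
        linear_combination (z.b / b) * hb0.2
    have h4 : Nat.card SZ ≤ 1 :=
      Finite.card_le_one_iff_subsingleton.2 ⟨fun a b => Subtype.ext (by rw [hSZ1 _ a.2, hSZ1 _ b.2])⟩
    have h5 : Nat.card SA ≤ q := by
      by_cases hτ : ∃ x, τ x ≠ x
      · obtain ⟨x, hx⟩ := hτ
        exact h2.trans (htop x hx)
      · push Not at hτ
        have h6 : ∀ a ∈ SA, a = 0 := by
          intro a h6
          by_contra hne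
          have h7 : c = 1 := by
            have h8 : c * a = a := by
              have h9 : c * τ a = a := h6
              rwa [hτ] at h9
            exact mul_right_cancel₀ hne (by rw [h8, one_mul])
          apply hz1
          refine ext' ?_ ?_
          · rw [ha, hz0, map_zero, mul_zero]
          · rw [hb z hz0, h7, map_one, hτ]; ring
        have h7 : Nat.card SA ≤ 1 :=
          Finite.card_le_one_iff_subsingleton.2 ⟨fun a b => Subtype.ext (by rw [h6 _ a.2, h6 _ b.2])⟩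
        omega
    calc Nat.card {x : Pt σ // φ x = x} ^ 2 ≤ (Nat.card SA * Nat.card SZ) ^ 2 := Nat.pow_le_pow_left h1 2
      _ ≤ (q * 1) ^ 2 := Nat.pow_le_pow_left (Nat.mul_le_mul h5 h4) 2
      _ = q ^ 2 := by rw [mul_one]
      _ ≤ q ^ 3 := Nat.pow_le_pow_right (by omega) (by norm_num)

/-! ### The core -/

/-- An element fixing the two base points, trivial on the centre. -/
theorem core [Finite F] (hF : UG σ q) {r : ℕ} [hr : Fact r.Prime] (hrq : ¬ r ∣ q) {f : Equiv.Perm (Om σ)}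
    (hf : f ∈ famStab (u3Fam σ)) {φ φ' : Pt σ → Pt σ} (A : Au f φ φ')
    (hP : ∀ m ∈ u3Fam σ none, PE r (f * (m * f * m⁻¹))) (hz : ∀ x : Pt σ, x.a = 0 → φ x = x) : f = 1 := by
  have hfin : Finite (Pt σ) := finite_pt
  have hK : ¬ r ∣ Nat.card (u3Fam σ none) := by
    have e : Nat.card (u3Fam σ none) = Nat.card (Pt σ) := by
      refine Nat.card_congr (Equiv.ofBijective (fun x : Pt σ => (⟨tl x, mem_none.2 ⟨x, rfl⟩⟩ : u3Fam σ none))
        ⟨?_, ?_⟩).symm
      · intro x y hxy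
        exact tl_injective (congrArg Subtype.val hxy)
      · rintro ⟨g, hg⟩
        obtain ⟨a, rfl⟩ := mem_none.1 hg
        exact ⟨a, rfl⟩
    rw [e, card_pt hF]
    exact fun h => hrq (hr.out.dvd_of_dvd_pow h)
  have hf' : ∀ k, f * k * f⁻¹ ∈ u3Fam σ none ↔ k ∈ u3Fam σ none := by
    intro k
    have h1 := hf none k
    rw [A.none] at h1
    exact h1.symm
  have hcomm : ∀ x : Pt σ, f * tl x = tl (φ x) * f := by
    intro x
    apply Equiv.ext
    intro z
    exact A.tr x z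
  have hNN : ∀ n ∈ H460.Lem1.NN hK hf' hP, n = 1 := by
    have key : ∀ x : Pt σ, x.a = 0 → tl x ∈ H460.Lem1.NN hK hf' hP → x = 1 := by
      intro x hx hn
      have h1 := H460.Lem1.eq_one_of_comm hK hf' hP hn (by rw [hcomm, hz x hx])
      rw [← tl_one] at h1
      exact tl_injective h1
    intro n hn
    obtain ⟨x, rfl⟩ := mem_none.1 (H460.Lem1.NN_le hK hf' hP hn)
    by_cases hx : x.a = 0
    · rw [key x hx hn, tl_one]
    · exfalso
      apply hx
      rw [← central_iff hF]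
      intro y
      have h1 := H460.Lem1.NN_conj hK hf' hP (mem_none.2 ⟨y, rfl⟩ : tl y ∈ u3Fam σ none) hn
      have h2 := mul_mem h1 (inv_mem hn)
      rw [tl_inv, tl_inv, tl_mul, tl_mul, tl_mul] at h2
      have h3 := key _ (by simp only [mul_a, inv_a]; ring) h2
      rw [mul_inv_eq_one, mul_inv_eq_iff_eq_mul] at h3
      exact h3.symm
  have hφ : ∀ x, φ x = x := by
    intro x
    have h1 := hNN _ (H460.Lem1.comm_mem hK hf' hP (mem_none.2 ⟨x, rfl⟩ : tl x ∈ u3Fam σ none))
    have h2 : tl x * f = f * tl x := by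
      have h3 : f⁻¹ * tl x * f = tl x := mul_inv_eq_one.1 h1
      calc tl x * f = f * (f⁻¹ * tl x * f) := by group
        _ = _ := by rw [h3]
    rw [hcomm] at h2
    exact (tl_injective (mul_right_cancel h2)).symm
  apply Equiv.ext
  rintro (_ | x)
  · exact A.none
  · rw [A.val, hφ]; rfl

theorem tl_mem_L (a : Pt σ) : tl a ∈ ⨆ y, u3Fam σ y :=
  (le_iSup (u3Fam σ) none) (RankOneU3.mem_none.2 ⟨a, rfl⟩)

theorem jtj_mem_L (a : Pt σ) : jj * tl a * jj ∈ ⨆ y, u3Fam σ y := by
  refine (le_iSup (u3Fam σ) (some 1)) (RankOneU3.mem_some.2 ⟨a, ?_⟩)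
  rw [tl_one, one_mul, jj_inv]

theorem jj_mem_L (hF : UG σ q) : (jj : Equiv.Perm (Om σ)) ∈ ⨆ y, u3Fam σ y := by
  obtain ⟨x, hx⟩ := exists_pt_b hF (1 : F)
  have hx1 : x ≠ 1 := by
    rintro rfl
    rw [one_b] at hx
    exact zero_ne_one hx
  have h1 : dp (lam x) (lam_ne_zero hx1) * jj ∈ ⨆ y, u3Fam σ y := by
    have h1 := mu_perm hx1
    have h2 : dp (lam x) (lam_ne_zero hx1) * jj = (jj * tl (J x)⁻¹ * jj) * tl x * (jj * tl (J x⁻¹) * jj) := by
      have h3 : dp (lam x) (lam_ne_zero hx1) =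
          jj * (tl (J x))⁻¹ * jj * tl x * jj * tl (J x⁻¹) := by
        rw [h1, inv_mul_cancel_right]
      rw [h3, tl_inv]
      group
    rw [h2]
    exact mul_mem (mul_mem (jtj_mem_L _) (tl_mem_L _)) (jtj_mem_L _)
  have h2 : lam x = 1 := by
    unfold lam
    rw [hx, map_one, mul_one, div_one]
  have h3 : dp (lam x) (lam_ne_zero hx1) = (1 : Equiv.Perm (Om σ)) := by
    apply Equiv.ext
    rintro (_ | z)
    · rfl
    · change some (D (lam x) z) = some z
      rw [h2, D_one']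
  rwa [h3, one_mul] at h1

theorem L_le_famStab : (⨆ y, u3Fam σ y) ≤ famStab (u3Fam σ) := by
  refine iSup_le fun y => ?_
  rintro _ ⟨a, rfl⟩
  exact mul_mem (mul_mem (U3One.toPt_mem y) (tl_mem a)) (inv_mem (U3One.toPt_mem y))

theorem toPt_mem_L (hF : UG σ q) (y : Om σ) : tp y ∈ ⨆ y, u3Fam σ y := by
  rcases y with _ | x
  · exact one_mem _
  · exact mul_mem (tl_mem_L x) (jj_mem_L hF)

theorem exists_L (hF : UG σ q) {y0 y1 : Om σ} (h : y0 ≠ y1) :
    ∃ k ∈ ⨆ y, u3Fam σ y, k none = y0 ∧ k (some 1) = y1 := by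
  have h1 : (tp y0)⁻¹ y1 ≠ none := by
    intro h3
    apply h
    have h4 : tp y0 ((tp y0)⁻¹ y1) = y1 := (tp y0).apply_symm_apply _
    rw [h3, U3One.toPt_apply] at h4
    exact h4
  obtain ⟨s, hs⟩ := Option.ne_none_iff_exists'.mp h1
  refine ⟨tp y0 * tl s, mul_mem (toPt_mem_L hF _) (tl_mem_L s), ?_, ?_⟩
  · change tp y0 (tl s none) = y0
    rw [U3Model.tr_none, U3One.toPt_apply]
  · change tp y0 (tl s (some 1)) = y1
    rw [U3Model.tr_some, mul_one, ← hs]
    exact (tp y0).apply_symm_apply _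

theorem twoTr (hF : UG σ q) : TwoTr (⨆ y, u3Fam σ y) := by
  intro a b c d hab hcd
  obtain ⟨k, hk, h1, h2⟩ := exists_L hF hab
  obtain ⟨l, hl, h3, h4⟩ := exists_L hF hcd
  refine ⟨l * k⁻¹, mul_mem hl (inv_mem hk), ?_, ?_⟩
  · rw [← h1]
    change l (k⁻¹ (k none)) = c
    rw [show k⁻¹ (k none) = none from k.symm_apply_apply _, h3]
  · rw [← h2]
    change l (k⁻¹ (k (some 1))) = d
    rw [show k⁻¹ (k (some 1)) = some 1 from k.symm_apply_apply _, h4]

/-- An element of the stabiliser fixing the two base points is an automorphism. -/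
theorem exists_au' {c : Equiv.Perm (Om σ)} (hc : c ∈ famStab (u3Fam σ)) (h0 : c none = none)
    (h1 : c (some 1) = some 1) : ∃ φ φ', Au c φ φ' := by
  have key : ∀ c : Equiv.Perm (Om σ), c ∈ famStab (u3Fam σ) → c none = none → ∀ x, ∃ y, c * tl x * c⁻¹ = tl y := by
    intro c hc h0 x
    have h3 := (hc none (tl x)).1 (mem_none.2 ⟨_, rfl⟩)
    rw [h0] at h3
    exact mem_none.1 h3
  exact exists_au c h0 h1 (key c hc h0)
    (key (jj * c * jj) (mul_mem (mul_mem jj_mem hc) jj_mem)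
      (by show jj (c (jj none)) = none; rw [jj_none, h1, jj_one]))

theorem exists_two_of_nf {Om : Type*} [Finite Om] {f : Equiv.Perm Om} (h : 2 ≤ nf f) : ∃ a b, a ≠ b ∧ f a = a ∧ f b = b := by
  obtain ⟨a, b, hab⟩ := (Finite.one_lt_card_iff_nontrivial (α := {x // f x = x})).1 (by unfold nf at h; omega)
  exact ⟨a, b, fun h => hab (Subtype.ext h), a.2, b.2⟩

theorem nf_conj {Om : Type*} (f k : Equiv.Perm Om) : nf (k⁻¹ * f * k) = nf f := by
  refine Nat.card_congr
    { toFun := fun x => ⟨k x.1, ?_⟩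
      invFun := fun y => ⟨k⁻¹ y.1, ?_⟩
      left_inv := fun x => Subtype.ext (k.symm_apply_apply _)
      right_inv := fun y => Subtype.ext (k.apply_symm_apply _) }
  · have h1 : k⁻¹ (f (k x.1)) = x.1 := x.2
    have h2 := congrArg k h1
    rwa [show k (k⁻¹ (f (k x.1))) = f (k x.1) from k.apply_symm_apply _] at h2
  · change k⁻¹ (f (k (k⁻¹ y.1))) = k⁻¹ y.1
    rw [show k (k⁻¹ y.1) = y.1 from k.apply_symm_apply _, y.2]

/-- reduction to the base points -/
theorem reduce [Finite F] (hF : UG σ q) {r : ℕ} [hr : Fact r.Prime] {f : Equiv.Perm (Om σ)}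
    (hf : f ∈ famStab (u3Fam σ)) (h2 : 2 ≤ nf f) (hP : ∀ m ∈ ⨆ y, u3Fam σ y, PE r (f * (m * f * m⁻¹))) :
    ∃ k f' : Equiv.Perm (Om σ), f = k * f' * k⁻¹ ∧ f' ∈ famStab (u3Fam σ) ∧ nf f' = nf f ∧
      (∀ m ∈ ⨆ y, u3Fam σ y, PE r (f' * (m * f' * m⁻¹))) ∧ f' none = none ∧ f' (some 1) = some 1 := by
  have hfin : Finite (Pt σ) := finite_pt
  obtain ⟨a, b, hab, ha, hb⟩ := exists_two_of_nf h2
  obtain ⟨k, hk, h3, h4⟩ := exists_L hF hab
  refine ⟨k, k⁻¹ * f * k, by group, mul_mem (mul_mem (inv_mem (L_le_famStab hk)) hf) (L_le_famStab hk),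
    nf_conj f k, ?_, ?_, ?_⟩
  · intro m hm
    have h5 := (hP (k * m * k⁻¹) (mul_mem (mul_mem hk hm) (inv_mem hk))).conj k⁻¹
    have e : k⁻¹ * (f * (k * m * k⁻¹ * f * (k * m * k⁻¹)⁻¹)) * k⁻¹⁻¹ =
        k⁻¹ * f * k * (m * (k⁻¹ * f * k) * m⁻¹) := by group
    rwa [e] at h5
  · change k⁻¹ (f (k none)) = none
    rw [h3, ha, ← h3]
    exact k.symm_apply_apply _
  · change k⁻¹ (f (k (some 1))) = some 1
    rw [h4, hb, ← h4]
    exact k.symm_apply_apply _

theorem card_Om [Finite F] (hF : UG σ q) : Nat.card (Om σ) = q ^ 3 + 1 := by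
  have hfin : Finite (Pt σ) := finite_pt
  rw [Finite.card_option, card_pt hF]

theorem nf_eq_fix [Finite F] {f : Equiv.Perm (Om σ)} {φ φ' : Pt σ → Pt σ} (A : Au f φ φ') :
    nf f = Nat.card {x : Pt σ // φ x = x} + 1 := by
  have hfin : Finite (Pt σ) := finite_pt
  rw [nf, ← Finite.card_option]
  refine Nat.card_congr
    { toFun := fun z => match z with
        | ⟨none, _⟩ => none
        | ⟨some x, hx⟩ => some ⟨x, by rw [A.val] at hx; exact Option.some_injective _ hx⟩
      invFun := fun z => match z with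
        | none => ⟨none, A.none⟩
        | some x => ⟨some x.1, by rw [A.val, x.2]⟩
      left_inv := ?_
      right_inv := ?_ }
  · rintro ⟨_ | x, hx⟩ <;> rfl
  · rintro (_ | x) <;> rfl

/-- if `q = 2` an automorphism centralises the centre -/
theorem centre_two [Finite F] (hF : UG σ 2) {f : Equiv.Perm (Om σ)} {φ φ' : Pt σ → Pt σ} (A : Au f φ φ') :
    ∀ x : Pt σ, x.a = 0 → φ x = x := by
  classical
  intro x hx
  have hfin : Finite (Pt σ) := finite_pt
  have hc : Nat.card (pr σ).ker = 2 := card_ker hF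
  by_cases hx1 : x = 1
  · rw [hx1, A.map_one]
  · obtain ⟨y, hy⟩ := Nat.card_eq_two_iff' (1 : (pr σ).ker) |>.1 hc
    have h1 : (⟨x, mem_ker.2 hx⟩ : (pr σ).ker) = y :=
      hy.2 _ fun h => hx1 (congrArg Subtype.val h)
    have h2 : (⟨φ x, mem_ker.2 (a_zero A hF hx)⟩ : (pr σ).ker) = y :=
      hy.2 _ fun h => A.ne_one hx1 (congrArg Subtype.val h)
    exact congrArg Subtype.val (h2.trans h1.symm)

/-- **AA-PANU.** -/
theorem pn_u3 {F : Type*} [Field F] [Finite F] (σ : F →+* F) [Inv2 σ] (hσ : ∃ x, σ x ≠ x) {q : ℕ}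
    (hq : Nat.card F = q ^ 2) {r : ℕ} [Fact r.Prime] (_hr2 : r ≠ 2) (h1 : ¬ r ∣ q) (h2 : ¬ r ∣ q ^ 3 + 1) :
    PN r (u3Fam σ) := by
  have hF : UG σ q := ug_of_card hσ hq
  have hfin : Finite (Pt σ) := finite_pt
  have hr : r.Prime := Fact.out
  intro f hf hP
  have hn := card_Om hF
  have hq2 := hF.two_le
  have hq8 : 8 ≤ q ^ 3 := by
    have := Nat.pow_le_pow_left hq2 3
    omega
  have hfix : ∀ m ∈ ⨆ y, u3Fam σ y, 2 ≤ nf (f * (m * f * m⁻¹)) := by
    intro m hm
    refine two_le_nf (r := r) ?_ ?_ (hP m hm)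
    · rwa [hn]
    · rw [hn, Nat.add_sub_cancel]
      exact fun h => h1 (hr.dvd_of_dvd_pow h)
  obtain ⟨h3, h4⟩ := avg (twoTr hF) (by omega) hfix
  rw [hn] at h3 h4
  push_cast at h3 h4
  have hnf : 3 ≤ nf f := by
    by_contra hcon
    push Not at hcon
    have h5 : (nf f : ℤ) ≤ 2 := by omega
    have h6 : (0 : ℤ) ≤ nf f := by positivity
    have h7 : (8 : ℤ) ≤ (q : ℤ) ^ 3 := by exact_mod_cast hq8
    nlinarith
  have h5 := h4 hnf
  obtain ⟨k, f', e, hf', hnf', hP', h0, h1'⟩ := reduce hF hf (by omega) hP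
  obtain ⟨φ, φ', A⟩ := exists_au' hf' h0 h1'
  have hz : ∀ x : Pt σ, x.a = 0 → φ x = x := by
    by_cases hq' : 2 < q
    · by_contra hcon
      push Not at hcon
      have h6 := card_le hF hq' A hcon
      rw [← hnf', nf_eq_fix A] at h5
      push_cast at h5
      have h7 : ((Nat.card {x : Pt σ // φ x = x} : ℤ)) ^ 2 ≤ (q : ℤ) ^ 3 := by exact_mod_cast h6
      nlinarith
    · have hq3 : q = 2 := by omega
      subst hq3
      exact centre_two hF A
  have h6 := core hF h1 hf' A (fun m hm => hP' m (le_iSup (u3Fam σ) none hm)) hz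
  rw [e, h6]
  group

theorem px_u3_two {F : Type*} [Field F] [Finite F] (σ : F →+* F) [Inv2 σ] (hσ : ∃ x, σ x ≠ x)
    (hq : Nat.card F = 4) {r : ℕ} [Fact r.Prime] (hr2 : r ≠ 2) : PX r (u3Fam σ) := by
  have hF : UG σ 2 := ug_of_card hσ (by rw [hq]; norm_num)
  have hfin : Finite (Pt σ) := finite_pt
  have hr : r.Prime := Fact.out
  have h1 : ¬ r ∣ 2 := fun h => hr2 ((Nat.prime_dvd_prime_iff_eq hr Nat.prime_two).1 h)
  intro f hf hPE ⟨y, hy⟩ hP
  have hn := card_Om hF
  -- `f` has two fixed points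
  have h2 : 2 ≤ nf f := by
    classical
    obtain ⟨k, hk⟩ := hPE
    have hp : IsPGroup r (Subgroup.zpowers f) := IsPGroup.of_card (n := k) (by rw [Nat.card_zpowers, hk])
    have h3 := hp.card_modEq_card_fixedPoints (Om σ)
    have e : MulAction.fixedPoints (Subgroup.zpowers f) (Om σ) ≃ {x // f x = x} := by
      refine Equiv.subtypeEquivRight fun x => ?_
      rw [MulAction.mem_fixedPoints]
      constructor
      · intro h
        exact h ⟨f, Subgroup.mem_zpowers f⟩
      · rintro h ⟨m, hm⟩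
        obtain ⟨i, rfl⟩ := Subgroup.mem_zpowers_iff.1 hm
        change (f ^ i) x = x
        have h4 : f ∈ MulAction.stabilizer (Equiv.Perm (Om σ)) x := h
        exact (Subgroup.zpow_mem _ h4 i : f ^ i ∈ MulAction.stabilizer (Equiv.Perm (Om σ)) x)
    rw [Nat.card_congr e] at h3
    change Nat.card (Om σ) ≡ nf f [MOD r] at h3
    have h4 : 1 ≤ nf f := by
      have : Nonempty {x // f x = x} := ⟨⟨y, hy⟩⟩
      exact Nat.card_pos
    by_contra hcon
    have h5 : nf f = 1 := by omega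
    rw [h5, hn] at h3
    have h6 := (Nat.modEq_iff_dvd' (by norm_num)).1 h3.symm
    exact h1 (hr.dvd_of_dvd_pow (show r ∣ 2 ^ 3 by simpa using h6))
  obtain ⟨k, f', e, hf', hnf', hP', h0, h1'⟩ := reduce hF hf h2 hP
  obtain ⟨φ, φ', A⟩ := exists_au' hf' h0 h1'
  have h6 := core hF h1 hf' A (fun m hm => hP' m (le_iSup (u3Fam σ) none hm)) (centre_two hF A)
  rw [e, h6]
  group

end Cfsg.Agent.H223.PanU3
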