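import Mathlib
import Cfsg.Prelude.Def_LocalStructure
import Cfsg.Agent.Transfer.Residual
import Cfsg.Agent.H223.OpTrivial

/-!
# Groups with `O_p = 1` and quasisimple `O^p`
-/

set_option autoImplicit false
set_option linter.style.haveILetI false

namespace Cfsg.Agent.H223.QuasiRes

open scoped commutatorElement
open Cfsg Subgroup
open Cfsg.Agent.Transfer.Residual Cfsg.Agent.Lib.CoprimeCommutator Cfsg.Agent.Lib.Cores
open Cfsg.Agent.SignalizersComponents.Components

variable {H : Type*} [Group H] [Finite H] {p : ℕ} [hp : Fact p.Prime]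

/-- `O_p(H) = 1`: the centraliser of `O^p(H)` has order prime to `p` if it meets `O^p(H)` in
the centre. -/
theorem card_centralizer_pResidual (hO : pCore p H = ⊥) :
    ¬ p ∣ Nat.card (centralizer (pResidual p H : Set H)) := by
  have hKn : (pResidual p H).Normal := pResidual_normal p
  set K := pResidual p H with hK
  set C : Subgroup H := centralizer (K : Set H) with hC
  have hCn : C.Normal := inferInstance
  have hnil : Group.IsNilpotent C := by
    have h1 : IsPGroup p (H ⧸ K) := isPGroup_quotient_pResidual
    have h2 : Group.IsNilpotent (H ⧸ K) := h1.isNilpotent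
    let f : C →* H ⧸ K := (QuotientGroup.mk' K).comp C.subtype
    have hf : f.ker ≤ center C := by
      intro c hc
      have hcK : (c : H) ∈ K := by
        have : (QuotientGroup.mk' K) (c : H) = 1 := hc
        rwa [QuotientGroup.mk'_apply, QuotientGroup.eq_one_iff] at this
      rw [mem_center_iff]
      intro g
      apply Subtype.ext
      exact (mem_centralizer_iff.mp g.2 c hcK).symm
    exact Subgroup.isNilpotent_of_ker_le_center f hf
  intro hdvd
  obtain ⟨x, hx⟩ := exists_prime_orderOf_dvd_card' p hdvd
  have h1 : (x : H) ∈ pCore p H := by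
    refine Cfsg.Agent.Lib.GenFitting.mem_pCore_of_mem_nilpotent_normal hCn hnil (k := 1) x.2 ?_
    rw [pow_one, ← hx, ← SubgroupClass.coe_pow, pow_orderOf_eq_one]; rfl
  rw [hO, mem_bot] at h1
  have h2 : x = 1 := Subtype.ext h1
  rw [h2, orderOf_one] at hx
  exact hp.out.one_lt.ne hx

/-- `C_H(O^p(H)) ≤ O^p(H)` if `O_p(H) = 1`. -/
theorem centralizer_pResidual_le (hO : pCore p H = ⊥) :
    centralizer (pResidual p H : Set H) ≤ pResidual p H := by
  intro c hc
  refine mem_pResidual_of_coprime ?_
  have h1 : orderOf c ∣ Nat.card (centralizer (pResidual p H : Set H)) := by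
    have h2 := orderOf_dvd_natCard (⟨c, hc⟩ : centralizer (pResidual p H : Set H))
    rwa [Subgroup.orderOf_mk] at h2
  rw [Nat.coprime_comm]
  exact ((Nat.Prime.coprime_iff_not_dvd hp.out).mpr (card_centralizer_pResidual hO)).coprime_dvd_right
    h1

theorem eq_bot_of_le_centralizer (hO : pCore p H = ⊥) {Y : Subgroup H} (hY : IsPGroup p Y)
    (h : Y ≤ centralizer (pResidual p H : Set H)) : Y = ⊥ := by
  rw [← Subgroup.card_eq_one]
  obtain ⟨k, hk⟩ := IsPGroup.iff_card.mp hY
  have h1 : Nat.card Y ∣ Nat.card (centralizer (pResidual p H : Set H)) := card_dvd_of_le h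
  rcases Nat.eq_zero_or_pos k with rfl | hk0
  · simpa using hk
  · exfalso
    apply card_centralizer_pResidual hO
    refine dvd_trans ?_ h1
    rw [hk]; exact dvd_pow_self p hk0.ne'

variable (hq : IsQuasisimple ↥(pResidual p H))

include hq

omit [Finite H] hp in
theorem isComponent_pResidual : IsComponent (pResidual p H) :=
  ⟨(pResidual_normal p).isSubnormal, hq⟩

theorem genFitting_eq (hO : pCore p H = ⊥) :
    pResidual p H = generalizedFittingSubgroup H := by
  have hK := isComponent_pResidual hq
  apply le_antisymm
  · exact (component_le_layer hK).trans le_sup_left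
  · change layer H ⊔ fittingSubgroup H ≤ _
    refine sup_le ?_ ?_
    · rw [layer_le_iff]
      intro L hL
      by_cases h : L = pResidual p H
      · exact h.le
      · exact (component_le_centralizer_of_ne hL hK h).trans (centralizer_pResidual_le hO)
    · refine le_trans ?_ (centralizer_pResidual_le hO)
      have h1 : pResidual p H ≤ centralizer (fittingSubgroup H : Set H) :=
        (component_le_layer hK).trans layer_le_centralizer_fitting
      exact le_centralizer_iff.mp h1

theorem commutator_eq (hO : pCore p H = ⊥) {Y : Subgroup H} (hY : IsPGroup p Y) (hne : Y ≠ ⊥) :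
    ⁅pResidual p H, Y⁆ = pResidual p H := by
  have hK := isComponent_pResidual hq
  have hKn : (pResidual p H).Normal := pResidual_normal p
  have hle : ⁅pResidual p H, Y⁆ ≤ pResidual p H := by
    refine commutator_le_left ?_
    rw [normalizer_eq_top]; exact le_top
  refine le_antisymm hle ?_
  rcases component_le_or_commutator_eq_bot_of_le_normalizer hK
    (left_le_normalizer_commutator (pResidual p H) Y) with h | h
  · exact h
  · exfalso
    apply hne
    have h1 : ⁅⁅Y, pResidual p H⁆, pResidual p H⁆ = ⊥ := by
      rw [commutator_comm Y, commutator_comm]; exact h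
    have h2 := commutator_eq_bot_of_commutator_commutator_eq_bot hq.1 h1
    exact eq_bot_of_le_centralizer hO hY (commutator_eq_bot_iff_le_centralizer.mp h2)

theorem coprime_of_normal (hO : pCore p H = ⊥) {C : Subgroup H} (hC : C.Normal)
    (hn : ¬ pResidual p H ≤ C) : (Nat.card C).Coprime p := by
  rcases component_le_or_commutator_eq_bot (isComponent_pResidual hq) hC.isSubnormal with h | h
  · exact absurd h hn
  · rw [commutator_comm, commutator_eq_bot_iff_le_centralizer] at h
    rw [Nat.coprime_comm]
    exact ((Nat.Prime.coprime_iff_not_dvd hp.out).mpr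
      (card_centralizer_pResidual hO)).coprime_dvd_right (card_dvd_of_le h)

theorem isPIrreducible (hdvd : p ∣ Nat.card H) (hO : pCore p H = ⊥) : IsPIrreducible p H := by
  refine ⟨fun hcl => ?_, fun N hN hncl => ?_⟩
  · obtain ⟨P⟩ : Nonempty (Sylow p H) := inferInstance
    have h1 : (P : Subgroup H) ≤ pCore p H := le_pCore (hcl P) P.isPGroup'
    rw [hO, le_bot_iff] at h1
    exact P.ne_bot_of_dvd_card hdvd h1
  · by_contra hn
    apply hncl
    intro P
    have h1 := coprime_of_normal hq hO hN hn
    have h2 : (P : Subgroup N) = ⊥ := by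
      rw [← Subgroup.card_eq_one]
      obtain ⟨k, hk⟩ := IsPGroup.iff_card.mp P.isPGroup'
      have h3 : Nat.card (P : Subgroup N) ∣ Nat.card N := card_subgroup_dvd_card _
      rcases Nat.eq_zero_or_pos k with rfl | hk0
      · simpa using hk
      · exfalso
        have h4 : p ∣ Nat.card N := by
          refine dvd_trans ?_ h3
          rw [hk]; exact dvd_pow_self p hk0.ne'
        have h5 := Nat.Coprime.coprime_dvd_left h4 h1
        rw [Nat.coprime_self] at h5
        exact hp.out.one_lt.ne' h5
    rw [h2]; infer_instance

end Cfsg.Agent.H223.QuasiRes
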