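import Mathlib

/-!
# Solvable linear groups of degree three containing an irreducible element with scalar cube (helper223)

`main` : `H` finite solvable, `ρ : H →* End V`, `dim V = 3`, characteristic `≠ 3`; `ρ a` irreducible, `(ρ a)³` scalar;
`(ρ t)² = 1` and every endomorphism commuting with `ρ t` preserves the line of `v ≠ 0`; `u ^ s = 1`, `s ≥ 5` prime,
`ρ u ≠ 1` has a non-zero fixed vector. Then `w`, `ρ a w`, `(ρ a)² w` are eigenvectors of `ρ u` for some `w ≠ 0`.
-/

set_option autoImplicit false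

namespace Cfsg.Agent.H223.Solv3

open Module Subgroup
open scoped commutatorElement

variable {F V : Type*} [Field F] [AddCommGroup V] [Module F V] {H : Type*} [Group H]

/-- no invariant proper subspaces -/
def Irr (T : Module.End F V) : Prop := ∀ W : Submodule F V, (∀ w ∈ W, T w ∈ W) → W = ⊥ ∨ W = ⊤

/-- elements acting as scalars -/
def scal (ρ : H →* Module.End F V) : Subgroup H where
  carrier := {h | ∃ c : F, ρ h = c • (1 : Module.End F V)}
  one_mem' := ⟨1, by rw [map_one, one_smul]⟩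
  mul_mem' := by
    rintro a b ⟨c, hc⟩ ⟨d, hd⟩
    exact ⟨c * d, by rw [map_mul, hc, hd, smul_mul_smul_comm, one_mul]⟩
  inv_mem' := by
    rintro a ⟨c, hc⟩
    have h1 : ρ a⁻¹ * ρ a = 1 := by rw [← map_mul, inv_mul_cancel, map_one]
    rw [hc, mul_smul_comm, mul_one] at h1
    by_cases hc0 : c = 0
    · rw [hc0, zero_smul] at h1
      exact ⟨0, by rw [← mul_one (ρ a⁻¹), ← h1, mul_zero, zero_smul]⟩
    · exact ⟨c⁻¹, by rw [← h1, smul_smul, inv_mul_cancel₀ hc0, one_smul]⟩

theorem mem_scal {ρ : H →* Module.End F V} {h : H} : h ∈ scal ρ ↔ ∃ c : F, ρ h = c • (1 : Module.End F V) := Iff.rfl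

instance scal_normal (ρ : H →* Module.End F V) : (scal ρ).Normal := by
  refine ⟨fun a ⟨c, hc⟩ g => ⟨c, ?_⟩⟩
  have h1 : ρ g * ρ g⁻¹ = 1 := by rw [← map_mul, mul_inv_cancel, map_one]
  rw [map_mul, map_mul, hc, mul_smul_comm, mul_one, smul_mul_assoc, h1]

/-- a minimal normal subgroup not acting by scalars -/
theorem exists_min [Finite H] (hsol : Group.IsSolvable H) (S : Subgroup H) [S.Normal] (hS : S ≠ ⊤) :
    ∃ N : Subgroup H, N.Normal ∧ ¬ N ≤ S ∧ ⁅N, N⁆ ≤ S ∧ ∀ M : Subgroup H, M.Normal → M ≤ N → M = N ∨ M ≤ S := by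
  obtain ⟨N, ⟨hN1, hN2⟩, hmin⟩ := (wellFounded_lt (α := Subgroup H)).has_min
    {N : Subgroup H | N.Normal ∧ ¬ N ≤ S} ⟨⊤, inferInstance, fun h => hS (top_le_iff.1 h)⟩
  have hm : ∀ M : Subgroup H, M.Normal → M ≤ N → M = N ∨ M ≤ S := by
    intro M hM hMN
    by_contra hcon
    push Not at hcon
    exact hmin M ⟨hM, hcon.2⟩ (lt_of_le_of_ne hMN hcon.1)
  refine ⟨N, hN1, hN2, ?_, hm⟩
  rcases hm ⁅N, N⁆ inferInstance (commutator_le_left N N) with h | h
  · exfalso
    have hNs : Group.IsSolvable N := Group.isSolvable_of_isSolvable_injective N.subtype_injective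
    have hnt : Nontrivial N := by
      rw [Subgroup.nontrivial_iff_ne_bot]
      rintro rfl
      exact hN2 bot_le
    have h1 := Group.IsSolvable.commutator_lt_top_of_nontrivial N
    have h2 : (commutator N).map N.subtype = N := by
      rw [map_subtype_commutator, h]
    have h3 : commutator N = ⊤ := by
      rw [eq_top_iff]
      intro n _
      have h4 : (n : H) ∈ (commutator N).map N.subtype := by rw [h2]; exact n.2
      obtain ⟨m, hm', h5⟩ := h4
      rwa [← Subtype.ext h5]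
    exact h1.ne h3
  · exact h

theorem unit_ρ (ρ : H →* Module.End F V) (h : H) : ρ h * ρ h⁻¹ = 1 ∧ ρ h⁻¹ * ρ h = 1 := by
  rw [← map_mul, ← map_mul, mul_inv_cancel, inv_mul_cancel, map_one]
  exact ⟨rfl, rfl⟩

theorem det_ne (ρ : H →* Module.End F V) (h : H) : LinearMap.det (ρ h) ≠ 0 := by
  intro h0
  have h1 := congrArg LinearMap.det (unit_ρ ρ h).1
  rw [map_mul, h0, zero_mul, map_one] at h1
  exact zero_ne_one h1

theorem ρ_ne_zero (ρ : H →* Module.End F V) (h : H) {w : V} (hw : w ≠ 0) : ρ h w ≠ 0 := by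
  intro h0
  have h1 := congrArg (fun T : Module.End F V => T w) (unit_ρ ρ h).2
  have h2 : ρ h⁻¹ (ρ h w) = w := h1
  rw [h0, map_zero] at h2
  exact hw h2.symm

/-- commuting up to scalars -/
theorem exists_c (ρ : H →* Module.End F V) (h3 : finrank F V = 3) {n m : H} (h : ⁅n, m⁆ ∈ scal ρ) :
    ∃ c : F, ρ n * ρ m = c • (ρ m * ρ n) ∧ c ^ 3 = 1 := by
  obtain ⟨c, hc⟩ := h
  have h1 : ρ n * ρ m = c • (ρ m * ρ n) := by
    have e : n * m = ⁅n, m⁆ * (m * n) := by rw [commutatorElement_def]; group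
    rw [← map_mul, e, map_mul, hc, smul_mul_assoc, one_mul, map_mul]
  refine ⟨c, h1, ?_⟩
  have h2 := congrArg LinearMap.det h1
  rw [LinearMap.det_smul, h3, map_mul, map_mul] at h2
  have h4 : LinearMap.det (ρ n) * LinearMap.det (ρ m) ≠ 0 := mul_ne_zero (det_ne ρ n) (det_ne ρ m)
  have h5 : (c ^ 3 - 1) * (LinearMap.det (ρ n) * LinearMap.det (ρ m)) = 0 := by linear_combination -h2
  exact sub_eq_zero.1 ((mul_eq_zero.1 h5).resolve_right h4)

/-! ### The non-commutative case -/

section NonComm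

variable [Finite H] (ρ : H →* Module.End F V) (h3 : finrank F V = 3) (hF3 : (3 : F) ≠ 0) {N : Subgroup H}
  [hN : N.Normal] (hNN : ⁅N, N⁆ ≤ scal ρ)
  (hZ : ∀ n ∈ N, (∀ m ∈ N, ρ n * ρ m = ρ m * ρ n) → n ∈ scal ρ)

include h3 hNN hZ in
theorem trace_zero {n : H} (hn : n ∈ N) (hns : n ∉ scal ρ) : LinearMap.trace F V (ρ n) = 0 := by
  have h1 : ∃ m ∈ N, ρ n * ρ m ≠ ρ m * ρ n := by
    by_contra hcon
    push Not at hcon
    exact hns (hZ n hn hcon)
  obtain ⟨m, hm, h2⟩ := h1
  obtain ⟨c, hc, -⟩ := exists_c ρ h3 (hNN (commutator_mem_commutator hn hm))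
  have hc1 : c ≠ 1 := by
    rintro rfl
    rw [one_smul] at hc
    exact h2 hc
  have h4 : ρ n = c • (ρ m * ρ n * ρ m⁻¹) := by
    calc ρ n = ρ n * ρ m * ρ m⁻¹ := by rw [mul_assoc, (unit_ρ ρ m).1, mul_one]
      _ = _ := by rw [hc, smul_mul_assoc]
  have h5 : LinearMap.trace F V (ρ n) = c * LinearMap.trace F V (ρ n) := by
    conv_lhs => rw [h4]
    rw [map_smul, smul_eq_mul, LinearMap.trace_mul_comm, ← mul_assoc, (unit_ρ ρ m).2, one_mul]
  have h6 : (1 - c) * LinearMap.trace F V (ρ n) = 0 := by linear_combination h5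
  exact (mul_eq_zero.1 h6).resolve_left (sub_ne_zero.2 (Ne.symm hc1))

include h3 hF3 hNN hZ in
theorem card_le_nine : Nat.card (N ⧸ (scal ρ).subgroupOf N) ≤ 9 := by
  classical
  have hfin : Finite V ∨ True := Or.inr trivial
  have hfd : FiniteDimensional F V := Module.finite_of_finrank_pos (by rw [h3]; norm_num)
  have : Fintype (N ⧸ (scal ρ).subgroupOf N) := Fintype.ofFinite _
  set r : (N ⧸ (scal ρ).subgroupOf N) → N := Quotient.out with hr
  have hind : LinearIndependent F (fun q : N ⧸ (scal ρ).subgroupOf N => ρ (r q)) := by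
    rw [Fintype.linearIndependent_iff]
    intro g hg q0
    have h1 := congrArg (fun T : Module.End F V => LinearMap.trace F V (ρ (r q0 : H)⁻¹ * T)) hg
    simp only [mul_zero, map_zero] at h1
    rw [Finset.mul_sum, map_sum] at h1
    rw [Finset.sum_eq_single q0] at h1
    · rw [mul_smul_comm, (unit_ρ ρ _).2, map_smul, LinearMap.trace_one, h3, smul_eq_mul] at h1
      exact (mul_eq_zero.1 h1).resolve_right (by exact_mod_cast hF3)
    · intro q _ hq
      rw [mul_smul_comm, map_smul, ← map_mul]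
      have h2 : ((r q0 : H)⁻¹ * (r q : H)) ∉ scal ρ := by
        intro h
        apply hq
        have h4 : (r q0)⁻¹ * r q ∈ (scal ρ).subgroupOf N := h
        have h5 := QuotientGroup.eq.2 h4
        rw [hr, QuotientGroup.out_eq', QuotientGroup.out_eq'] at h5
        exact h5.symm
      rw [trace_zero ρ h3 hNN hZ (mul_mem (inv_mem (r q0).2) (r q).2) h2, smul_zero]
    · intro h; exact absurd (Finset.mem_univ _) h
  have h4 := hind.fintype_card_le_finrank
  rw [Module.finrank_linearMap, h3] at h4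
  rw [Nat.card_eq_fintype_card]
  exact h4

include h3 hNN hZ in
theorem cube_mem {n : H} (hn : n ∈ N) : n ^ 3 ∈ scal ρ := by
  apply hZ _ (pow_mem hn 3)
  intro m hm
  obtain ⟨c, hc, hc3⟩ := exists_c ρ h3 (hNN (commutator_mem_commutator hn hm))
  have hpow : ∀ k : ℕ, ρ n ^ k * ρ m = c ^ k • (ρ m * ρ n ^ k) := by
    intro k
    induction k with
    | zero => simp
    | succ k ih =>
      rw [pow_succ (ρ n), mul_assoc, hc, mul_smul_comm, ← mul_assoc, ih, smul_mul_assoc, smul_smul, mul_assoc,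
        ← pow_succ (ρ n), ← pow_succ' c]
  rw [map_pow, hpow 3, hc3, one_smul]

include h3 hF3 hNN hZ in
theorem card_cases : Nat.card (N ⧸ (scal ρ).subgroupOf N) = 1 ∨ Nat.card (N ⧸ (scal ρ).subgroupOf N) = 3 ∨
    Nat.card (N ⧸ (scal ρ).subgroupOf N) = 9 := by
  have : Fact (Nat.Prime 3) := ⟨Nat.prime_three⟩
  have h1 : IsPGroup 3 (N ⧸ (scal ρ).subgroupOf N) := by
    intro q
    obtain ⟨n, rfl⟩ := QuotientGroup.mk_surjective q
    refine ⟨1, ?_⟩
    rw [pow_one, ← QuotientGroup.mk_pow, QuotientGroup.eq_one_iff]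
    exact cube_mem ρ h3 hNN hZ n.2
  obtain ⟨k, hk⟩ := IsPGroup.iff_card.1 h1
  have h2 := card_le_nine ρ h3 hF3 hNN hZ
  rw [hk] at h2 ⊢
  have hk2 : k ≤ 2 := by
    by_contra hcon
    push Not at hcon
    have := Nat.pow_le_pow_right (n := 3) (by norm_num) hcon
    omega
  interval_cases k <;> simp

include h3 hF3 hNN hZ in
/-- an element of prime order at least five centralises `N` modulo scalars -/
theorem comm_mod {s : ℕ} [hsp : Fact s.Prime] (hs5 : 5 ≤ s) {u : H} (hu : u ^ s = 1) {n : H} (hn : n ∈ N) :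
    n⁻¹ * (u * n * u⁻¹) ∈ scal ρ := by
  classical
  set Q := N ⧸ (scal ρ).subgroupOf N with hQ
  have : Fintype Q := Fintype.ofFinite _
  let f : Q →* Q := QuotientGroup.map _ _ (MulAut.conjNormal u : MulAut N).toMonoidHom (by
    intro x hx
    rw [mem_comap, mem_subgroupOf]
    have h1 : ((MulAut.conjNormal u x : N) : H) = u * x * u⁻¹ := MulAut.conjNormal_apply u x
    change ((MulAut.conjNormal u x : N) : H) ∈ scal ρ
    rw [h1]
    exact (inferInstance : (scal ρ).Normal).conj_mem _ hx u)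
  have hf : ∀ x : N, f (QuotientGroup.mk x) = QuotientGroup.mk (MulAut.conjNormal u x) := fun x => rfl
  let g : Function.End Q := fun x => f x
  have hg : ∀ k : ℕ, ∀ x : N, (g ^ k) (QuotientGroup.mk x) = QuotientGroup.mk (MulAut.conjNormal (u ^ k) x) := by
    intro k
    induction k with
    | zero => intro x; rw [pow_zero, pow_zero, map_one]; rfl
    | succ k ih =>
      intro x
      rw [pow_succ', pow_succ', map_mul]
      change g ((g ^ k) (QuotientGroup.mk x)) = _
      rw [ih]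
      rfl
  have hgs : g ^ s ^ 1 = 1 := by
    rw [pow_one]
    funext x
    obtain ⟨x, rfl⟩ := QuotientGroup.mk_surjective x
    rw [hg, hu, map_one]
    rfl
  have h1 := Equiv.Perm.card_fixedPoints_modEq hgs
  set C : Subgroup Q := f.eqLocus (MonoidHom.id Q) with hC
  have h2 : Fintype.card (Function.fixedPoints g) = Nat.card C := by
    rw [← Nat.card_eq_fintype_card]
    exact Nat.card_congr (Equiv.subtypeEquivRight fun x => Iff.rfl)
  rw [h2, ← Nat.card_eq_fintype_card] at h1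
  have h4 := Subgroup.card_subgroup_dvd_card C
  have h5 : Nat.card C = Nat.card Q := by
    have h6 := (Nat.modEq_iff_dvd' (Nat.le_of_dvd Nat.card_pos h4)).1 h1.symm
    rcases card_cases ρ h3 hF3 hNN hZ with h7 | h7 | h7
    · rw [h7] at h4 ⊢
      exact Nat.dvd_one.1 h4
    · rw [h7] at h4 h6 ⊢
      rcases (Nat.dvd_prime Nat.prime_three).1 h4 with h8 | h8
      · rw [h8] at h6
        have := Nat.le_of_dvd (by norm_num) h6
        omega
      · exact h8
    · rw [h7] at h4 h6 ⊢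
      have h8 : Nat.card C ≤ 9 := Nat.le_of_dvd (by norm_num) h4
      interval_cases h9 : Nat.card C <;> simp_all
      all_goals
        exfalso
        have h10 := Nat.le_of_dvd (by norm_num) h6
        interval_cases s <;> simp_all (config := { decide := true })
  have h6 : C = ⊤ := Subgroup.eq_top_of_card_eq C h5
  have h7 : (QuotientGroup.mk (⟨n, hn⟩ : N) : Q) ∈ C := by rw [h6]; exact mem_top _
  have h8 : (QuotientGroup.mk (MulAut.conjNormal u (⟨n, hn⟩ : N)) : Q) = QuotientGroup.mk ⟨n, hn⟩ := h7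
  have h9 := QuotientGroup.eq.1 h8.symm
  rw [mem_subgroupOf] at h9
  have h10 : ((MulAut.conjNormal u ⟨n, hn⟩ : N) : H) = u * n * u⁻¹ := MulAut.conjNormal_apply u _
  have h11 : (((⟨n, hn⟩ : N)⁻¹ * MulAut.conjNormal u ⟨n, hn⟩ : N) : H) = n⁻¹ * (u * n * u⁻¹) := by
    rw [Subgroup.coe_mul, h10]; rfl
  rwa [h11] at h9

include h3 hF3 hNN hZ in
theorem comm_of_prime {s : ℕ} [hsp : Fact s.Prime] (hs5 : 5 ≤ s) {u : H} (hu : u ^ s = 1) {n : H} (hn : n ∈ N) :
    ρ u * ρ n = ρ n * ρ u := by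
  obtain ⟨d, hd⟩ := comm_mod ρ h3 hF3 hNN hZ hs5 hu hn
  have h1 : ρ u * ρ n * ρ u⁻¹ = d • ρ n := by
    have e : u * n * u⁻¹ = n * (n⁻¹ * (u * n * u⁻¹)) := by group
    rw [← map_mul, ← map_mul, e, map_mul, hd, mul_smul_comm, mul_one]
  have h2 : ρ u * ρ n = d • (ρ n * ρ u) := by
    calc ρ u * ρ n = ρ u * ρ n * ρ u⁻¹ * ρ u := by rw [mul_assoc _ (ρ u⁻¹), (unit_ρ ρ u).2, mul_one]
      _ = _ := by rw [h1, smul_mul_assoc]
  have hd3 : d ^ 3 = 1 := by
    have h4 := congrArg LinearMap.det h2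
    rw [LinearMap.det_smul, h3, map_mul, map_mul] at h4
    have h5 : LinearMap.det (ρ u) * LinearMap.det (ρ n) ≠ 0 := mul_ne_zero (det_ne ρ u) (det_ne ρ n)
    have h6 : (d ^ 3 - 1) * (LinearMap.det (ρ u) * LinearMap.det (ρ n)) = 0 := by linear_combination -h4
    exact sub_eq_zero.1 ((mul_eq_zero.1 h6).resolve_right h5)
  have hpow : ∀ k : ℕ, ρ u ^ k * ρ n = d ^ k • (ρ n * ρ u ^ k) := by
    intro k
    induction k with
    | zero => simp
    | succ k ih =>
      rw [pow_succ (ρ u), mul_assoc, h2, mul_smul_comm, ← mul_assoc, ih, smul_mul_assoc, smul_smul, mul_assoc,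
        ← pow_succ (ρ u), ← pow_succ' d]
  have hds : d ^ s = 1 := by
    have h4 := hpow s
    rw [← map_pow, hu, map_one, one_mul, mul_one] at h4
    have h5 := congrArg (fun T : Module.End F V => T * ρ n⁻¹) h4
    simp only [smul_mul_assoc, (unit_ρ ρ n).1] at h5
    have hnt : Nontrivial V := Module.nontrivial_of_finrank_pos (R := F) (by rw [h3]; norm_num)
    obtain ⟨x, hx⟩ := exists_ne (0 : V)
    have h6 := congrArg (fun T : Module.End F V => T x) h5
    have h7 : x = d ^ s • x := h6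
    have h8 : (d ^ s - 1) • x = 0 := by rw [sub_smul, one_smul, ← h7, sub_self]
    exact sub_eq_zero.1 ((smul_eq_zero.1 h8).resolve_right hx)
  have hcop : Nat.Coprime 3 s := (Nat.coprime_primes Nat.prime_three hsp.out).2 (by omega)
  have hd1 : d = 1 := by
    have h4 : orderOf d ∣ Nat.gcd 3 s := Nat.dvd_gcd (orderOf_dvd_of_pow_eq_one hd3) (orderOf_dvd_of_pow_eq_one hds)
    rw [hcop.gcd_eq_one] at h4
    exact orderOf_eq_one_iff.1 (Nat.dvd_one.1 h4)
  rw [h2, hd1, one_smul]

include h3 hF3 hNN hZ in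
theorem noncomm_false {s : ℕ} [hsp : Fact s.Prime] (hs5 : 5 ≤ s) {u : H} (hu : u ^ s = 1) (hu1 : ρ u ≠ 1) {y : V}
    (hy : y ≠ 0) (huy : ρ u y = y) {n m : H} (hn : n ∈ N) (hm : m ∈ N) (hnm : ρ n * ρ m ≠ ρ m * ρ n) : False := by
  have hfd : FiniteDimensional F V := Module.finite_of_finrank_pos (by rw [h3]; norm_num)
  obtain ⟨c, hc, hc3⟩ := exists_c ρ h3 (hNN (commutator_mem_commutator hn hm))
  have hc1 : c ≠ 1 := by
    rintro rfl
    rw [one_smul] at hc
    exact hnm hc
  set W : Submodule F V := LinearMap.ker (ρ u - 1) with hW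
  have hmem : ∀ w, w ∈ W ↔ ρ u w = w := by
    intro w
    rw [hW, LinearMap.mem_ker, LinearMap.sub_apply, Module.End.one_apply, sub_eq_zero]
  have hinv : ∀ k ∈ N, ∀ w ∈ W, ρ k w ∈ W := by
    intro k hk w hw
    rw [hmem] at hw ⊢
    have h1 := congrArg (fun T : Module.End F V => T w) (comm_of_prime ρ h3 hF3 hNN hZ hs5 hu hk)
    have h2 : ρ u (ρ k w) = ρ k (ρ u w) := h1
    rw [h2, hw]
  have hW0 : W ≠ ⊥ := by
    intro h
    have h1 : y ∈ W := (hmem y).2 huy
    rw [h, Submodule.mem_bot] at h1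
    exact hy h1
  have hWt : W ≠ ⊤ := by
    intro h
    apply hu1
    ext w
    have h1 : w ∈ W := by rw [h]; exact Submodule.mem_top
    rw [Module.End.one_apply]
    exact (hmem w).1 h1
  have hd1 : finrank F W ≠ 0 := fun h => hW0 (Submodule.finrank_eq_zero.1 h)
  have hd3 : finrank F W < 3 := by rw [← h3]; exact Submodule.finrank_lt hWt
  -- the restrictions
  have hn' := hinv n hn
  have hm' := hinv m hm
  set fn : W →ₗ[F] W := (ρ n).restrict hn' with hfn
  set fm : W →ₗ[F] W := (ρ m).restrict hm' with hfm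
  have hdet : ∀ k (hk : k ∈ N), LinearMap.det ((ρ k).restrict (hinv k hk)) ≠ 0 := by
    intro k hk h0
    have h1 : (ρ k).restrict (hinv k hk) ∘ₗ (ρ k⁻¹).restrict (hinv k⁻¹ (inv_mem hk)) = LinearMap.id := by
      ext w
      exact congrArg (fun T : Module.End F V => T (w : V)) (unit_ρ ρ k).1
    have h2 := congrArg LinearMap.det h1
    rw [LinearMap.det_comp, h0, zero_mul, LinearMap.det_id] at h2
    exact zero_ne_one h2
  have h4 : fn ∘ₗ fm = c • (fm ∘ₗ fn) := by
    ext w
    exact congrArg (fun T : Module.End F V => T (w : V)) hc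
  have h5 := congrArg LinearMap.det h4
  rw [LinearMap.det_smul, LinearMap.det_comp, LinearMap.det_comp] at h5
  have h6 : LinearMap.det fn * LinearMap.det fm ≠ 0 := mul_ne_zero (hdet n hn) (hdet m hm)
  have h7 : c ^ finrank F W = 1 := by
    have h8 : (c ^ finrank F W - 1) * (LinearMap.det fn * LinearMap.det fm) = 0 := by linear_combination -h5
    exact sub_eq_zero.1 ((mul_eq_zero.1 h8).resolve_right h6)
  have h8 : finrank F W = 1 ∨ finrank F W = 2 := by omega
  rcases h8 with h8 | h8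
  · rw [h8, pow_one] at h7
    exact hc1 h7
  · rw [h8] at h7
    apply hc1
    calc c = c ^ 3 * (c ^ 2)⁻¹ := by
          have : c ≠ 0 := by rintro rfl; norm_num at hc3
          field_simp
      _ = 1 := by rw [hc3, h7]; norm_num

end NonComm

/-! ### The commutative case -/

theorem exists_eig_of_finrank_one {W : Submodule F V} (hW : finrank F W = 1) : ∃ w ∈ W, w ≠ 0 ∧
    ∀ T : Module.End F V, (∀ x ∈ W, T x ∈ W) → ∃ c : F, T w = c • w := by
  obtain ⟨w, hw0, hw⟩ := finrank_eq_one_iff'.1 hW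
  refine ⟨w, w.2, fun h => hw0 (Subtype.ext h), fun T hT => ?_⟩
  obtain ⟨c, hc⟩ := hw ⟨T w, hT w w.2⟩
  exact ⟨c, (congrArg Subtype.val hc).symm⟩

/-- no eigenvectors implies irreducible, in dimension three -/
theorem irr_of_no_eig (h3 : finrank F V = 3) {b : Module.End F V} (hb : ∀ w, w ≠ 0 → ∀ c : F, b w ≠ c • w) : Irr b := by
  have hfd : FiniteDimensional F V := Module.finite_of_finrank_pos (by rw [h3]; norm_num)
  intro W hW
  by_contra hcon
  push Not at hcon
  have h1 : finrank F W ≠ 0 := fun h => hcon.1 (Submodule.finrank_eq_zero.1 h)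
  have h2 : finrank F W < 3 := by rw [← h3]; exact Submodule.finrank_lt hcon.2
  have h4 : finrank F W = 1 ∨ finrank F W = 2 := by omega
  rcases h4 with h4 | h4
  · obtain ⟨w, -, hw0, hw⟩ := exists_eig_of_finrank_one h4
    obtain ⟨c, hc⟩ := hw b hW
    exact hb w hw0 c hc
  · have h5 : finrank F (V ⧸ W) = 1 := by
      have := W.finrank_quotient_add_finrank
      omega
    obtain ⟨z, hz0, hz⟩ := finrank_eq_one_iff'.1 h5
    obtain ⟨x, rfl⟩ := W.mkQ_surjective z
    obtain ⟨c, hc⟩ := hz (W.mkQ (b x))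
    have h6 : ∀ y, b y - c • y ∈ W := by
      intro y
      obtain ⟨d, hd⟩ := hz (W.mkQ y)
      have h7 : y - d • x ∈ W := by
        rw [← Submodule.Quotient.mk_eq_zero, Submodule.Quotient.mk_sub, Submodule.Quotient.mk_smul]
        exact sub_eq_zero.2 hd.symm
      have h8 : b x - c • x ∈ W := by
        rw [← Submodule.Quotient.mk_eq_zero, Submodule.Quotient.mk_sub, Submodule.Quotient.mk_smul]
        exact sub_eq_zero.2 hc.symm
      have h9 := hW _ h7
      rw [map_sub, map_smul] at h9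
      have h10 := W.sub_mem (W.add_mem h9 (W.smul_mem d h8)) (W.smul_mem c h7)
      have e : b y - d • b x + d • (b x - c • x) - c • (y - d • x) = b y - c • y := by
        rw [smul_sub, smul_sub, smul_comm c d]
        abel
      rwa [e] at h10
    have h7 : LinearMap.range (b - c • (1 : Module.End F V)) ≤ W := by
      rintro _ ⟨y, rfl⟩
      exact h6 y
    have h8 : LinearMap.ker (b - c • (1 : Module.End F V)) ≠ ⊥ := by
      intro h
      have h9 : LinearMap.range (b - c • (1 : Module.End F V)) = ⊤ :=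
        LinearMap.range_eq_top.2 (LinearMap.injective_iff_surjective.1 (LinearMap.ker_eq_bot.1 h))
      exact hcon.2 (top_le_iff.1 (h9 ▸ h7))
    obtain ⟨w, hw, hw0⟩ := Submodule.exists_mem_ne_zero_of_ne_bot h8
    refine hb w hw0 c ?_
    have : b w - c • w = 0 := LinearMap.mem_ker.1 hw
    exact sub_eq_zero.1 this

/-- a commutative normal subgroup with an eigenvector has a common eigenvector -/
theorem exists_common (h3 : finrank F V = 3) (S : Set (Module.End F V)) (hS : ∀ T ∈ S, ∀ U ∈ S, T * U = U * T)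
    {b : Module.End F V} (hb : b ∈ S) (hbs : ∀ c : F, b ≠ c • (1 : Module.End F V)) {w : V} (hw : w ≠ 0) {c : F}
    (hbw : b w = c • w) : ∃ w, w ≠ 0 ∧ ∀ T ∈ S, ∃ d : F, T w = d • w := by
  have hfd : FiniteDimensional F V := Module.finite_of_finrank_pos (by rw [h3]; norm_num)
  set E := LinearMap.ker (b - c • (1 : Module.End F V)) with hE
  set R := LinearMap.range (b - c • (1 : Module.End F V)) with hR
  have hcomm : ∀ T ∈ S, ∀ x, (b - c • (1 : Module.End F V)) (T x) = T ((b - c • (1 : Module.End F V)) x) := by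
    intro T hT x
    have h1 : b (T x) = T (b x) := congrArg (fun U : Module.End F V => U x) (hS b hb T hT)
    change b (T x) - c • (T x) = T (b x - c • x)
    rw [h1, map_sub, map_smul]
  have hEi : ∀ T ∈ S, ∀ x ∈ E, T x ∈ E := by
    intro T hT x hx
    rw [hE, LinearMap.mem_ker] at hx ⊢
    rw [hcomm T hT, hx, map_zero]
  have hRi : ∀ T ∈ S, ∀ x ∈ R, T x ∈ R := by
    rintro T hT _ ⟨x, rfl⟩
    exact ⟨T x, hcomm T hT x⟩
  have h1 : finrank F R + finrank F E = 3 := by rw [← h3]; exact LinearMap.finrank_range_add_finrank_ker _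
  have h2 : finrank F E ≠ 0 := by
    intro h
    have h4 : w ∈ E := by
      rw [hE, LinearMap.mem_ker]
      change b w - c • w = 0
      rw [hbw, sub_self]
    rw [Submodule.finrank_eq_zero.1 h, Submodule.mem_bot] at h4
    exact hw h4
  have h4 : finrank F R ≠ 0 := by
    intro h
    apply hbs c
    have h5 := Submodule.finrank_eq_zero.1 h
    rw [hR, LinearMap.range_eq_bot] at h5
    exact sub_eq_zero.1 h5
  have h5 : finrank F E = 1 ∨ finrank F R = 1 := by omega
  rcases h5 with h5 | h5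
  · obtain ⟨w, -, hw0, hw⟩ := exists_eig_of_finrank_one h5
    exact ⟨w, hw0, fun T hT => hw T (hEi T hT)⟩
  · obtain ⟨w, -, hw0, hw⟩ := exists_eig_of_finrank_one h5
    exact ⟨w, hw0, fun T hT => hw T (hRi T hT)⟩

/-- the quadratic argument -/
theorem no_eig_false (h3 : finrank F V = 3) {b T : Module.End F V} (hb : Irr b) (hT : T * T = 1)
    (hcomm : b * (T * b * T) = (T * b * T) * b) {v : V} (hv : v ≠ 0)
    (htv : ∀ e : Module.End F V, e * T = T * e → ∃ c : F, e v = c • v) : False := by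
  have hfd : FiniteDimensional F V := Module.finite_of_finrank_pos (by rw [h3]; norm_num)
  have key : ∀ e : Module.End F V, e * T = T * e → e * b = b * e → ∃ c : F, e = c • (1 : Module.End F V) := by
    intro e h1 h2
    obtain ⟨c, hc⟩ := htv e h1
    refine ⟨c, ?_⟩
    have h4 : ∀ x ∈ LinearMap.ker (e - c • (1 : Module.End F V)), b x ∈ LinearMap.ker (e - c • (1 : Module.End F V)) := by
      intro x hx
      rw [LinearMap.mem_ker] at hx ⊢
      have hx' : e x - c • x = 0 := hx
      change e (b x) - c • b x = 0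
      have h5 : e (b x) = b (e x) := congrArg (fun U : Module.End F V => U x) h2
      rw [h5, sub_eq_zero.1 hx', map_smul, sub_self]
    rcases hb _ h4 with h5 | h5
    · exfalso
      have h6 : v ∈ LinearMap.ker (e - c • (1 : Module.End F V)) := by
        rw [LinearMap.mem_ker]
        change e v - c • v = 0
        rw [hc, sub_self]
      rw [h5, Submodule.mem_bot] at h6
      exact hv h6
    · rw [LinearMap.ker_eq_top] at h5
      exact sub_eq_zero.1 h5
  set b' := T * b * T with hb'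
  have hTb : T * b' = b * T := by rw [hb', ← mul_assoc, ← mul_assoc, hT, one_mul]
  have hbT : b' * T = T * b := by rw [hb', mul_assoc, hT, mul_one]
  obtain ⟨s, hs⟩ := key (b + b') (by rw [add_mul, mul_add, hTb, hbT, add_comm]) (by
    rw [add_mul, mul_add, hcomm])
  obtain ⟨n, hn⟩ := key (b * b') (by
    rw [mul_assoc, hbT, ← mul_assoc, ← mul_assoc]
    have h1 : T * b * b' = T * (b' * b) := by rw [mul_assoc, hcomm]
    rw [h1, ← mul_assoc, hTb]) (by rw [mul_assoc, ← hcomm])
  have hq : ∀ x, b (b x) = s • b x - n • x := by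
    intro x
    have h1 : b (b x) + b (b' x) = s • b x := by
      have h2 := congrArg (fun U : Module.End F V => b (U x)) hs
      have h4 : b (b x + b' x) = b (s • x) := h2
      rwa [map_add, map_smul] at h4
    have h2 : b (b' x) = n • x := congrArg (fun U : Module.End F V => U x) hn
    rw [← h1, h2, add_sub_cancel_right]
  have hW : ∀ w ∈ Submodule.span F ({v, b v} : Set V), b w ∈ Submodule.span F ({v, b v} : Set V) := by
    intro w hw
    obtain ⟨x, y, rfl⟩ := Submodule.mem_span_pair.1 hw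
    rw [map_add, map_smul, map_smul, hq]
    have h1 : v ∈ Submodule.span F ({v, b v} : Set V) := Submodule.subset_span (by simp)
    have h2 : b v ∈ Submodule.span F ({v, b v} : Set V) := Submodule.subset_span (by simp)
    exact Submodule.add_mem _ (Submodule.smul_mem _ _ h2) (Submodule.smul_mem _ _
      (Submodule.sub_mem _ (Submodule.smul_mem _ _ h2) (Submodule.smul_mem _ _ h1)))
  rcases hb _ hW with h1 | h1
  · have h2 : v ∈ Submodule.span F ({v, b v} : Set V) := Submodule.subset_span (by simp)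
    rw [h1, Submodule.mem_bot] at h2
    exact hv h2
  · have h2 : finrank F (Submodule.span F ({v, b v} : Set V)) ≤ 2 := by
      classical
      have h4 : ({v, b v} : Set V) = (({v, b v} : Finset V) : Set V) := by simp
      rw [h4]
      exact (finrank_span_finset_le_card _).trans (Finset.card_le_two)
    rw [h1, finrank_top, h3] at h2
    omega

/-- permutations of three lines of order prime to six -/
theorem perm_three {π : Equiv.Perm (Fin 3)} {s : ℕ} [hsp : Fact s.Prime] (hs5 : 5 ≤ s) (h : π ^ s = 1) : π = 1 := by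
  have h6 : π ^ 6 = 1 := by
    have h7 : Fintype.card (Equiv.Perm (Fin 3)) = 6 := by simp [Fintype.card_perm, Nat.factorial]
    rw [← h7]
    exact pow_card_eq_one
  have hc : Nat.Coprime 6 s := by
    rw [Nat.coprime_comm, hsp.out.coprime_iff_not_dvd]
    intro hd
    have := Nat.le_of_dvd (by norm_num) hd
    interval_cases s
    · omega
    · exact absurd hsp.out (by decide)
  have h1 : orderOf π ∣ Nat.gcd 6 s := Nat.dvd_gcd (orderOf_dvd_of_pow_eq_one (h6)) (orderOf_dvd_of_pow_eq_one h)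
  rw [hc.gcd_eq_one] at h1
  exact orderOf_eq_one_iff.1 (Nat.dvd_one.1 h1)

/-- **The main lemma.** -/
theorem main [Finite H] (hsol : Group.IsSolvable H) (h3 : finrank F V = 3) (hF3 : (3 : F) ≠ 0)
    (ρ : H →* Module.End F V) {a t u : H} (ha : Irr (ρ a)) (ha3 : ∃ c : F, ρ a ^ 3 = c • (1 : Module.End F V))
    (ht : ρ t * ρ t = 1) {v : V} (hv : v ≠ 0)
    (htv : ∀ e : Module.End F V, e * ρ t = ρ t * e → ∃ c : F, e v = c • v) {s : ℕ} [hsp : Fact s.Prime] (hs5 : 5 ≤ s)
    (hu : u ^ s = 1) (hu1 : ρ u ≠ 1) {y : V} (hy : y ≠ 0) (huy : ρ u y = y) :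
    ∃ w, w ≠ 0 ∧ (∃ c : F, ρ u w = c • w) ∧ (∃ c : F, ρ u (ρ a w) = c • ρ a w) ∧
      (∃ c : F, ρ u (ρ a (ρ a w)) = c • ρ a (ρ a w)) ∧
      ∀ x, ∃ α β γ : F, x = α • w + β • ρ a w + γ • ρ a (ρ a w) := by
  classical
  have hfd : FiniteDimensional F V := Module.finite_of_finrank_pos (by rw [h3]; norm_num)
  have hS : scal ρ ≠ ⊤ := by
    intro h
    obtain ⟨c, hc⟩ : u ∈ scal ρ := by rw [h]; exact mem_top _
    apply hu1
    have h1 : (c - 1) • y = 0 := by
      have h2 : ρ u y = c • y := by rw [hc]; rfl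
      rw [sub_smul, one_smul, ← h2, huy, sub_self]
    rw [hc, sub_eq_zero.1 ((smul_eq_zero.1 h1).resolve_right hy), one_smul]
  obtain ⟨N, hN, hNs, hNN, hmin⟩ := exists_min hsol (scal ρ) hS
  -- the centre of `N` modulo the kernel
  let N0 : Subgroup H :=
    { carrier := {n | n ∈ N ∧ ∀ m ∈ N, ρ n * ρ m = ρ m * ρ n}
      one_mem' := ⟨one_mem _, fun m _ => by rw [map_one, one_mul, mul_one]⟩
      mul_mem' := by
        rintro x z ⟨hx, hx'⟩ ⟨hz, hz'⟩
        refine ⟨mul_mem hx hz, fun m hm => ?_⟩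
        rw [map_mul, mul_assoc, hz' m hm, ← mul_assoc, hx' m hm, mul_assoc]
      inv_mem' := by
        rintro x ⟨hx, hx'⟩
        refine ⟨inv_mem hx, fun m hm => ?_⟩
        calc ρ x⁻¹ * ρ m = ρ x⁻¹ * (ρ m * ρ x) * ρ x⁻¹ := by
              rw [mul_assoc, mul_assoc, (unit_ρ ρ x).1, mul_one]
          _ = ρ x⁻¹ * (ρ x * ρ m) * ρ x⁻¹ := by rw [hx' m hm]
          _ = ρ m * ρ x⁻¹ := by rw [← mul_assoc, (unit_ρ ρ x).2, one_mul] }
  have hN0 : N0.Normal := by
    refine ⟨fun n hn g => ⟨hN.conj_mem n hn.1 g, fun m hm => ?_⟩⟩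
    have h1 := hn.2 (g⁻¹ * m * g) (by
      have := hN.conj_mem m hm g⁻¹
      rwa [inv_inv] at this)
    rw [← map_mul, ← map_mul] at h1 ⊢
    have e1 : g * n * g⁻¹ * m = g * (n * (g⁻¹ * m * g)) * g⁻¹ := by group
    have e2 : m * (g * n * g⁻¹) = g * ((g⁻¹ * m * g) * n) * g⁻¹ := by group
    rw [e1, e2, map_mul, map_mul, h1, ← map_mul, ← map_mul]
  rcases hmin N0 hN0 (fun n hn => hn.1) with hc | hc
  swap
  · -- the non-commutative case
    exfalso
    have hZ : ∀ n ∈ N, (∀ m ∈ N, ρ n * ρ m = ρ m * ρ n) → n ∈ scal ρ := fun n hn h => hc ⟨hn, h⟩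
    have hex : ∃ n ∈ N, ∃ m ∈ N, ρ n * ρ m ≠ ρ m * ρ n := by
      by_contra hcon
      push Not at hcon
      exact hNs fun n hn => hZ n hn (hcon n hn)
    obtain ⟨n, hn, m, hm, hnm⟩ := hex
    exact noncomm_false ρ h3 hF3 hNN hZ hs5 hu hu1 hy huy hn hm hnm
  -- the commutative case
  have hcomm : ∀ n ∈ N, ∀ m ∈ N, ρ n * ρ m = ρ m * ρ n := by
    intro n hn
    have h1 : n ∈ N0 := by rw [hc]; exact hn
    exact h1.2
  obtain ⟨n0, hn0, hn0s⟩ := SetLike.not_le_iff_exists.1 hNs
  by_cases hE : ∃ n ∈ N, n ∉ scal ρ ∧ ∃ w, w ≠ 0 ∧ ∃ c : F, ρ n w = c • w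
  swap
  · exfalso
    push Not at hE
    have hirr : Irr (ρ n0) := irr_of_no_eig h3 fun w hw c => hE n0 hn0 hn0s w hw c
    have hti : ρ t⁻¹ = ρ t := by
      calc ρ t⁻¹ = ρ t⁻¹ * (ρ t * ρ t) := by rw [ht, mul_one]
        _ = ρ t := by rw [← mul_assoc, (unit_ρ ρ t).2, one_mul]
    have h1 : ρ t * ρ n0 * ρ t = ρ (t * n0 * t⁻¹) := by rw [map_mul, map_mul, hti]
    exact no_eig_false h3 hirr ht (by rw [h1]; exact hcomm n0 hn0 _ (hN.conj_mem n0 hn0 t)) hv htv
  obtain ⟨n1, hn1, hn1s, w', hw', c', hc'⟩ := hE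
  obtain ⟨w, hw0, hw⟩ := exists_common h3 {T | ∃ n ∈ N, ρ n = T} (by
    rintro _ ⟨n, hn, rfl⟩ _ ⟨m, hm, rfl⟩
    exact hcomm n hn m hm) ⟨n1, hn1, rfl⟩ (fun c h => hn1s ⟨c, h⟩) hw' hc'
  have hwN : ∀ n ∈ N, ∃ d : F, ρ n w = d • w := fun n hn => hw _ ⟨n, hn, rfl⟩
  obtain ⟨c3, hc3⟩ := ha3
  have hc30 : c3 ≠ 0 := by
    rintro rfl
    have h1 := congrArg LinearMap.det hc3
    rw [LinearMap.det_smul, h3, map_pow] at h1
    norm_num at h1
    exact det_ne ρ a h1
  have ha3w : ∀ x, ρ a (ρ a (ρ a x)) = c3 • x := by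
    intro x
    exact congrArg (fun T : Module.End F V => T x) hc3
  -- spanning
  have hspan : ∀ x, ∃ α β γ : F, x = α • w + β • ρ a w + γ • ρ a (ρ a w) := by
    let W : Submodule F V :=
      { carrier := {x | ∃ α β γ : F, x = α • w + β • ρ a w + γ • ρ a (ρ a w)}
        zero_mem' := ⟨0, 0, 0, by simp⟩
        add_mem' := by
          rintro _ _ ⟨α, β, γ, rfl⟩ ⟨α', β', γ', rfl⟩
          exact ⟨α + α', β + β', γ + γ', by module⟩
        smul_mem' := by
          rintro c _ ⟨α, β, γ, rfl⟩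
          exact ⟨c * α, c * β, c * γ, by module⟩ }
    have hWi : ∀ x ∈ W, ρ a x ∈ W := by
      rintro _ ⟨α, β, γ, rfl⟩
      refine ⟨γ * c3, α, β, ?_⟩
      rw [map_add, map_add, map_smul, map_smul, map_smul, ha3w]
      module
    rcases ha W hWi with h | h
    · exfalso
      have h1 : w ∈ W := ⟨1, 0, 0, by simp⟩
      rw [h, Submodule.mem_bot] at h1
      exact hw0 h1
    · intro x
      have h1 : x ∈ W := by rw [h]; exact Submodule.mem_top
      exact h1
  -- the three vectors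
  let ww : Fin 3 → V := ![w, ρ a w, ρ a (ρ a w)]
  have hww0 : ∀ i, ww i ≠ 0 := by
    intro i
    fin_cases i
    · exact hw0
    · exact ρ_ne_zero ρ a hw0
    · exact ρ_ne_zero ρ a (ρ_ne_zero ρ a hw0)
  have hli : LinearIndependent F ww := by
    refine linearIndependent_of_top_le_span_of_card_eq_finrank ?_ (by rw [h3]; rfl)
    intro x _
    obtain ⟨α, β, γ, rfl⟩ := hspan x
    have h0 : ∀ i, ww i ∈ Submodule.span F (Set.range ww) := fun i => Submodule.subset_span ⟨i, rfl⟩
    exact Submodule.add_mem _ (Submodule.add_mem _ (Submodule.smul_mem _ _ (h0 0)) (Submodule.smul_mem _ _ (h0 1)))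
      (Submodule.smul_mem _ _ (h0 2))
  have hstep : ∀ n ∈ N, ∀ x, ρ n (ρ a x) = ρ a (ρ (a⁻¹ * n * a) x) := by
    intro n _ x
    have e : n * a = a * (a⁻¹ * n * a) := by group
    have h1 : ρ n * ρ a = ρ a * ρ (a⁻¹ * n * a) := by rw [← map_mul, e, map_mul]
    exact congrArg (fun T : Module.End F V => T x) h1
  have hconj : ∀ n ∈ N, a⁻¹ * n * a ∈ N := by
    intro n hn
    have := hN.conj_mem n hn a⁻¹
    rwa [inv_inv] at this
  have hchar : ∀ n ∈ N, ∀ i, ∃ d : F, ρ n (ww i) = d • ww i := by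
    intro n hn i
    fin_cases i
    · exact hwN n hn
    · obtain ⟨d, hd⟩ := hwN _ (hconj n hn)
      exact ⟨d, by change ρ n (ρ a w) = d • ρ a w; rw [hstep n hn, hd, map_smul]⟩
    · obtain ⟨d, hd⟩ := hwN _ (hconj _ (hconj n hn))
      exact ⟨d, by
        change ρ n (ρ a (ρ a w)) = d • ρ a (ρ a w)
        rw [hstep n hn, hstep _ (hconj n hn), hd, map_smul, map_smul]⟩
  choose! χ hχ using hchar
  -- shifting
  have hinj : ∀ (c d : F) (i : Fin 3), c • ww i = d • ww i → c = d := by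
    intro c d i h
    have : (c - d) • ww i = 0 := by rw [sub_smul, h, sub_self]
    exact sub_eq_zero.1 ((smul_eq_zero.1 this).resolve_right (hww0 i))
  have hs01 : ∀ n ∈ N, χ n 1 = χ (a⁻¹ * n * a) 0 := by
    intro n hn
    apply hinj _ _ 1
    rw [← hχ n hn 1]
    change ρ n (ρ a w) = _ • ρ a w
    rw [hstep n hn]
    have := hχ _ (hconj n hn) 0
    change ρ _ w = _ • w at this
    rw [this, map_smul]
  have hs12 : ∀ n ∈ N, χ n 2 = χ (a⁻¹ * n * a) 1 := by
    intro n hn
    apply hinj _ _ 2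
    rw [← hχ n hn 2]
    change ρ n (ρ a (ρ a w)) = _ • ρ a (ρ a w)
    rw [hstep n hn]
    have := hχ _ (hconj n hn) 1
    change ρ _ (ρ a w) = _ • ρ a w at this
    rw [this, map_smul]
  have hs20 : ∀ n ∈ N, χ n 0 = χ (a⁻¹ * n * a) 2 := by
    intro n hn
    apply hinj _ _ 0
    rw [← hχ n hn 0]
    change ρ n w = _ • w
    have h1 : ρ n (ρ a (ρ a (ρ a w))) = χ (a⁻¹ * n * a) 2 • ρ a (ρ a (ρ a w)) := by
      rw [hstep n hn]
      have := hχ _ (hconj n hn) 2
      change ρ _ (ρ a (ρ a w)) = _ • ρ a (ρ a w) at this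
      rw [this, map_smul]
    rw [ha3w, map_smul, smul_comm] at h1
    have h2 := congrArg (fun z => c3⁻¹ • z) h1
    simp only [smul_smul, inv_mul_cancel₀ hc30, one_smul] at h2
    rw [h2, ← mul_assoc, inv_mul_cancel₀ hc30, one_mul]
  -- not all characters are equal
  have hne : ¬ ∀ n ∈ N, χ n 0 = χ n 1 ∧ χ n 0 = χ n 2 := by
    intro h
    apply hNs
    intro n hn
    refine ⟨χ n 0, ?_⟩
    apply LinearMap.ext
    intro x
    obtain ⟨α, β, γ, rfl⟩ := hspan x
    have h0 := hχ n hn 0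
    have h1 := hχ n hn 1
    have h2 := hχ n hn 2
    rw [← (h n hn).1] at h1
    rw [← (h n hn).2] at h2
    change ρ n w = _ • w at h0
    change ρ n (ρ a w) = _ • ρ a w at h1
    change ρ n (ρ a (ρ a w)) = _ • ρ a (ρ a w) at h2
    rw [map_add, map_add, map_smul, map_smul, map_smul, h0, h1, h2, LinearMap.smul_apply, Module.End.one_apply]
    module
  have hback : ∀ n ∈ N, ∃ m ∈ N, a⁻¹ * m * a = n := fun n hn => ⟨a * n * a⁻¹, hN.conj_mem n hn a, by group⟩
  have h01 : ∃ n ∈ N, χ n 0 ≠ χ n 1 := by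
    by_contra hcon
    push Not at hcon
    exact hne fun n hn => ⟨hcon n hn, by
      rw [hs12 n hn, ← hcon _ (hconj n hn), ← hs01 n hn, hcon n hn]⟩
  have h12 : ∃ n ∈ N, χ n 1 ≠ χ n 2 := by
    by_contra hcon
    push Not at hcon
    exact hne fun n hn => by
      have h1 : χ n 0 = χ n 2 := by rw [hs20 n hn, ← hcon _ (hconj n hn), ← hs12 n hn]
      exact ⟨by rw [h1, hcon n hn], h1⟩
  have h02 : ∃ n ∈ N, χ n 0 ≠ χ n 2 := by
    by_contra hcon
    push Not at hcon
    exact hne fun n hn => by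
      have h1 : χ n 0 = χ n 1 := by rw [hs20 n hn, ← hcon _ (hconj n hn), ← hs01 n hn]
      exact ⟨h1, hcon n hn⟩
  have hdist : ∀ i j, i ≠ j → ∃ n ∈ N, χ n i ≠ χ n j := by
    intro i j hij
    fin_cases i <;> fin_cases j <;> first | exact absurd rfl hij | exact h01 | exact h12 | exact h02 | skip
    · obtain ⟨n, hn, h⟩ := h01; exact ⟨n, hn, h.symm⟩
    · obtain ⟨n, hn, h⟩ := h02; exact ⟨n, hn, h.symm⟩
    · obtain ⟨n, hn, h⟩ := h12; exact ⟨n, hn, h.symm⟩
  -- common eigenvectors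
  have hline : ∀ x, x ≠ 0 → (∀ n ∈ N, ∃ d : F, ρ n x = d • x) → ∃ i, ∃ c : F, c ≠ 0 ∧ x = c • ww i := by
    intro x hx0 hx
    obtain ⟨α, β, γ, hxe⟩ := hspan x
    let cf : Fin 3 → F := ![α, β, γ]
    have hxs : x = ∑ i, cf i • ww i := by
      rw [hxe, Fin.sum_univ_three]; rfl
    have hone : ∀ i j, i ≠ j → cf i ≠ 0 → cf j = 0 := by
      intro i j hij hi
      by_contra hj
      obtain ⟨n, hn, hneq⟩ := hdist i j hij
      obtain ⟨d, hd⟩ := hx n hn
      have h1 : ∑ k, (cf k * (χ n k - d)) • ww k = 0 := by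
        have h2 : ρ n x = ∑ k, (cf k * χ n k) • ww k := by
          rw [hxs, map_sum]
          exact Finset.sum_congr rfl fun k _ => by rw [map_smul, hχ n hn k, smul_smul]
        have h4 : d • x = ∑ k, (cf k * d) • ww k := by
          rw [hxs, Finset.smul_sum]
          exact Finset.sum_congr rfl fun k _ => by rw [smul_smul, mul_comm]
        have h5 : ∑ k, (cf k * (χ n k - d)) • ww k = ρ n x - d • x := by
          rw [h2, h4, ← Finset.sum_sub_distrib]
          exact Finset.sum_congr rfl fun k _ => by rw [mul_sub, sub_smul]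
        rw [h5, hd, sub_self]
      have h2 := Fintype.linearIndependent_iff.1 hli _ h1
      have h4 := (mul_eq_zero.1 (h2 i)).resolve_left hi
      have h5 := (mul_eq_zero.1 (h2 j)).resolve_left hj
      apply hneq
      rw [sub_eq_zero.1 h4, sub_eq_zero.1 h5]
    have hex : ∃ i, cf i ≠ 0 := by
      by_contra hcon
      push Not at hcon
      apply hx0
      rw [hxs]
      exact Finset.sum_eq_zero fun k _ => by rw [hcon k, zero_smul]
    obtain ⟨i, hi⟩ := hex
    refine ⟨i, cf i, hi, ?_⟩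
    rw [hxs]
    exact Finset.sum_eq_single i (fun j _ hj => by rw [hone i j (Ne.symm hj) hi, zero_smul])
      (fun h => absurd (Finset.mem_univ _) h)
  -- `u` permutes the lines
  have huline : ∀ i, ∃ j, ∃ c : F, c ≠ 0 ∧ ρ u (ww i) = c • ww j := by
    intro i
    refine hline _ (ρ_ne_zero ρ u (hww0 i)) fun n hn => ?_
    have h1 := hχ (u⁻¹ * n * u) (by
      have := hN.conj_mem n hn u⁻¹
      rwa [inv_inv] at this) i
    refine ⟨χ (u⁻¹ * n * u) i, ?_⟩
    · have e : n * u = u * (u⁻¹ * n * u) := by group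
      have h2 : ρ n * ρ u = ρ u * ρ (u⁻¹ * n * u) := by rw [← map_mul, e, map_mul]
      have h4 : ρ n (ρ u (ww i)) = ρ u (ρ (u⁻¹ * n * u) (ww i)) := congrArg (fun T : Module.End F V => T (ww i)) h2
      rw [h4, h1, map_smul]
  choose p k hk0 hk using huline
  have hww_inj : ∀ i j, ∀ c : F, c ≠ 0 → ww i = c • ww j → i = j := by
    intro i j c hc h
    by_contra hij
    have h1 : ∑ k, (Pi.single i (1 : F) - c • Pi.single j (1 : F) : Fin 3 → F) k • ww k = 0 := by
      simp only [Pi.sub_apply, Pi.smul_apply, sub_smul, Finset.sum_sub_distrib, smul_eq_mul]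
      rw [Finset.sum_eq_single i (fun b _ hb => by rw [Pi.single_eq_of_ne hb, zero_smul])
        (fun h => absurd (Finset.mem_univ _) h),
        Finset.sum_eq_single j (fun b _ hb => by rw [Pi.single_eq_of_ne hb, mul_zero, zero_smul])
        (fun h => absurd (Finset.mem_univ _) h), Pi.single_eq_same, Pi.single_eq_same, one_smul, mul_one, h, sub_self]
    have h2 := Fintype.linearIndependent_iff.1 hli _ h1 i
    rw [Pi.sub_apply, Pi.smul_apply, Pi.single_eq_same, Pi.single_eq_of_ne hij, smul_zero, sub_zero] at h2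
    exact one_ne_zero h2
  have hiter : ∀ m : ℕ, ∀ i, ∃ c : F, c ≠ 0 ∧ ρ (u ^ m) (ww i) = c • ww (p^[m] i) := by
    intro m
    induction m with
    | zero => intro i; exact ⟨1, one_ne_zero, by rw [pow_zero, map_one, one_smul]; rfl⟩
    | succ m ih =>
      intro i
      obtain ⟨c, hc0, hc⟩ := ih i
      refine ⟨c * k (p^[m] i), mul_ne_zero hc0 (hk0 _), ?_⟩
      rw [pow_succ', map_mul, Function.iterate_succ_apply']
      change ρ u (ρ (u ^ m) (ww i)) = _
      rw [hc, map_smul, hk, smul_smul]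
  have hps : ∀ i, p^[s] i = i := by
    intro i
    obtain ⟨c, hc0, hc⟩ := hiter s i
    rw [hu, map_one] at hc
    exact (hww_inj i _ c hc0 hc).symm
  have hpinj : Function.Injective p := by
    intro i j hij
    have h1 := hps i
    have h2 := hps j
    obtain ⟨s', hs'⟩ : ∃ s', s = s' + 1 := ⟨s - 1, by omega⟩
    rw [hs', Function.iterate_succ_apply] at h1 h2
    rw [← h1, ← h2, hij]
  let π : Equiv.Perm (Fin 3) := Equiv.ofBijective p (Finite.injective_iff_bijective.1 hpinj)
  have hπ : π ^ s = 1 := by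
    apply Equiv.ext
    intro i
    have h1 : ∀ m : ℕ, ∀ i, (π ^ m) i = p^[m] i := by
      intro m
      induction m with
      | zero => intro i; rfl
      | succ m ih =>
        intro i
        rw [pow_succ', Function.iterate_succ_apply']
        change π ((π ^ m) i) = _
        rw [ih]; rfl
    rw [h1, hps]; rfl
  have hπ1 := perm_three hs5 hπ
  have hp : ∀ i, p i = i := by
    intro i
    have : π i = i := by rw [hπ1]; rfl
    exact this
  refine ⟨w, hw0, ⟨k 0, ?_⟩, ⟨k 1, ?_⟩, ⟨k 2, ?_⟩, hspan⟩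
  · have := hk 0; rw [hp] at this; exact this
  · have := hk 1; rw [hp] at this; exact this
  · have := hk 2; rw [hp] at this; exact this

end Cfsg.Agent.H223.Solv3
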