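import Cfsg.Agent.H724.UThree
import Cfsg.Agent.H959.Rad3.Iface
import Cfsg.Agent.H223.Solv3

/-!
# `PSU_3(q)`, automorphisms of order three: irreducible elements (for S3854, S3832, S4336; task 1200)

`A ∈ GU_3(q)`, `A ^ 3 = c` not a cube: `Inv (f₁ A)` is contradictory (`Solv3.main` applied to `⟨A, t⟩`,
`t` a reflection or a transvection).
-/

set_option autoImplicit false
set_option linter.unusedSectionVars false
set_option linter.unusedFintypeInType false
set_option linter.unusedDecidableInType false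

namespace Cfsg.Agent.H223.R3

open Subgroup Cfsg Cfsg.Agent.H459.Rad Cfsg.Agent.H459.Iface Matrix Cfsg.Agent.H724.UThree Cfsg.Agent.H959.Rad3
open Cfsg.Agent.LieClassical.HermSiegel Cfsg.Agent.LieClassical.HermBasic
open Cfsg.Agent.ClassicalGeometry.PSUAutCount (gm toAut gm_mul gm_one gm_inv_mul gm_mul_inv gm_inv_mulVec
  gm_mulVec_inv gm_inj herm_gm sc gm_sc_mul toAut_sc_mul eq_of_toAut_eq)
open Cfsg.Agent.ClassicalGeometry.UnitAutBasic (pr pr_surjective exists_ne_zero_orth)
open Cfsg.Agent.Schreier.PSU (f₁)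

variable {F : Type*} [Field F] [Fintype F] {q : ℕ}

local notation "hh" => hermForm 3 F q

/-! ### geometry -/

/-- perpendicular isotropic vectors are proportional -/
theorem iso_prop (hF : Fintype.card F = q ^ 2) {u w : Fin 3 → F} (hu0 : u ≠ 0) (hu : hh u u = 0) (hw : hh w w = 0)
    (huw : hh u w = 0) : ∃ c : F, w = c • u := by
  by_contra hcon
  push Not at hcon
  obtain ⟨t, ht⟩ := exists_herm_ne_zero hF hu0
  have htu : hh t u ≠ 0 := fun h => ht (herm_eq_zero_swap hF h)
  have hwu : hh w u = 0 := herm_eq_zero_swap hF huw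
  have hind : ∀ x y z : F, x • u + y • w + z • t = 0 → x = 0 ∧ y = 0 ∧ z = 0 := by
    intro x y z h
    have h1 : hh (x • u + y • w + z • t) u = 0 := by rw [h, herm_zero_left]
    rw [herm_add_left, herm_add_left, herm_smul_left, herm_smul_left, herm_smul_left, hu, hwu] at h1
    have hz : z = 0 := by
      have h2 : z * hh t u = 0 := by linear_combination h1
      exact (mul_eq_zero.1 h2).resolve_right htu
    rw [hz, zero_smul, add_zero] at h
    have hy : y = 0 := by
      by_contra hy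
      apply hcon (-(y⁻¹ * x))
      have h2 : y⁻¹ • (x • u + y • w) = 0 := by rw [h, smul_zero]
      rw [smul_add, smul_smul, smul_smul, inv_mul_cancel₀ hy, one_smul] at h2
      rw [neg_smul]
      exact eq_neg_of_add_eq_zero_right h2
    rw [hy, zero_smul, add_zero] at h
    exact ⟨(smul_eq_zero.1 h).resolve_right hu0, hy, hz⟩
  obtain ⟨w', hw'⟩ : ∃ w', w' = w - (hh w t / hh u t) • u := ⟨_, rfl⟩
  have hw0 : w' = 0 := by
    apply herm_nondeg hF
    intro x
    obtain ⟨α, β, γ, rfl⟩ := coords hind x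
    have e1 : hh w' u = 0 := by rw [hw', herm_sub_left, herm_smul_left, hwu, hu, mul_zero, sub_zero]
    have e2 : hh w' w = 0 := by rw [hw', herm_sub_left, herm_smul_left, huw, hw, mul_zero, sub_zero]
    have e3 : hh w' t = 0 := by
      rw [hw', herm_sub_left, herm_smul_left, div_mul_cancel₀ _ ht, sub_self]
    rw [herm_add_right hF, herm_add_right hF, herm_smul_right, herm_smul_right, herm_smul_right, e1, e2, e3]
    ring
  exact hcon _ (sub_eq_zero.1 (hw' ▸ hw0))

theorem exists_iso (hF : Fintype.card F = q ^ 2) : ∃ u : Fin 3 → F, u ≠ 0 ∧ hh u u = 0 := by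
  obtain ⟨c, hc⟩ := exists_norm_eq hF (c := (-1 : F)) (by rw [neg_pow_q hF, one_pow])
  refine ⟨![1, c, 0], fun h => one_ne_zero (congrFun h 0), ?_⟩
  rw [herm_def, Fin.sum_univ_three]
  simp only [Matrix.cons_val_zero, Matrix.cons_val_one, Matrix.cons_val, one_pow, mul_one, zero_mul, add_zero]
  rw [hc]
  ring

omit [Fintype F] in
theorem herm_conj (A : GU 3 F q) (x v : Fin 3 → F) :
    hh (gm A⁻¹ *ᵥ x) v = hh x (gm A *ᵥ v) := by
  rw [← herm_gm A (gm A⁻¹ *ᵥ x) v, gm_mulVec_inv]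

/-! ### the group -/

/-- the natural representation -/
noncomputable def nat (F : Type*) [Field F] (q : ℕ) : GU 3 F q →* Module.End F (Fin 3 → F) where
  toFun A := Matrix.mulVecLin (gm A)
  map_one' := by rw [gm_one, Matrix.mulVecLin_one]; rfl
  map_mul' A B := by rw [gm_mul, Matrix.mulVecLin_mul]; rfl

omit [Fintype F] in
theorem nat_apply (A : GU 3 F q) (x : Fin 3 → F) : nat F q A x = gm A *ᵥ x := rfl

theorem isSolvable_comap (hF : Fintype.card F = q ^ 2) (C : Subgroup (MulAut (PSU 3 F q))) (hC : Group.IsSolvable C) :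
    Group.IsSolvable (C.comap (f₁ : GU 3 F q →* MulAut (PSU 3 F q))) := by
  set D := C.comap (f₁ : GU 3 F q →* MulAut (PSU 3 F q)) with hD
  let φ : D →* C := (f₁ : GU 3 F q →* MulAut (PSU 3 F q)).subgroupComap C
  have hker : φ.ker ≤ (center D).subtype.range := by
    intro z hz
    have h1 : f₁ (z : GU 3 F q) = 1 := congrArg Subtype.val hz
    have h2 : toAut (1 : GU 3 F q) 1 = toAut (z : GU 3 F q) 1 := by
      change f₁ (1 : GU 3 F q) = f₁ (z : GU 3 F q)
      rw [h1, map_one]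
    obtain ⟨-, c, hc, hc'⟩ := eq_of_toAut_eq hF le_rfl h2
    rw [Subgroup.range_subtype, mem_center_iff]
    intro g
    apply Subtype.ext
    apply gm_inj
    rw [Subgroup.coe_mul, Subgroup.coe_mul, gm_mul, gm_mul]
    rw [gm_one] at hc'
    have h3 : gm (z : GU 3 F q) = c • (1 : Matrix (Fin 3) (Fin 3) F) := by
      first | exact hc' | (rw [hc', smul_smul]; simp)
    rw [h3, Matrix.mul_smul, Matrix.smul_mul, mul_one, one_mul]
  have h4 : Group.IsSolvable (center D) := Group.isSolvable_of_comm fun a b => Subtype.ext (mem_center_iff.1 b.2 a.1)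
  exact Group.isSolvable_of_ker_le_range _ _ hker

/-- **The wrapper of `Solv3.main`.** -/
theorem wrap (hF : Fintype.card F = q ^ 2) (hF3 : (3 : F) ≠ 0) {A : GU 3 F q} {c : F} (hA : gm A ^ 3 = c • 1)
    (hc : ∀ d : F, d ^ 3 ≠ c) (hI : Inv (f₁ A)) {g : SU 3 F q} (hg : g * g = 1) {v : Fin 3 → F} (hv : v ≠ 0)
    (hgv : ∀ e : Module.End F (Fin 3 → F), (∀ x, e (act g x) = act g (e x)) → ∃ c : F, e v = c • v)
    {s : ℕ} [hsp : Fact s.Prime] (hs5 : 5 ≤ s) {u : GU 3 F q} (hue : u = toGU g * (A * toGU g * A⁻¹))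
    (hu : u ^ s = 1) (hu1 : u ≠ 1) {y : Fin 3 → F} (hy : y ≠ 0) (huy : gm u *ᵥ y = y) :
    ∃ w : Fin 3 → F, w ≠ 0 ∧ (∃ c : F, gm u *ᵥ w = c • w) ∧ (∃ c : F, gm u *ᵥ (gm A *ᵥ w) = c • (gm A *ᵥ w)) ∧
      (∃ c : F, gm u *ᵥ (gm A *ᵥ (gm A *ᵥ w)) = c • (gm A *ᵥ (gm A *ᵥ w))) ∧
      ∀ x, ∃ α β γ : F, x = α • w + β • (gm A *ᵥ w) + γ • (gm A *ᵥ (gm A *ᵥ w)) := by
  set C := closure ({f₁ A, MulAut.conj (pr 3 F q g)} : Set (MulAut (PSU 3 F q))) with hC
  have hCs : Group.IsSolvable C := hI _ (by rw [← map_mul, hg, map_one])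
  set D := C.comap (f₁ : GU 3 F q →* MulAut (PSU 3 F q)) with hD
  have hDs : Group.IsSolvable D := isSolvable_comap hF C hCs
  have hAD : A ∈ D := subset_closure (Or.inl rfl)
  have hgD : toGU g ∈ D := by
    rw [hD, mem_comap, f₁_toGU]
    exact subset_closure (Or.inr rfl)
  have huD : u ∈ D := by rw [hue]; exact mul_mem hgD (mul_mem (mul_mem hAD hgD) (inv_mem hAD))
  have := LieClassical.GUOrder.finite_GU (F := F) (q := q) 3
  let ρ : D →* Module.End F (Fin 3 → F) := (nat F q).comp D.subtype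
  have hρ : ∀ (B : GU 3 F q) (hB : B ∈ D) (x : Fin 3 → F), ρ ⟨B, hB⟩ x = gm B *ᵥ x := fun _ _ _ => rfl
  have hA3 : ∀ x : Fin 3 → F, gm A *ᵥ (gm A *ᵥ (gm A *ᵥ x)) = c • x := by
    intro x
    have : gm A *ᵥ (gm A *ᵥ (gm A *ᵥ x)) = (gm A ^ 3) *ᵥ x := by
      rw [mulVec_mulVec, mulVec_mulVec, pow_succ, pow_two]
    rw [this, hA, smul_mulVec, one_mulVec]
  have hirr : Solv3.Irr (ρ ⟨A, hAD⟩) := by
    apply Solv3.irr_of_no_eig (by simp)
    intro w hw d hd
    rw [hρ] at hd
    apply hc d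
    have h1 := hA3 w
    simp only [hd, mulVec_smul, smul_smul] at h1
    have h2 : (d ^ 3 - c) • w = 0 := by rw [sub_smul, ← h1]; rw [sub_eq_zero]; congr 1; ring
    exact sub_eq_zero.1 ((smul_eq_zero.1 h2).resolve_right hw)
  obtain ⟨w, hw0, h1, h2, h3, h4⟩ := Solv3.main (H := D) hDs (by simp) hF3 ρ (a := ⟨A, hAD⟩) (t := ⟨toGU g, hgD⟩)
    (u := ⟨u, huD⟩) hirr ⟨c, by
      apply LinearMap.ext
      intro x
      rw [pow_succ, pow_two]
      exact hA3 x⟩ (by
      rw [← map_mul]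
      have : (⟨toGU g, hgD⟩ : D) * ⟨toGU g, hgD⟩ = 1 := by
        apply Subtype.ext
        change toGU g * toGU g = 1
        have := toGU_pow g 2
        rw [pow_two, pow_two, hg] at this
        rw [← this]
        exact gm_inj rfl
      rw [this, map_one]) hv (by
      intro e he
      exact hgv e fun x => congrArg (fun T : Module.End F (Fin 3 → F) => T x) he) hs5 (Subtype.ext hu) (by
      intro h
      apply hu1
      apply gm_inj
      apply Matrix.ext_of_mulVec_single
      intro i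
      have := congrArg (fun T : Module.End F (Fin 3 → F) => T (Pi.single i 1)) h
      rw [gm_one, one_mulVec]
      exact this) hy huy
  exact ⟨w, hw0, h1, h2, h3, h4⟩

end Cfsg.Agent.H223.R3
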