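import Cfsg.Agent.H223.R3B

/-!
# `PSU_3(q)`, automorphisms of order three: irreducible elements, characteristic two (task 1200)
-/

set_option autoImplicit false
set_option linter.unusedSectionVars false
set_option linter.unusedFintypeInType false
set_option linter.unusedDecidableInType false

namespace Cfsg.Agent.H223.R3

open Subgroup Cfsg Cfsg.Agent.H459.Rad Cfsg.Agent.H459.Iface Matrix Cfsg.Agent.H724.UThree Cfsg.Agent.H959.Rad3
open Cfsg.Agent.LieClassical.HermSiegel Cfsg.Agent.LieClassical.HermBasic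
open Cfsg.Agent.ClassicalGeometry.PSUAutCount (gm toAut gm_mul gm_one gm_inv_mul gm_mul_inv gm_inv_mulVec
  gm_mulVec_inv gm_inj herm_gm sc gm_sc_mul toAut_sc_mul eq_of_toAut_eq guConjFun act_guConjFun)
open Cfsg.Agent.ClassicalGeometry.UnitAutBasic (pr pr_surjective exists_ne_zero_orth)
open Cfsg.Agent.Schreier.PSU (f₁)

variable {F : Type*} [Field F] [Fintype F] {q : ℕ}

local notation "hh" => hermForm 3 F q

/-- an element of prime order in the fixed field -/
theorem exists_zeta (hF : Fintype.card F = q ^ 2) {s : ℕ} [hs : Fact s.Prime] (hsq : s ∣ q - 1) :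
    ∃ z : F, z ^ s = 1 ∧ z ≠ 1 ∧ z ^ q = z := by
  classical
  have h1 : s ∣ Fintype.card Fˣ := by
    rw [← Nat.card_eq_fintype_card, card_units_eq hF]
    exact Dvd.dvd.mul_left hsq _
  obtain ⟨z, hz⟩ := exists_prime_orderOf_dvd_card s h1
  have hzs : z ^ s = 1 := by rw [← hz]; exact pow_orderOf_eq_one z
  have hz1 : z ≠ 1 := by
    rintro rfl
    rw [orderOf_one] at hz
    exact hs.out.one_lt.ne hz
  refine ⟨z, ?_, ?_, ?_⟩
  · rw [← Units.val_pow_eq_pow_val, hzs, Units.val_one]
  · intro h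
    exact hz1 (Units.ext h)
  · obtain ⟨k, hk⟩ := hsq
    have hq := q_pos hF
    have h2 : q = s * k + 1 := by omega
    rw [← Units.val_pow_eq_pow_val, h2, pow_succ, pow_mul, hzs, one_pow, one_mul]

/-- **Irreducible elements, characteristic two.** -/
theorem lam_two (hF : Fintype.card F = q ^ 2) (h2 : (2 : F) = 0) {s : ℕ} [hs : Fact s.Prime] (hs5 : 5 ≤ s)
    (hsq : s ∣ q - 1) {A : GU 3 F q} {c : F} (hA : gm A ^ 3 = c • 1) (hc : ∀ d : F, d ^ 3 ≠ c) (hI : Inv (f₁ A)) :
    False := by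
  have h30 : (3 : F) ≠ 0 := by
    intro h
    have : (1 : F) = 0 := by linear_combination h - h2
    exact one_ne_zero this
  have hne : ∀ {x : Fin 3 → F}, x ≠ 0 → ∀ d : F, gm A *ᵥ x ≠ d • x := fun hx d => noeig hA hc hx d
  obtain ⟨v, hv0, hvv⟩ := exists_iso hF
  obtain ⟨v', hv'e⟩ : ∃ v', v' = gm A *ᵥ v := ⟨_, rfl⟩
  have hv'v' : hh v' v' = 0 := by rw [hv'e, herm_gm, hvv]
  have hv'0 : v' ≠ 0 := by
    intro h
    apply hne hv0 0
    rw [← hv'e, h, zero_smul]
  obtain ⟨b, hb⟩ : ∃ b, b = hh v v' := ⟨_, rfl⟩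
  have hb' : hh v' v = b ^ q := by rw [hb, herm_swap hF v v']
  have hb0 : b ≠ 0 := by
    intro h
    obtain ⟨d, hd⟩ := iso_prop hF hv0 hvv hv'v' (by rw [← hb, h])
    exact hne hv0 d (hv'e ▸ hd)
  have hbq0 : b ^ q ≠ 0 := pow_ne_zero _ hb0
  -- the scalars
  obtain ⟨z, hzs, hz1, hzq⟩ := exists_zeta hF hsq
  have hz0 : z ≠ 0 := by
    rintro rfl
    rw [zero_pow hs.out.ne_zero] at hzs
    exact zero_ne_one hzs
  have hzi : z * z⁻¹ = 1 := mul_inv_cancel₀ hz0
  have hzzi : z + z⁻¹ ≠ 0 := by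
    intro h
    have h3 : z ^ 2 = 1 := by linear_combination z * h - hzi - h2
    have h4 := orderOf_dvd_of_pow_eq_one h3
    have h5 := orderOf_dvd_of_pow_eq_one hzs
    have h6 : orderOf z = 1 ∨ orderOf z = s := (Nat.dvd_prime hs.out).1 h5
    rcases h6 with h6 | h6
    · exact hz1 (orderOf_eq_one_iff.1 h6)
    · rw [h6] at h4
      have := Nat.le_of_dvd (by norm_num) h4
      omega
  have hsub : ∀ x y : F, x + y = x - y := fun x y => by linear_combination y * h2
  obtain ⟨a, ha⟩ : ∃ a : F, a * a * (b * b ^ q) = z + z⁻¹ := by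
    have hc2 : ringChar F = 2 := by
      have : CharP F 2 := by
        have h3 : ringChar F ∣ 2 := (ringChar.spec F 2).1 (by exact_mod_cast h2)
        rcases (Nat.dvd_prime Nat.prime_two).1 h3 with h4 | h4
        · exact absurd h4 (CharP.ringChar_ne_one)
        · rw [← h4]; exact ringChar.charP F
      exact ringChar.eq_iff.2 this
    obtain ⟨a, ha⟩ := FiniteField.isSquare_of_char_two hc2 ((z + z⁻¹) / (b * b ^ q))
    refine ⟨a, ?_⟩
    rw [← ha, div_mul_cancel₀ _ (mul_ne_zero hb0 hbq0)]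
  have ha0 : a ≠ 0 := by
    rintro rfl
    rw [zero_mul, zero_mul] at ha
    exact hzzi ha.symm
  have haq : a ^ q = a := by
    have h3 : (a * a) ^ q = a * a := by
      have h4 : a * a = (z + z⁻¹) / (b * b ^ q) := by
        rw [← ha, mul_div_cancel_right₀ _ (mul_ne_zero hb0 hbq0)]
      rw [h4, div_pow, add_pow_q hF, inv_pow, hzq, norm_pow_q hF]
    rw [mul_pow] at h3
    have h4 : (a ^ q - a) * (a ^ q - a) = 0 := by linear_combination h3 + (a * a - a ^ q * a) * h2
    exact sub_eq_zero.1 (mul_self_eq_zero.1 h4)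
  -- the transvection
  have hsg : IsSiegel q v 0 a := ⟨hvv, herm_zero_left v, by
    rw [herm_zero_left, haq]
    linear_combination a * h2⟩
  obtain ⟨g, hgdef⟩ : ∃ g, g = siegel hF v 0 a hsg := ⟨_, rfl⟩
  have hg : ∀ x, act g x = x + (a * hh x v) • v := by
    intro x
    rw [hgdef, act_siegel, LieClassical.HermBasic.herm_zero_right hF, smul_zero, add_zero, sub_zero]
  have hgg : g * g = 1 := by
    apply ext_act
    intro x
    rw [act_mul, act_one, hg, hg, herm_add_left, herm_smul_left, hvv]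
    funext i
    simp only [Pi.add_apply, Pi.smul_apply, smul_eq_mul]
    linear_combination (a * hh x v * v i) * h2
  obtain ⟨u, hu⟩ : ∃ u, u = toGU g * (A * toGU g * A⁻¹) := ⟨_, rfl⟩
  have hgt : ∀ x, gm (toGU g) *ᵥ x = x + (a * hh x v) • v := fun x => hg x
  have hux : ∀ x, gm u *ᵥ x = x + (a * hh x v') • v' + (a * hh x v + a * a * b ^ q * hh x v') • v := by
    intro x
    rw [hu, gm_mul, gm_mul, gm_mul, ← mulVec_mulVec, ← mulVec_mulVec, ← mulVec_mulVec, hgt (gm A⁻¹ *ᵥ x), mulVec_add,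
      mulVec_smul, gm_mulVec_inv, ← hv'e, herm_conj, ← hv'e, hgt, herm_add_left, herm_smul_left, hb']
    funext i
    simp only [Pi.add_apply, Pi.smul_apply, smul_eq_mul]
    ring
  -- the eigenvectors
  have hev : ∀ t t' : F, t + t' = z + z⁻¹ → t * t' = 1 →
      gm u *ᵥ ((t - 1) • v + (a * b) • v') = t • ((t - 1) • v + (a * b) • v') := by
    intro t t' htt htt'
    rw [hux, herm_add_left, herm_add_left, herm_smul_left, herm_smul_left, herm_smul_left, herm_smul_left, hvv, hv'v',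
      ← hb, hb']
    have ha' : a * a * (b * b ^ q) = t + t' := by rw [ha, htt]
    funext i
    simp only [Pi.add_apply, Pi.smul_apply, smul_eq_mul]
    linear_combination (t * v i) * ha' + v i * htt' + (v i * t) * h2
  obtain ⟨y, hy0, hyv, hyv'⟩ := exists_ne_zero_orth (q := q) le_rfl v v'
  have huy : gm u *ᵥ y = y := by
    rw [hux, hyv, hyv']
    simp
  have hprop : ∀ d : F, v' ≠ d • v := fun d hd => hne hv0 d (hv'e ▸ hd)
  -- vectors perpendicular to both
  have hperp : ∀ x : Fin 3 → F, x ≠ 0 → hh x v = 0 → hh x v' = 0 → hh x x ≠ 0 := by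
    intro x hx hxv hxv' hxx
    obtain ⟨c1, hc1⟩ := iso_prop hF hv0 hvv hxx (herm_eq_zero_swap hF hxv)
    obtain ⟨c2, hc2⟩ := iso_prop hF hv'0 hv'v' hxx (herm_eq_zero_swap hF hxv')
    have hc20 : c2 ≠ 0 := by
      rintro rfl
      rw [zero_smul] at hc2
      exact hx hc2
    apply hprop (c2⁻¹ * c1)
    rw [mul_smul, ← hc1, hc2, smul_smul, inv_mul_cancel₀ hc20, one_smul]
  have hyy := hperp y hy0 hyv hyv'
  have hind : ∀ x1 x2 x3 : F, x1 • y + x2 • v + x3 • v' = 0 → x1 = 0 ∧ x2 = 0 ∧ x3 = 0 := by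
    intro x1 x2 x3 h
    have h1 : hh (x1 • y + x2 • v + x3 • v') y = 0 := by rw [h, herm_zero_left]
    rw [herm_add_left, herm_add_left, herm_smul_left, herm_smul_left, herm_smul_left, herm_eq_zero_swap hF hyv,
      herm_eq_zero_swap hF hyv'] at h1
    have hx1 : x1 = 0 := by
      have h3 : x1 * hh y y = 0 := by linear_combination h1
      exact (mul_eq_zero.1 h3).resolve_right hyy
    rw [hx1, zero_smul, zero_add] at h
    have hx3 : x3 = 0 := by
      by_contra hx3
      apply hprop (-(x3⁻¹ * x2))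
      have h2 : x3⁻¹ • (x2 • v + x3 • v') = 0 := by rw [h, smul_zero]
      rw [smul_add, smul_smul, smul_smul, inv_mul_cancel₀ hx3, one_smul] at h2
      rw [neg_smul]
      exact eq_neg_of_add_eq_zero_right h2
    rw [hx3, zero_smul, add_zero] at h
    exact ⟨hx1, (smul_eq_zero.1 h).resolve_right hv0, hx3⟩
  -- the order
  have hpow : ∀ (x : Fin 3 → F) (t : F), gm u *ᵥ x = t • x → ∀ k : ℕ, gm u ^ k *ᵥ x = t ^ k • x := by
    intro x t hx k
    induction k with
    | zero => rw [pow_zero, pow_zero, one_mulVec, one_smul]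
    | succ k ih => rw [pow_succ, ← mulVec_mulVec, hx, mulVec_smul, ih, smul_smul, pow_succ']
  have hus : u ^ s = 1 := by
    apply gm_inj
    rw [gm_pow, gm_one]
    have h1 : gm u ^ s *ᵥ ((z - 1) • v + (a * b) • v') = (z - 1) • v + (a * b) • v' := by
      rw [hpow _ _ (hev z z⁻¹ rfl hzi), hzs, one_smul]
    have h1' : gm u ^ s *ᵥ ((z⁻¹ - 1) • v + (a * b) • v') = (z⁻¹ - 1) • v + (a * b) • v' := by
      rw [hpow _ _ (hev z⁻¹ z (add_comm _ _) (by rw [mul_comm]; exact hzi)), inv_pow, hzs, inv_one, one_smul]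
    have hzz : z - z⁻¹ ≠ 0 := by rw [← hsub]; exact hzzi
    have h3 : gm u ^ s *ᵥ v = v := by
      have e : (z - z⁻¹) • v = ((z - 1) • v + (a * b) • v') - ((z⁻¹ - 1) • v + (a * b) • v') := by
        funext i
        simp only [Pi.add_apply, Pi.sub_apply, Pi.smul_apply, smul_eq_mul]
        ring
      have h4 : (z - z⁻¹) • (gm u ^ s *ᵥ v) = (z - z⁻¹) • v := by
        rw [← mulVec_smul, e, mulVec_sub, h1, h1']
      exact smul_right_injective _ hzz h4
    have h3' : gm u ^ s *ᵥ v' = v' := by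
      have h4 : (a * b) • (gm u ^ s *ᵥ v') = (a * b) • v' := by
        rw [mulVec_add, mulVec_smul, mulVec_smul, h3] at h1
        exact add_left_cancel h1
      exact smul_right_injective _ (mul_ne_zero ha0 hb0) h4
    have h5 : gm u ^ s *ᵥ y = y := by
      have := hpow y 1 (by rw [huy, one_smul]) s
      rwa [one_pow, one_smul] at this
    apply Matrix.ext_of_mulVec_single
    intro i
    obtain ⟨x1, x2, x3, hx⟩ := coords hind (Pi.single i 1)
    rw [hx, one_mulVec, mulVec_add, mulVec_add, mulVec_smul, mulVec_smul, mulVec_smul, h3, h3', h5]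
  have hfix : ∀ x : Fin 3 → F, x ≠ 0 → gm u *ᵥ x = x → hh x x ≠ 0 := by
    intro x hx hux'
    have h1 : (0 : F) • y + (a * hh x v + a * a * b ^ q * hh x v') • v + (a * hh x v') • v' = 0 := by
      have h3 := hux x
      rw [hux'] at h3
      have h4 : (a * hh x v') • v' + (a * hh x v + a * a * b ^ q * hh x v') • v = 0 := by
        have := sub_eq_zero.2 h3.symm
        rw [← this]
        abel
      rw [zero_smul, zero_add, ← h4]
      abel
    obtain ⟨-, e1, e2⟩ := hind _ _ _ h1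
    have e3 : hh x v' = 0 := (mul_eq_zero.1 e2).resolve_left ha0
    rw [e3, mul_zero, add_zero] at e1
    exact hperp x hx ((mul_eq_zero.1 e1).resolve_left ha0) e3
  have hu1 : u ≠ 1 := by
    intro h
    apply hfix v hv0 (by rw [h, gm_one, one_mulVec]) hvv
  obtain ⟨w, hw, ⟨c0, h0⟩, ⟨c1, h1⟩, ⟨c2, h2'⟩, hsp⟩ := wrap hF h30 hA hc hI hgg hv0 (by
    intro e he
    obtain ⟨t, ht⟩ := exists_herm_ne_zero hF hv0
    have htv : hh t v ≠ 0 := fun h => ht (herm_eq_zero_swap hF h)
    have h1 := he t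
    rw [hg t, hg (e t), map_add, map_smul] at h1
    have h3 := add_left_cancel h1
    refine ⟨(a * hh t v)⁻¹ * (a * hh (e t) v), ?_⟩
    rw [mul_smul, ← h3, smul_smul, inv_mul_cancel₀ (mul_ne_zero ha0 htv), one_smul]) hs5 hu hus hu1 hy0 huy
  -- eigenvalues
  have hA0 : ∀ z : Fin 3 → F, z ≠ 0 → gm A *ᵥ z ≠ 0 := by
    intro z hz h
    apply hne hz 0
    rw [h, zero_smul]
  have hd1 : ∀ (x : Fin 3 → F) (d : F), x ≠ 0 → gm u *ᵥ x = d • x → d ^ s = 1 := by
    intro x d hx hd
    have h3 := hpow x d hd s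
    rw [← gm_pow, hus, gm_one, one_mulVec] at h3
    have h4 : (d ^ s - 1) • x = 0 := by rw [sub_smul, ← h3, one_smul, sub_self]
    exact sub_eq_zero.1 ((smul_eq_zero.1 h4).resolve_right hx)
  have hniso : ∀ (x : Fin 3 → F) (d : F), x ≠ 0 → gm u *ᵥ x = d • x → hh x x ≠ 0 → d = 1 := by
    intro x d hx hd hxx
    have h3 := herm_gm u x x
    rw [hd, herm_smul_left, herm_smul_right] at h3
    have h4 : d * d ^ q = 1 := by
      have h5 : (d * d ^ q - 1) * hh x x = 0 := by linear_combination h3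
      exact sub_eq_zero.1 ((mul_eq_zero.1 h5).resolve_right hxx)
    have h5 := hd1 x d hx hd
    have h6 : d ^ q = d := by
      obtain ⟨k, hk⟩ := hsq
      have hq := q_pos hF
      have h2 : q = s * k + 1 := by omega
      rw [h2, pow_succ, pow_mul, h5, one_pow, one_mul]
    rw [h6] at h4
    have h7 : (d - 1) * (d - 1) = 0 := by linear_combination h4 + (1 - d) * h2
    exact sub_eq_zero.1 (mul_self_eq_zero.1 h7)
  by_cases hww : hh w w = 0
  · -- all eigenvectors are isotropic
    have hne1 : ∀ (x : Fin 3 → F) (d : F), x ≠ 0 → gm u *ᵥ x = d • x → hh x x = 0 → d ≠ 1 := by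
      rintro x d hx hd hxx rfl
      rw [one_smul] at hd
      exact hfix x hx hd hxx
    have e0 := hne1 _ _ hw h0 hww
    have e1 := hne1 _ _ (hA0 _ hw) h1 (by rw [herm_gm, hww])
    have e2 := hne1 _ _ (hA0 _ (hA0 _ hw)) h2' (by rw [herm_gm, herm_gm, hww])
    obtain ⟨α, β, γ, hy⟩ := hsp y
    have hindw : LinearMap.ker (LinearMap.id (R := F) (M := Fin 3 → F)) = ⊥ := LinearMap.ker_id
    -- the three vectors are independent
    let f : (Fin 3 → F) →ₗ[F] (Fin 3 → F) :=
      { toFun := fun t => t 0 • w + t 1 • (gm A *ᵥ w) + t 2 • (gm A *ᵥ (gm A *ᵥ w))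
        map_add' := fun s t => by
          ext i
          simp only [Pi.add_apply, Pi.smul_apply, smul_eq_mul]
          ring
        map_smul' := fun r t => by
          ext i
          simp only [Pi.add_apply, Pi.smul_apply, smul_eq_mul, RingHom.id_apply]
          ring }
    have hfs : Function.Surjective f := by
      intro x
      obtain ⟨α, β, γ, hx⟩ := hsp x
      exact ⟨![α, β, γ], hx.symm⟩
    have hfi : Function.Injective f := LinearMap.injective_iff_surjective.2 hfs
    have hz : f ![(c0 - 1) * α, (c1 - 1) * β, (c2 - 1) * γ] = f 0 := by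
      rw [map_zero]
      change ((c0 - 1) * α) • w + ((c1 - 1) * β) • (gm A *ᵥ w) + ((c2 - 1) * γ) • (gm A *ᵥ (gm A *ᵥ w)) = 0
      have h5 := huy
      rw [hy, mulVec_add, mulVec_add, mulVec_smul, mulVec_smul, mulVec_smul, h0, h1, h2'] at h5
      have h6 := sub_eq_zero.2 h5
      rw [← h6]
      funext i
      simp only [Pi.add_apply, Pi.sub_apply, Pi.smul_apply, smul_eq_mul]
      ring
    have hz' := hfi hz
    have k0 : (c0 - 1) * α = 0 := congrFun hz' 0
    have k1 : (c1 - 1) * β = 0 := congrFun hz' 1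
    have k2 : (c2 - 1) * γ = 0 := congrFun hz' 2
    apply hy0
    rw [hy, (mul_eq_zero.1 k0).resolve_left (sub_ne_zero.2 e0), (mul_eq_zero.1 k1).resolve_left (sub_ne_zero.2 e1),
      (mul_eq_zero.1 k2).resolve_left (sub_ne_zero.2 e2)]
    simp
  · -- no eigenvector is isotropic
    apply hu1
    apply gm_inj
    have e0 := hniso _ _ hw h0 hww
    have e1 := hniso _ _ (hA0 _ hw) h1 (by rwa [herm_gm])
    have e2 := hniso _ _ (hA0 _ (hA0 _ hw)) h2' (by rwa [herm_gm, herm_gm])
    apply Matrix.ext_of_mulVec_single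
    intro i
    obtain ⟨x1, x2, x3, hx⟩ := hsp (Pi.single i 1)
    rw [hx, gm_one, one_mulVec, mulVec_add, mulVec_add, mulVec_smul, mulVec_smul, mulVec_smul, h0, h1, h2', e0, e1, e2,
      one_smul, one_smul, one_smul]

end Cfsg.Agent.H223.R3
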