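import Cfsg.Agent.H223.R3C

/-!
# `PSU_3(q)`, automorphisms of order three, `q ≥ 4` (task 1200)

* `unip_three` : the unipotent elements, `q ≥ 9` a power of three;
* `cube_false` : `A ^ 3 = 1`, `3 ∣ q + 1`;
* `irow_psu` : `IRow (PSU 3 F q)` for `q ≥ 4`.
-/

set_option autoImplicit false
set_option linter.unusedSectionVars false
set_option linter.unusedFintypeInType false
set_option linter.unusedDecidableInType false

namespace Cfsg.Agent.H223.R3

open Subgroup Cfsg Cfsg.Agent.H459.Rad Cfsg.Agent.H459.Iface Matrix Cfsg.Agent.H724.UThree Cfsg.Agent.H959.Rad3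
open Cfsg.Agent Cfsg.Agent.LieClassical.HermSiegel Cfsg.Agent.LieClassical.HermBasic
open Cfsg.Agent.ClassicalGeometry.PSUAutCount (gm toAut gm_mul gm_one gm_inv_mul gm_mul_inv gm_inv_mulVec
  gm_mulVec_inv gm_inj herm_gm sc gm_sc_mul toAut_sc_mul eq_of_toAut_eq guConjFun act_guConjFun)
open Cfsg.Agent.ClassicalGeometry.UnitAutBasic (pr pr_surjective exists_ne_zero_orth)
open Cfsg.Agent.Schreier.PSU (f₁)

variable {F : Type*} [Field F] [Fintype F] {q : ℕ}

local notation "hh" => hermForm 3 F q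

/-- **Unipotent elements of order three.** -/
theorem unip_three (hF : Fintype.card F = q ^ 2) [hcp : CharP F 3] (hq : 4 ≤ q) {g : SU 3 F q}
    (hg : g ^ 3 = 1) (hR : RC (f₁ (toGU g))) : f₁ (toGU g) = 1 := by
  have hp : Fact (Nat.Prime 3) := ⟨Nat.prime_three⟩
  have h2 : (2 : F) ≠ 0 := by
    intro h
    have h3 : 3 ∣ 2 := (CharP.cast_eq_zero_iff F 3 2).1 (by exact_mod_cast h)
    omega
  obtain ⟨N, hN⟩ : ∃ N, N = mat g - 1 := ⟨_, rfl⟩
  have hgN : mat g = 1 + N := by rw [hN]; abel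
  have hN3 : N * N * N = 0 := by
    have := cube_zero hg
    rw [← hN, pow_succ, pow_two] at this
    exact this
  by_cases hN2 : N * N = 0
  · by_cases hN0 : N = 0
    · have : toGU g = 1 := by
        apply gm_inj
        rw [gm_toGU, hgN, hN0, add_zero, gm_one]
      rw [this, map_one]
    obtain ⟨v, hv, hNv⟩ := exists_fixed hF hgN hN2 hN0
    obtain ⟨B, hB⟩ := LieClassical.GUOrder.exists_gu_map hF (herm_single 0 hF) hv
    have h3 : B⁻¹ * toGU g * B ∈ Hst hF := by
      refine ⟨1, ?_⟩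
      have hB' : gm B *ᵥ e0 F = v := hB
      rw [gm_mul, gm_mul, ← mulVec_mulVec, ← mulVec_mulVec, hB', gm_toGU, hgN, add_mulVec, one_mulVec, hNv, add_zero,
        ← hB', gm_inv_mulVec, one_smul]
    have h4 := eq_one_of_fix hF hq h3 (by
      rw [map_mul, map_mul, map_inv]
      have := RC_conj (f₁ B)⁻¹ hR
      rwa [inv_inv] at this)
    rw [map_mul, map_mul, map_inv] at h4
    have h5 : f₁ (toGU g) = f₁ B * ((f₁ B)⁻¹ * f₁ (toGU g) * f₁ B) * (f₁ B)⁻¹ := by group
    rw [h5, h4, mul_one, mul_inv_cancel]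
  · obtain ⟨X, w, r, h⟩ := exists_adapted hF hgN hN3 hN2 h2
    have hfin : Finite (PSU 3 F q) := inferInstance
    have h3 := rc_center (SignalizersComponents.SLQuasisimple.isQuasisimple_two (by rw [card_FF hF]; exact hq))
      ((pr 3 F q).comp (sym hF h2 h)) (uu hF) (by
        rw [MonoidHom.comp_apply, sym_uu, ← f₁_toGU]
        exact hR) (by
        intro htop
        have h4 := Subgroup.card_top (G := PSU 3 F q)
        rw [← htop] at h4
        have h5 : Nat.card ((pr 3 F q).comp (sym hF h2 h)).range ≤ Nat.card (Matrix.SpecialLinearGroup (Fin 2) (FF hF)) :=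
          Nat.card_le_card_of_surjective _ ((pr 3 F q).comp (sym hF h2 h)).rangeRestrict_surjective
        have := card_sl hF
        omega)
    rcases h3 with h3 | h3
    · rw [MonoidHom.comp_apply, sym_uu] at h3
      rw [f₁_toGU, h3, map_one]
    · exact absurd h3 (uu_not_central hF)

/-- a non-isotropic eigenvector gives the contradiction -/
theorem eq_one_of_eig (hF : Fintype.card F = q ^ 2) (hq : 4 ≤ q) {A : GU 3 F q} (hR : RC (f₁ A)) {v : Fin 3 → F}
    (hv : hh v v ≠ 0) {c : F} (hc : gm A *ᵥ v = c • v) : f₁ A = 1 := by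
  obtain ⟨l, hl0, hl⟩ := exists_unit hF hv
  obtain ⟨B, hB⟩ := LieClassical.GUOrder.exists_gu_map hF (herm_single 0 hF) hl
  have hB' : gm B *ᵥ e0 F = l • v := hB
  have h3 : B⁻¹ * A * B ∈ Hst hF := by
    refine ⟨c, ?_⟩
    rw [gm_mul, gm_mul, ← mulVec_mulVec, ← mulVec_mulVec, hB', mulVec_smul, hc, smul_comm, ← hB', mulVec_smul,
      gm_inv_mulVec]
  have h4 := eq_one_of_fix hF hq h3 (by
    rw [map_mul, map_mul, map_inv]
    have := RC_conj (f₁ B)⁻¹ hR
    rwa [inv_inv] at this)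
  rw [map_mul, map_mul, map_inv] at h4
  have h5 : f₁ A = f₁ B * ((f₁ B)⁻¹ * f₁ A * f₁ B) * (f₁ B)⁻¹ := by group
  rw [h5, h4, mul_one, mul_inv_cancel]

/-- **Diagonalisable elements.** -/
theorem cube_eq_one (hF : Fintype.card F = q ^ 2) (hq : 4 ≤ q) (h3q : 3 ∣ q + 1) {A : GU 3 F q}
    (hA : A ^ 3 = 1) (hR : RC (f₁ A)) : f₁ A = 1 := by
  -- a cube root of unity
  obtain ⟨g, hg1, hg⟩ := exists_gen_norm hF
  obtain ⟨m, hm⟩ := h3q
  have hm0 : 0 < m := by omega
  obtain ⟨z, hz⟩ : ∃ z, z = g ^ m := ⟨_, rfl⟩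
  have hgq : g ^ (q + 1) = 1 := by rw [pow_succ', hg1]
  have hz3 : z ^ 3 = 1 := by rw [hz, ← pow_mul, mul_comm, ← hm, hgq]
  have hz1 : z ≠ 1 := by
    intro h
    rw [hz] at h
    have := Nat.le_of_dvd hm0 (hg m h)
    omega
  have hzn : z * z ^ q = 1 := by rw [← pow_succ', hz, ← pow_mul, mul_comm, pow_mul, hgq, one_pow]
  have hzs : z ^ 2 + z + 1 = 0 := by
    have : (z - 1) * (z ^ 2 + z + 1) = 0 := by linear_combination hz3
    exact (mul_eq_zero.1 this).resolve_left (sub_ne_zero.2 hz1)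
  have h30 : (3 : F) ≠ 0 := by
    intro h
    have : (z - 1) ^ 3 = 0 := by linear_combination hz3 - (z ^ 2 - z) * h
    exact hz1 (sub_eq_zero.1 (pow_eq_zero_iff (by norm_num) |>.1 this))
  have hA3 : ∀ x : Fin 3 → F, gm A *ᵥ (gm A *ᵥ (gm A *ᵥ x)) = x := by
    intro x
    have : gm A *ᵥ (gm A *ᵥ (gm A *ᵥ x)) = gm (A ^ 3) *ᵥ x := by
      rw [mulVec_mulVec, mulVec_mulVec, gm_pow, pow_succ, pow_two]
    rw [this, hA, gm_one, one_mulVec]
  -- the projections
  by_contra hne
  have key : ∀ t : F, t ^ 3 = 1 → ∀ x : Fin 3 → F,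
      hh (x + (t ^ 2) • (gm A *ᵥ x) + t • (gm A *ᵥ (gm A *ᵥ x)))
        (x + (t ^ 2) • (gm A *ᵥ x) + t • (gm A *ᵥ (gm A *ᵥ x))) = 0 := by
    intro t ht x
    by_contra hcon
    apply hne
    refine eq_one_of_eig hF hq hR hcon (c := t) ?_
    rw [mulVec_add, mulVec_add, mulVec_smul, mulVec_smul, hA3]
    funext i
    simp only [Pi.add_apply, Pi.smul_apply, smul_eq_mul]
    linear_combination (-(gm A *ᵥ x) i) * ht
  obtain ⟨x, hx⟩ : ∃ x : Fin 3 → F, x = e0 F := ⟨_, rfl⟩
  have hxx : hh x x = 1 := by rw [hx]; exact herm_single 0 hF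
  obtain ⟨y1, hy1⟩ : ∃ y1, y1 = gm A *ᵥ x := ⟨_, rfl⟩
  obtain ⟨y2, hy2⟩ : ∃ y2, y2 = gm A *ᵥ y1 := ⟨_, rfl⟩
  have hAy2 : gm A *ᵥ y2 = x := by rw [hy2, hy1, hA3]
  have h11 : hh y1 y1 = 1 := by rw [hy1, herm_gm, hxx]
  have h22 : hh y2 y2 = 1 := by rw [hy2, herm_gm, h11]
  have h12 : hh y2 y1 = hh y1 x := by
    have := herm_gm A y1 x
    rw [← hy2, ← hy1] at this
    exact this
  have h20 : hh x y2 = hh y1 x := by
    have := herm_gm A y2 y1
    rw [hAy2, ← hy2] at this
    rw [this, h12]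
  have h21 : hh y1 y2 = hh x y1 := by
    have := herm_gm A x y1
    rw [← hy1, ← hy2] at this
    exact this
  have h02 : hh y2 x = hh x y1 := by
    have := herm_gm A y1 y2
    rw [← hy2, hAy2] at this
    rw [this, h21]
  have e := fun t ht => key t ht x
  simp only [← hy1, ← hy2, herm_add_left, herm_add_right hF, herm_smul_left, herm_smul_right, hxx, h11, h22, h12, h20,
    h21, h02] at e
  obtain ⟨α, hα⟩ : ∃ α, α = hh y1 x := ⟨_, rfl⟩
  obtain ⟨β, hβ⟩ : ∃ β, β = hh x y1 := ⟨_, rfl⟩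
  simp only [← hα, ← hβ] at e
  have a1 := e 1 (one_pow 3)
  have a2 := e z hz3
  have a3 := e (z ^ 2) (by rw [← pow_mul, mul_comm, pow_mul, hz3, one_pow])
  have hzq : z ^ q = z ^ 2 := by
    have h4 : z * (z ^ q - z ^ 2) = 0 := by linear_combination hzn - hz3
    have hz0 : z ≠ 0 := by
      rintro rfl
      rw [zero_pow (by norm_num)] at hz3
      exact zero_ne_one hz3
    exact sub_eq_zero.1 ((mul_eq_zero.1 h4).resolve_left hz0)
  have hz2q : (z ^ 2) ^ q = z := by
    rw [← pow_mul, mul_comm, pow_mul, hzq]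
    linear_combination z * hz3
  have hz4 : ((z ^ 2) ^ 2) ^ q = z ^ 2 := by
    have : (z ^ 2) ^ 2 = z := by linear_combination z * hz3
    rw [this, hzq]
  simp only [one_pow, one_mul, mul_one] at a1
  rw [hz2q, hzq] at a2
  rw [hz4, hz2q] at a3
  -- the sum of the three equations is `9 = 0`
  have h9 : (9 : F) = 0 := by
    linear_combination a1 + a2 + a3 - (z * β + 2 + (z ^ 3 + 1) + 1 + 2 * z * α + z ^ 2 * β) * hz3 - 3 * (α + β) * hzs
  have : (3 : F) * 3 = 0 := by linear_combination h9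
  exact h30 (mul_self_eq_zero.1 this)

/-- norm one elements are cubes of norm one elements if `3 ∤ q + 1` -/
theorem exists_cube_root {c : F} (hc : c * c ^ q = 1) (h3 : ¬ 3 ∣ q + 1) : ∃ d : F, d * d ^ q = 1 ∧ d ^ 3 = c := by
  obtain ⟨m, k, hmk⟩ : ∃ m k : ℕ, 3 * m = 1 + (q + 1) * k := by
    have hcop : Nat.Coprime 3 (q + 1) := (Nat.Prime.coprime_iff_not_dvd Nat.prime_three).2 h3
    by_cases hq0 : q = 0
    · subst hq0
      exact ⟨1, 2, by norm_num⟩
    obtain ⟨m, hm⟩ := Nat.exists_mul_mod_eq_one_of_coprime hcop (by omega)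
    refine ⟨m, 3 * m / (q + 1), ?_⟩
    have := Nat.div_add_mod (3 * m) (q + 1)
    omega
  have hc' : c ^ (q + 1) = 1 := by rw [pow_succ', hc]
  refine ⟨c ^ m, ?_, ?_⟩
  · rw [← pow_succ', ← pow_mul, mul_comm, pow_mul, hc', one_pow]
  · rw [← pow_mul, mul_comm, hmk, pow_add, pow_mul, hc', one_pow, mul_one, pow_one]

/-- **Linear automorphisms.** -/
theorem lin_false (hF : Fintype.card F = q ^ 2) (hq : 4 ≤ q) {A : GU 3 F q} (hx : f₁ A ^ 3 = 1) (hx1 : f₁ A ≠ 1)
    (hR : RC (f₁ A)) (hI : Inv (f₁ A)) : False := by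
  obtain ⟨r, k, hr, hrc, hk, hk0⟩ := LieClassical.HermBasic.exists_prime_pow hF
  have hrf : Fact r.Prime := ⟨hr⟩
  have h1 : toAut (1 : GU 3 F q) 1 = toAut (A ^ 3) 1 := by
    change f₁ (1 : GU 3 F q) = f₁ (A ^ 3)
    rw [map_one, map_pow, hx]
  obtain ⟨-, c, hc, hc'⟩ := eq_of_toAut_eq hF le_rfl h1
  rw [gm_one] at hc'
  by_cases hex : ∃ d : F, d * d ^ q = 1 ∧ d ^ 3 = c
  · obtain ⟨d, hd, hd3⟩ := hex
    have hd0 : d ≠ 0 := left_ne_zero_of_mul_eq_one hd
    obtain ⟨B, hB⟩ : ∃ B : GU 3 F q, B = sc 3 ⟨d⁻¹, inv_norm hd⟩ * A := ⟨_, rfl⟩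
    have hfB : f₁ B = f₁ A := by
      rw [hB]
      exact toAut_sc_mul _ _ _
    have hB3 : B ^ 3 = 1 := by
      apply gm_inj
      rw [gm_pow, hB, gm_sc_mul, smul_pow, ← gm_pow, hc', smul_smul, inv_pow, hd3, gm_one]
      have hc0 : c ≠ 0 := left_ne_zero_of_mul_eq_one hc
      rw [inv_mul_cancel₀ hc0, one_smul]
    rw [← hfB] at hx1 hR
    by_cases h3q : 3 ∣ q + 1
    · exact hx1 (cube_eq_one hF hq h3q hB3 hR)
    by_cases h3 : 3 ∣ q
    · -- characteristic three
      have hr3 : r = 3 := by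
        rw [hk] at h3
        exact ((Nat.prime_dvd_prime_iff_eq Nat.prime_three hr).1 (Nat.prime_three.dvd_of_dvd_pow h3)).symm
      subst hr3
      have hdet : (gm B).det = 1 := by
        have h5 := congrArg Matrix.det (congrArg gm hB3)
        rw [gm_pow, Matrix.det_pow, gm_one, Matrix.det_one] at h5
        have h30 : (3 : F) = 0 := by exact_mod_cast CharP.cast_eq_zero F 3
        have h6 : ((gm B).det - 1) ^ 3 = 0 := by
          linear_combination h5 + ((gm B).det - (gm B).det ^ 2) * h30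
        exact sub_eq_zero.1 (pow_eq_zero_iff (by norm_num) |>.1 h6)
      obtain ⟨g, hg⟩ := exists_toGU B hdet
      rw [← hg] at hx1 hR
      exact hx1 (unip_three hF hq (toGU_injective (by rw [toGU_pow, hg, hB3]; exact gm_inj rfl)) hR)
    · have hp : Fact (Nat.Prime 3) := ⟨Nat.prime_three⟩
      refine hx1 (semi_eq_one hF hq (p := 3) ?_ hB3 hR)
      intro h
      rcases (Nat.Prime.dvd_mul Nat.prime_three).1 h with h | h
      · exact h3 (Nat.prime_three.dvd_of_dvd_pow h)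
      · have h4 : q % 3 = 1 := by omega
        obtain ⟨m, hm⟩ : ∃ m, q = 3 * m + 1 := ⟨q / 3, by omega⟩
        have h5 : q ^ 2 - q + 1 = 3 * (3 * m ^ 2 + m) + 1 := by
          have h6 : q ≤ q ^ 2 := Nat.le_self_pow (by norm_num) q
          zify [h6]
          rw [hm]
          push_cast
          ring
        omega
  · -- irreducible elements
    have h3q : 3 ∣ q + 1 := by
      by_contra h
      exact hex (exists_cube_root hc h)
    have hnc : ∀ d : F, d ^ 3 ≠ c := by
      intro d hd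
      apply hex
      refine ⟨d, ?_, hd⟩
      have he3 : (d * d ^ q) ^ 3 = 1 := by
        have : (d * d ^ q) ^ 3 = d ^ 3 * (d ^ 3) ^ q := by ring
        rw [this, hd, hc]
      have heq : (d * d ^ q) ^ q = d * d ^ q := norm_pow_q hF d
      have hq1 : ∃ m, q = 3 * m + 2 := ⟨q / 3, by omega⟩
      obtain ⟨m, hm⟩ := hq1
      have h5 : (d * d ^ q) ^ q = (d * d ^ q) ^ 2 := by
        conv_lhs => rw [show (d * d ^ q) ^ q = (d * d ^ q) ^ (3 * m + 2) by rw [← hm]]
        rw [pow_add, pow_mul, he3, one_pow, one_mul]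
      rw [heq] at h5
      have h6 : d * d ^ q ≠ 0 := by
        intro h
        rw [h, zero_pow (by norm_num)] at he3
        exact zero_ne_one he3
      have h7 : d * d ^ q * (d * d ^ q - 1) = 0 := by linear_combination -h5
      exact sub_eq_zero.1 ((mul_eq_zero.1 h7).resolve_left h6)
    have hA3 : gm A ^ 3 = c • 1 := by rw [← gm_pow, hc']
    by_cases hr2 : r = 2
    · subst hr2
      have hodd : q % 2 = 0 := by
        rw [hk]
        exact Nat.mod_eq_zero_of_dvd (dvd_pow_self 2 hk0.ne')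
      obtain ⟨s, hs, hsd⟩ := Nat.exists_prime_and_dvd (n := q - 1) (by omega)
      have hsf : Fact s.Prime := ⟨hs⟩
      have hs5 : 5 ≤ s := by
        by_contra hlt
        have h2 := hs.two_le
        have : s = 2 ∨ s = 3 ∨ s = 4 := by omega
        rcases this with rfl | rfl | rfl
        · omega
        · omega
        · exact absurd hs (by norm_num)
      exact lam_two hF (by exact_mod_cast CharP.cast_eq_zero F 2) hs5 hsd hA3 hnc hI
    · have hr3 : r ≠ 3 := by
        rintro rfl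
        have h4 : 3 ∣ q := by rw [hk]; exact dvd_pow_self 3 hk0.ne'
        omega
      have hr5 : 5 ≤ r := by
        by_contra hlt
        have h2 := hr.two_le
        have : r = 4 := by omega
        subst this
        exact absurd hr (by norm_num)
      exact lam_odd hF hr5 hA3 hnc hI

theorem irow_psu (hF : Fintype.card F = q ^ 2) (hq : 4 ≤ q) : IRow (PSU 3 F q) := by
  intro x hx hR hI
  have hxp : x ^ 3 = 1 := orderOf_dvd_iff_pow_eq_one.1 hx.dvd
  have hx1 : x ≠ 1 := by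
    rintro rfl
    rw [orderOf_one] at hx
    omega
  obtain ⟨A, ρ, rfl⟩ := ClassicalGeometry.PSUAutMain.exists_toAut hF le_rfl (fun h => by omega) x
  by_cases hρ : ρ = 1
  swap
  · exact (field_false hF Nat.prime_three le_rfl hxp hρ hR).elim
  subst hρ
  exact lin_false hF hq hxp hx1 hR hI

end Cfsg.Agent.H223.R3
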