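import Cfsg.Agent.H223.R3E

/-!
# `PSU_3(3)`, automorphisms of order three (task 1200)

* `reg_false` : regular unipotent elements;
* `trans_false` : transvections.
-/

set_option autoImplicit false
set_option linter.unusedSectionVars false
set_option linter.unusedFintypeInType false
set_option linter.unusedDecidableInType false

namespace Cfsg.Agent.H223.R3

open Subgroup Cfsg Cfsg.Agent.SignalizersComponents.ComponentExists Cfsg.Agent.H459.Rad Cfsg.Agent.H459.Iface Matrix Cfsg.Agent.H724.UThree Cfsg.Agent.H959.Rad3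
open Cfsg.Agent Cfsg.Agent.LieClassical.HermSiegel Cfsg.Agent.LieClassical.HermBasic
open Cfsg.Agent.ClassicalGeometry.PSUAutCount (gm toAut gm_mul gm_one gm_inv_mul gm_mul_inv gm_inv_mulVec
  gm_mulVec_inv gm_inj herm_gm sc gm_sc_mul toAut_sc_mul eq_of_toAut_eq guConjFun act_guConjFun)
open Cfsg.Agent.ClassicalGeometry.UnitAutBasic (pr pr_surjective exists_ne_zero_orth)
open Cfsg.Agent.Schreier.PSU (f₁)

variable {F : Type*} [Field F] [Fintype F]

local notation "hh" => hermForm 3 F 3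

/-- an element of trace one has order dividing four -/
theorem pow_four {q : ℕ} (hF : Fintype.card F = q ^ 2) {g : SU 3 F q} (ht : (mat g).trace = 1) : g ^ 4 = 1 := by
  obtain ⟨M, hM⟩ : ∃ M, M = mat g := ⟨_, rfl⟩
  have h3 : M * M * M = M * M - M + (1 : Matrix (Fin 3) (Fin 3) F) := by
    have := cayley M
    rw [hM, adj_trace hF, ht, one_pow, mat_det, one_smul, one_smul, one_smul] at this
    rw [hM]
    exact this
  have h4 : M * M * M * M = 1 := by
    have e : M * M * M * M = M * M * M - M * M + M := by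
      conv_lhs => rw [h3]
      rw [add_mul, sub_mul, one_mul]
    rw [e, h3]
    abel
  apply mat_ext
  have e4 : g ^ 4 = g * g * g * g := by rw [pow_succ, pow_succ, pow_two]
  rw [e4, mat_mul, mat_mul, mat_mul, mat_one, ← hM, h4]

omit [Fintype F] in
/-- the trace of a map of rank one -/
theorem trace_rank_one {q : ℕ} {N : Matrix (Fin 3) (Fin 3) F} {u w : Fin 3 → F}
    (h : ∀ x, N *ᵥ x = hermForm 3 F q x u • w) : N.trace = hermForm 3 F q w u := by
  have h1 : ∀ i j, N i j = u j ^ q * w i := by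
    intro i j
    have h2 := congrFun (h (Pi.single j 1)) i
    rw [herm_single_left, one_mul, mulVec_single_one] at h2
    exact h2
  rw [Matrix.trace_fin_three, h1, h1, h1, herm_def, Fin.sum_univ_three]
  ring

omit [Fintype F] in
theorem trace_mul_refl {q : ℕ} {t : SU 3 F q} {v : Fin 3 → F} (ht : ∀ x, act t x = (2 * hermForm 3 F q x v) • v - x)
    (M : Matrix (Fin 3) (Fin 3) F) : (M * mat t).trace = 2 * hermForm 3 F q (M *ᵥ v) v - M.trace := by
  obtain ⟨N, hN⟩ : ∃ N, N = M * mat t + M := ⟨_, rfl⟩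
  have h1 : ∀ x, N *ᵥ x = hermForm 3 F q x v • ((2 : F) • (M *ᵥ v)) := by
    intro x
    rw [hN, add_mulVec, ← mulVec_mulVec]
    have : mat t *ᵥ x = (2 * hermForm 3 F q x v) • v - x := ht x
    rw [this, mulVec_sub, mulVec_smul, smul_smul, mul_comm]
    abel
  have h2 := trace_rank_one h1
  rw [herm_smul_left] at h2
  have h3 : M * mat t = N - M := by rw [hN]; abel
  rw [h3, Matrix.trace_sub, h2]

/-- the criterion inside `PSU_3` -/
theorem crit {q : ℕ} {g y : SU 3 F q} {k : ℕ} (hg : g ^ 3 = 1) (hy : y ^ 2 ^ k = 1) (hgy : (g * y) ^ 7 = 1)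
    (hx1 : (MulAut.conj (pr 3 F q g) : MulAut (PSU 3 F q)) ≠ 1)
    (hs : Group.IsSolvable ↥(closure ({MulAut.conj (pr 3 F q g), MulAut.conj (pr 3 F q y)} :
      Set (MulAut (PSU 3 F q))))) : False := by
  refine not_solvable_of_coprime (a := MulAut.conj (pr 3 F q g)) (b := MulAut.conj (pr 3 F q y)) (k := k) (n := 7)
    (by rw [← map_pow, ← map_pow, hg, map_one, map_one]) (by rw [← map_pow, ← map_pow, hy, map_one, map_one])
    (by rw [← map_mul, ← map_mul, ← map_pow, ← map_pow, hgy, map_one, map_one]) (by norm_num) ?_ hs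
  intro h
  apply hx1
  set a : MulAut (PSU 3 F q) := MulAut.conj (pr 3 F q g)
  set b : MulAut (PSU 3 F q) := MulAut.conj (pr 3 F q y)
  have ha : a ^ 3 = 1 := by rw [← map_pow, ← map_pow, hg, map_one, map_one]
  have hb : b ^ 2 ^ k = 1 := by rw [← map_pow, ← map_pow, hy, map_one, map_one]
  have h6 : a = b⁻¹ := eq_inv_of_mul_eq_one_left h
  have h7 : a ^ 2 ^ k = 1 := by rw [h6, inv_pow, hb, inv_one]
  have h8 : orderOf a ∣ 1 := by
    have : Nat.Coprime 3 (2 ^ k) := Nat.Coprime.pow_right k (by norm_num)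
    rw [← this.gcd_eq_one]
    exact Nat.dvd_gcd (orderOf_dvd_of_pow_eq_one ha) (orderOf_dvd_of_pow_eq_one h7)
  exact orderOf_eq_one_iff.1 (Nat.dvd_one.1 h8)

section three

variable (hF : Fintype.card F = 3 ^ 2) [CharP F 3]
include hF

omit [Fintype F] hF in
theorem three_eq_zero : (3 : F) = 0 := by exact_mod_cast CharP.cast_eq_zero F 3

omit [Fintype F] hF in
theorem trace_unip {g : SU 3 F 3} (hg : g ^ 3 = 1) : (mat g).trace = 0 := by
  have hp : Fact (Nat.Prime 3) := ⟨Nat.prime_three⟩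
  have h1 : IsNilpotent (mat g - 1) := ⟨3, cube_zero hg⟩
  have h2 := Matrix.isNilpotent_trace_of_isNilpotent h1
  have h3 := h2.eq_zero
  rw [Matrix.trace_sub, Matrix.trace_one, Fintype.card_fin] at h3
  have h4 : ((3 : ℕ) : F) = 0 := CharP.cast_eq_zero F 3
  rw [h4, sub_zero] at h3
  exact h3

/-- **Regular unipotent elements.** -/
theorem reg_false {g : SU 3 F 3} {X : Matrix (Fin 3) (Fin 3) F} {w : Fin 3 → F} {a : F} (h : Adapted hF g X w a)
    (hg : g ^ 3 = 1) (hx1 : (MulAut.conj (pr 3 F 3 g) : MulAut (PSU 3 F 3)) ≠ 1)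
    (hI : Inv (MulAut.conj (pr 3 F 3 g) : MulAut (PSU 3 F 3))) : False := by
  have h3 := three_eq_zero (F := F)
  have h20 : (2 : F) ≠ 0 := by
    intro h
    have : (1 : F) = 0 := by linear_combination h3 - h
    exact one_ne_zero this
  have h2i : (2 : F)⁻¹ = -1 := inv_eq_of_mul_eq_one_left (by linear_combination -h3)
  -- the scalars
  obtain ⟨i, hi0, hi⟩ := exists_trace_zero_ne hF
  have hi2 : i * i = -1 := by
    have : i * (1 + i * i) = 0 := by linear_combination hi
    linear_combination (mul_eq_zero.1 this).resolve_left hi0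
  have hi3 : i ^ 3 = -i := by linear_combination hi
  have ha3 : a ^ 3 = a := h.fa
  have ha2 : a * a = 1 := by
    have : a * (a * a - 1) = 0 := by linear_combination ha3
    linear_combination (mul_eq_zero.1 this).resolve_left h.a0
  obtain ⟨α, hα0, hα⟩ := exists_norm_eq_ne hF (c := -a) (by rw [neg_pow_q hF, ha3]) (neg_ne_zero.2 h.a0)
  have hα30 : α ^ 3 ≠ 0 := pow_ne_zero _ hα0
  obtain ⟨β, hβ⟩ : ∃ β, β = i * (α ^ 3)⁻¹ := ⟨_, rfl⟩
  have hβα : β * α ^ 3 = i := by rw [hβ, mul_assoc, inv_mul_cancel₀ hα30, mul_one]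
  have hαβ : α * β ^ 3 = -i := by
    have : (β * α ^ 3) ^ 3 = β ^ 3 * ((α ^ 3) ^ 3) := by ring
    rw [hβα, pow_q_pow_q hF, hi3] at this
    rw [this]
    ring
  obtain ⟨η, hη⟩ := exists_trace_eq hF (c := a + β * β ^ 3) (by rw [add_pow_q hF, norm_pow_q hF, ha3])
  obtain ⟨γ, hγ⟩ : ∃ γ, γ = η * (α ^ 3)⁻¹ := ⟨_, rfl⟩
  have hγα : γ * α ^ 3 = η := by rw [hγ, mul_assoc, inv_mul_cancel₀ hα30, mul_one]
  have hαγ : α * γ ^ 3 = η ^ 3 := by
    have : (γ * α ^ 3) ^ 3 = γ ^ 3 * ((α ^ 3) ^ 3) := by ring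
    rw [hγα, pow_q_pow_q hF] at this
    rw [this]
    ring
  -- the vector
  have h10 : hh (X *ᵥ w) w = 0 := herm_eq_zero_swap hF h.h01
  have h20' : hh (X *ᵥ (X *ᵥ w)) w = a := by rw [herm_swap hF w, h.h02, ha3]
  have h21 : hh (X *ᵥ (X *ᵥ w)) (X *ᵥ w) = 0 := herm_eq_zero_swap hF h.h12
  obtain ⟨v, hv⟩ : ∃ v, v = α • w + β • (X *ᵥ w) + γ • (X *ᵥ (X *ᵥ w)) := ⟨_, rfl⟩
  have hvv : hh v v = 1 := by
    rw [hv]
    simp only [herm_add_left, herm_add_right hF, herm_smul_left, herm_smul_right, h.h00, h.h01, h.h02, h.h11, h.h12,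
      h.h22, h10, h20', h21]
    linear_combination a * hαγ + a * hγα + a * hη + ha2
  have hXv : X *ᵥ v = α • (X *ᵥ w) + β • (X *ᵥ (X *ᵥ w)) := by
    rw [hv, mulVec_add, mulVec_add, mulVec_smul, mulVec_smul, mulVec_smul, h.cube, smul_zero, add_zero]
  have hXXv : X *ᵥ (X *ᵥ v) = α • (X *ᵥ (X *ᵥ w)) := by
    rw [hXv, mulVec_add, mulVec_smul, mulVec_smul, h.cube, smul_zero, add_zero]
  have hgv : mat g *ᵥ v = v + X *ᵥ v - X *ᵥ (X *ᵥ v) := by
    rw [h.hm, add_mulVec, add_mulVec, one_mulVec, smul_mulVec, ← mulVec_mulVec, h2i, neg_one_smul]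
    abel
  have e1 : hh (X *ᵥ v) v = -(a * i) := by
    rw [hXv, hv]
    simp only [herm_add_left, herm_add_right hF, herm_smul_left, herm_smul_right, h.h00, h.h01, h.h02, h.h11, h.h12,
      h.h22, h10, h20', h21]
    linear_combination a * hβα - a * hαβ + a * i * h3
  have e2 : hh (X *ᵥ (X *ᵥ v)) v = -1 := by
    rw [hXXv, hv]
    simp only [herm_add_right hF, herm_smul_left, herm_smul_right, h.h22, h20', h21]
    linear_combination a * hα - ha2
  have hgvv : hh (mat g *ᵥ v) v = 2 - a * i := by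
    rw [hgv, herm_sub_left, herm_add_left, hvv, e1, e2]
    ring
  -- the trace
  have htr : (mat g).trace = 0 := trace_unip hg
  obtain ⟨t, ht⟩ := exists_refl hF hvv
  have htt : t * t = 1 := by
    apply ext_act
    intro x
    rw [act_mul, act_one, ht, ht, herm_sub_left, herm_smul_left, hvv]
    funext i
    simp only [Pi.sub_apply, Pi.smul_apply, smul_eq_mul]
    ring
  have htrace : (mat (g * t)).trace = 1 + a * i := by
    rw [mat_mul, trace_mul_refl ht, hgvv, htr]
    linear_combination (1 - a * i) * h3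
  have h7 : (g * t) ^ 7 = 1 := by
    refine pow_seven hF htrace ?_ ?_
    · rw [add_pow_q hF, one_pow, mul_pow, ha3, hi3]
      linear_combination h3
    · rw [add_pow_q hF, one_pow, mul_pow, ha3, hi3]
      linear_combination (-(a * a)) * hi2 + ha2
  refine crit (k := 1) hg (by rw [pow_one, pow_two, htt]) h7 hx1 (hI _ ?_)
  rw [← map_mul, htt, map_one]

/-- **Transvections.** -/
theorem trans_false {g : SU 3 F 3} {N : Matrix (Fin 3) (Fin 3) F} (hN : mat g = 1 + N) (hN2 : N * N = 0)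
    (hN0 : N ≠ 0) (hg : g ^ 3 = 1) (hx1 : (MulAut.conj (pr 3 F 3 g) : MulAut (PSU 3 F 3)) ≠ 1)
    (hI : Test (MulAut.conj (pr 3 F 3 g) : MulAut (PSU 3 F 3))) : False := by
  have h3 := three_eq_zero (F := F)
  have hNN : ∀ v, N *ᵥ (N *ᵥ v) = 0 := by
    intro v
    rw [mulVec_mulVec, hN2, zero_mulVec]
  have adj : ∀ u v, hh (N *ᵥ u) v = - hh u (N *ᵥ v) := by
    intro u v
    rw [adj_N hF hN (by rw [hN2, zero_mul]), hNN, add_zero, LieClassical.HermBasic.herm_neg_right hF]
  -- `h(N u, u) ≠ 0`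
  obtain ⟨u, hu⟩ : ∃ u, hh (N *ᵥ u) u ≠ 0 := by
    by_contra hcon
    push Not at hcon
    apply hN0
    obtain ⟨s, hs⟩ := LieClassical.HermBasic.exists_not_fixed hF
    have h1 : ∀ u v, hh (N *ᵥ u) v = 0 := by
      intro u v
      have h2 := hcon (u + v)
      have h3 := hcon (u + s • v)
      rw [mulVec_add, herm_add_left, herm_add_right hF, herm_add_right hF, hcon u, hcon v] at h2
      rw [mulVec_add, mulVec_smul, herm_add_left, herm_add_right hF, herm_add_right hF, herm_smul_left,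
        herm_smul_left, herm_smul_right, herm_smul_right, hcon u, hcon v] at h3
      have h4 : (s ^ 3 - s) * hh (N *ᵥ u) v = 0 := by linear_combination h3 - s * h2
      rcases mul_eq_zero.1 h4 with h5 | h5
      · exact absurd (sub_eq_zero.1 h5) hs
      · exact h5
    apply Matrix.ext_of_mulVec_single
    intro i
    rw [zero_mulVec]
    exact herm_nondeg hF (h1 _)
  obtain ⟨a, haa, hNa⟩ := exists_fixed hF hN hN2 hN0
  -- the component perpendicular to `a`
  obtain ⟨u', hu'⟩ : ∃ u', u' = u - hh u a • a := ⟨_, rfl⟩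
  have hNu' : N *ᵥ u' = N *ᵥ u := by rw [hu', mulVec_sub, mulVec_smul, hNa, smul_zero, sub_zero]
  have hNa' : ∀ x, hh (N *ᵥ x) a = 0 := by
    intro x
    rw [adj, hNa, LieClassical.HermBasic.herm_zero_right hF, neg_zero]
  have hu'a : hh u' a = 0 := by rw [hu', herm_sub_left, herm_smul_left, haa]; ring
  obtain ⟨δ, hδ⟩ : ∃ δ, δ = hh (N *ᵥ u') u' := ⟨_, rfl⟩
  have hδ0 : δ ≠ 0 := by
    have : δ = hh (N *ᵥ u) u := by
      rw [hδ, hNu', hu', herm_sub_right hF, herm_smul_right, hNa', mul_zero, sub_zero]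
    rw [this]
    exact hu
  have hδ1 : hh u' (N *ᵥ u') = -δ := by rw [hδ, adj, neg_neg]
  have hδ3 : δ ^ 3 = -δ := by rw [← hδ1, herm_swap hF (N *ᵥ u') u', ← hδ]
  have hδ2 : δ * δ = -1 := by
    have : δ * (δ * δ + 1) = 0 := by linear_combination hδ3
    linear_combination (mul_eq_zero.1 this).resolve_left hδ0
  obtain ⟨η, hη⟩ := exists_trace_eq hF (c := -1 - hh u' u') (by
    rw [sub_pow_q hF, herm_self_pow hF, neg_pow_q hF, one_pow])
  obtain ⟨s, hs⟩ : ∃ s, s * δ = η := ⟨η / δ, div_mul_cancel₀ _ hδ0⟩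
  have hs3 : s ^ 3 * δ = -η ^ 3 := by
    have : (s * δ) ^ 3 = s ^ 3 * δ ^ 3 := mul_pow _ _ _
    rw [hs, hδ3] at this
    rw [this]
    ring
  obtain ⟨c, hc⟩ : ∃ c, c = u' + s • (N *ᵥ u') := ⟨_, rfl⟩
  have hNuNu : hh (N *ᵥ u') (N *ᵥ u') = 0 := by
    rw [adj, hNN, LieClassical.HermBasic.herm_zero_right hF, neg_zero]
  have hcc : hh c c = -1 := by
    rw [hc]
    simp only [herm_add_left, herm_add_right hF, herm_smul_left, herm_smul_right, hNuNu, hδ1, ← hδ]
    linear_combination hη + hs - hs3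
  have hca : hh c a = 0 := by rw [hc, herm_add_left, herm_smul_left, hu'a, hNa', mul_zero, add_zero]
  have hac : hh a c = 0 := herm_eq_zero_swap hF hca
  have hNc : N *ᵥ c = N *ᵥ u' := by rw [hc, mulVec_add, mulVec_smul, hNN, smul_zero, add_zero]
  have hNcc : hh (N *ᵥ c) c = δ := by
    rw [hNc, hc, herm_add_right hF, herm_smul_right, hNuNu, mul_zero, add_zero, hδ]
  -- the second vector
  obtain ⟨ν, hν⟩ := exists_norm_eq hF (c := (-1 : F)) (by rw [neg_pow_q hF, one_pow])
  obtain ⟨b, hb⟩ : ∃ b, b = ν • a + c := ⟨_, rfl⟩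
  have hba : hh b a = ν := by rw [hb, herm_add_left, herm_smul_left, haa, hca]; ring
  have hab : hh a b = ν ^ 3 := by rw [herm_swap hF b a, hba]
  have hbb : hh b b = 1 := by
    rw [hb]
    simp only [herm_add_left, herm_add_right hF, herm_smul_left, herm_smul_right, haa, hca, hac, hcc]
    linear_combination hν - h3
  have hNb : N *ᵥ b = N *ᵥ c := by rw [hb, mulVec_add, mulVec_smul, hNa, smul_zero, zero_add]
  have hNbb : hh (N *ᵥ b) b = δ := by
    rw [hNb, hb, herm_add_right hF, herm_smul_right, hNa', mul_zero, zero_add, hNcc]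
  have hgb : hh (mat g *ᵥ b) b = 1 + δ := by
    rw [hN, add_mulVec, one_mulVec, herm_add_left, hbb, hNbb]
  have hga : mat g *ᵥ a = a := by rw [hN, add_mulVec, one_mulVec, hNa, add_zero]
  -- the element of order four
  obtain ⟨t1, ht1⟩ := exists_refl hF haa
  obtain ⟨t2, ht2⟩ := exists_refl hF hbb
  have ht1b : mat t1 *ᵥ b = (2 * ν) • a - b := by
    have := ht1 b
    rw [hba] at this
    exact this
  have htr1 : (mat t1).trace = -1 := by
    have := trace_mul_refl ht1 (1 : Matrix (Fin 3) (Fin 3) F)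
    rw [one_mul, one_mulVec, haa, Matrix.trace_one, Fintype.card_fin] at this
    rw [this]
    push_cast
    ring
  have htr : (mat (t1 * t2)).trace = 1 := by
    rw [mat_mul, trace_mul_refl ht2, ht1b, htr1, herm_sub_left, herm_smul_left, hab, hbb]
    linear_combination 4 * hν - 2 * h3
  have hy4 : (t1 * t2) ^ 4 = 1 := pow_four hF htr
  have htrg : (mat g).trace = 0 := trace_unip hg
  have htr2 : (mat (g * (t1 * t2))).trace = 1 + δ := by
    have e : mat (g * (t1 * t2)) = (mat g * mat t1) * mat t2 := by rw [mat_mul, mat_mul, Matrix.mul_assoc]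
    rw [e, trace_mul_refl ht2, trace_mul_refl ht1, hga, haa, htrg, ← mulVec_mulVec, ht1b, mulVec_sub, mulVec_smul,
      hga, herm_sub_left, herm_smul_left, hab, hgb]
    linear_combination 4 * hν - (3 + δ) * h3
  have h7 : (g * (t1 * t2)) ^ 7 = 1 := by
    refine pow_seven hF htr2 ?_ ?_
    · rw [add_pow_q hF, one_pow, hδ3]
      linear_combination h3
    · rw [add_pow_q hF, one_pow, hδ3]
      linear_combination -hδ2
  refine crit (k := 2) hg (by norm_num; exact hy4) h7 hx1 (test_four hI ?_)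
  rw [← map_pow, hy4, map_one]

end three

end Cfsg.Agent.H223.R3
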