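import Cfsg.Agent.FixBN.U3One
import Cfsg.Agent.FixBN.UNode

/-!
# The rank one unitary group over a finite field of arbitrary characteristic

* `UG σ q` : facts on the field with `q ^ 2` elements (any characteristic), `ug_of_card`;
* `semi` : an automorphism fixing the two base points acts semilinearly on the first coordinate and on the centre
  (`q > 2`).
-/

set_option autoImplicit false

namespace Cfsg.Agent.H223.U3Fin

open Cfsg.Agent.FixBN Cfsg.Agent.FixBN.U3Model Cfsg.Agent.FixBN.U3Core Cfsg.Agent.FixBN.RankOneU3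
  Cfsg.Agent.FixBN.U3One

variable {F : Type*} [Field F] {σ : F →+* F}

/-- The facts on the field which are used, any characteristic. -/
structure UG (σ : F →+* F) (q : ℕ) : Prop where
  card : Nat.card F = q ^ 2
  pow : ∀ x, σ x = x ^ q
  two_le : 2 ≤ q
  norm : ∀ r, σ r = r → ∃ a, a * σ a = r
  ne : ∃ x, σ x ≠ x
  tr : ∃ w, w + σ w = 1

theorem exists_trace [Inv2 σ] (hσ : ∃ x, σ x ≠ x) : ∃ w, w + σ w = 1 := by
  have H : Inv2 σ := inferInstance
  have h1 : ∃ x, x + σ x ≠ 0 := by
    by_contra hcon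
    push Not at hcon
    obtain ⟨x, hx⟩ := hσ
    have h2 := hcon 1
    rw [map_one] at h2
    have h3 := hcon x
    apply hx
    linear_combination h3 - x * h2
  obtain ⟨x, hx⟩ := h1
  refine ⟨x / (x + σ x), ?_⟩
  rw [map_div₀, map_add, H.invol, add_comm (σ x) x, ← add_div, div_self hx]

/-- An involutory automorphism of a field with `q ^ 2` elements is `x ↦ x ^ q`. -/
theorem eq_pow [Finite F] [Inv2 σ] (hσ : ∃ x, σ x ≠ x) {q : ℕ} (hq : Nat.card F = q ^ 2) : ∀ x, σ x = x ^ q := by
  classical
  have H : Inv2 σ := inferInstance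
  have : Fintype F := Fintype.ofFinite F
  have hF : Fintype.card F = q ^ 2 := by rw [← Nat.card_eq_fintype_card, hq]
  obtain ⟨p, hp⟩ := CharP.exists F
  have hprime : p.Prime := CharP.char_is_prime F p
  have : Fact p.Prime := ⟨hprime⟩
  have : ExpChar F p := ExpChar.prime hprime
  obtain ⟨n, -, hn⟩ := FiniteField.card F p
  obtain ⟨m, -, hm⟩ := (Nat.dvd_prime_pow hprime).1 (show q ∣ p ^ (n : ℕ) by
    rw [← hn, hF]; exact dvd_pow_self q two_ne_zero)
  let ρ : F →+* F := iterateFrobenius F p m
  have hρ : ∀ x, ρ x = x ^ q := by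
    intro x
    rw [hm]
    exact iterateFrobenius_def p m x
  have hρρ : ∀ x, ρ (ρ x) = x := by
    intro x
    rw [hρ, hρ, ← pow_mul, ← sq, ← hF]
    exact FiniteField.pow_card x
  let _ : Algebra (ZMod p) F := ZMod.algebra F p
  have mk : ∀ ρ : F →+* F, (∀ x, ρ (ρ x) = x) → ∃ g : Gal(F/ZMod p), g ^ 2 = 1 ∧ ∀ x, g x = ρ x := by
    intro ρ hρ
    let e : F ≃+* F := RingEquiv.ofBijective ρ
      ⟨fun a b h => by rw [← hρ a, h, hρ], fun a => ⟨ρ a, hρ a⟩⟩
    let g : F ≃ₐ[ZMod p] F := AlgEquiv.ofRingEquiv (f := e) (fun r => by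
      have h1 : ((e : F →+* F).comp (algebraMap (ZMod p) F)) = algebraMap (ZMod p) F := Subsingleton.elim _ _
      exact congrArg (fun f : ZMod p →+* F => f r) h1)
    refine ⟨g, ?_, fun x => rfl⟩
    ext x
    rw [sq]
    exact hρ x
  obtain ⟨g, hg2, hg⟩ := mk ρ hρρ
  obtain ⟨s, hs2, hs⟩ := mk σ H.invol
  have hq2 : 2 ≤ q := TwoFusion.GUTwo.two_le hF
  have hne : g ≠ 1 := by
    rintro rfl
    obtain ⟨y, hy⟩ := IsCyclic.exists_generator (α := Fˣ)
    have h1 : orderOf y = Nat.card Fˣ := orderOf_eq_card_of_forall_mem_zpowers hy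
    have h2 : y ^ (q - 1) = 1 := by
      apply Units.ext
      have h3 := (hg y).symm
      rw [hρ] at h3
      have h4 : (y : F) * (y : F) ^ (q - 1) = (y : F) * 1 := by
        rw [← pow_succ', mul_one, Nat.sub_add_cancel (by omega)]
        exact h3
      simpa using mul_left_cancel₀ y.ne_zero h4
    have h3 := orderOf_dvd_of_pow_eq_one h2
    rw [h1, TwoFusion.GUTwo.card_units_eq hF] at h3
    have h4 := Nat.le_of_dvd (by omega) h3
    obtain ⟨m, rfl⟩ : ∃ m, q = m + 2 := ⟨q - 2, by omega⟩
    have h5 : (m + 2 - 1) * (m + 2 + 1) = (m + 1) * (m + 3) := by congr 1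
    rw [h5] at h4
    have h6 : m + 2 - 1 = m + 1 := by omega
    rw [h6] at h4
    nlinarith
  have hsne : s ≠ 1 := by
    rintro rfl
    obtain ⟨x, hx⟩ := hσ
    exact hx (hs x).symm
  have : Fintype Gal(F/ZMod p) := Fintype.ofFinite _
  have hcard := IsCyclic.card_pow_eq_one_le (α := Gal(F/ZMod p)) (n := 2) (by norm_num)
  have hgs : g = s := by
    by_contra hgs
    have h3 : ({1, s, g} : Finset Gal(F/ZMod p)) ⊆ Finset.univ.filter (fun a => a ^ 2 = 1) := by
      intro a ha
      simp only [Finset.mem_insert, Finset.mem_singleton] at ha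
      rcases ha with rfl | rfl | rfl
      · simp
      · simpa using hs2
      · simpa using hg2
    have h4 := Finset.card_le_card h3
    have h5 : ({1, s, g} : Finset Gal(F/ZMod p)).card = 3 := by
      rw [Finset.card_eq_three]
      exact ⟨1, s, g, hsne.symm, hne.symm, fun h => hgs h.symm, rfl⟩
    omega
  intro x
  rw [← hs, ← hgs, hg, hρ]

theorem ug_of_card [Finite F] [Inv2 σ] (hσ : ∃ x, σ x ≠ x) {q : ℕ} (hq : Nat.card F = q ^ 2) : UG σ q := by
  have hp := eq_pow hσ hq
  have : Fintype F := Fintype.ofFinite F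
  have hF : Fintype.card F = q ^ 2 := by rw [← Nat.card_eq_fintype_card, hq]
  refine ⟨hq, hp, TwoFusion.GUTwo.two_le hF, ?_, hσ, exists_trace hσ⟩
  intro r hr
  by_cases h0 : r = 0
  · exact ⟨0, by rw [h0, zero_mul]⟩
  · rw [hp] at hr
    obtain ⟨a, ha⟩ := TwoFusion.GUTwo.exists_norm_eq hF h0 hr
    exact ⟨a, by rw [hp, ← pow_succ']; exact ha⟩

variable {q : ℕ}

theorem UG.comm (hF : UG σ q) (τ : F →+* F) (x : F) : τ (σ x) = σ (τ x) := by
  rw [hF.pow, hF.pow, map_pow]

variable [H : Inv2 σ]

/-- A point with given first coordinate. -/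
theorem exists_pt (hF : UG σ q) (a : F) : ∃ x : Pt σ, x.a = a := by
  obtain ⟨w, hw⟩ := hF.tr
  refine ⟨⟨a, -(w * (a * σ a)), ?_⟩, rfl⟩
  rw [map_neg, map_mul, map_mul, H.invol]
  linear_combination (-(a * σ a)) * hw

/-- A point with given second coordinate. -/
theorem exists_pt_b (hF : UG σ q) (b : F) : ∃ x : Pt σ, x.b = b := by
  obtain ⟨a, ha⟩ := hF.norm (-(b + σ b)) (by rw [map_neg, map_add, H.invol, add_comm])
  exact ⟨⟨a, b, by rw [ha]; ring⟩, rfl⟩

/-- The centre. -/
theorem central_iff (hF : UG σ q) (x : Pt σ) : (∀ y : Pt σ, x * y = y * x) ↔ x.a = 0 := by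
  constructor
  · intro h
    by_contra hx
    obtain ⟨c, hc⟩ := hF.ne
    obtain ⟨y, hy⟩ := exists_pt hF (c * x.a)
    have h1 := congrArg Pt.b (h y)
    rw [mul_b, mul_b, hy, map_mul] at h1
    have h2 : σ x.a ≠ 0 := fun h2 => hx ((map_eq_zero σ).1 h2)
    apply hc
    have h3 : (σ c - c) * (σ x.a * x.a) = 0 := by linear_combination h1
    rcases mul_eq_zero.1 h3 with h3 | h3
    · exact sub_eq_zero.1 h3
    · exact absurd h3 (mul_ne_zero h2 hx)
  · intro hx y
    apply ext'
    · rw [mul_a, mul_a, add_comm]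
    · rw [mul_b, mul_b, hx, map_zero]; ring

section Au

variable {β : Equiv.Perm (Om σ)} {φ φ' : Pt σ → Pt σ} (A : Au β φ φ')

include A

theorem a_congr (hF : UG σ q) {x y : Pt σ} (h : x.a = y.a) : (φ x).a = (φ y).a := by
  have h1 : (x⁻¹ * y).a = 0 := by rw [mul_a, inv_a, h]; ring
  have h2 := (central_iff hF _).2 h1
  have h3 : ∀ z, φ (x⁻¹ * y) * z = z * φ (x⁻¹ * y) := by
    intro z
    obtain ⟨w, rfl⟩ := A.surj z
    rw [← A.mul, ← A.mul, h2]
  have h4 := (central_iff hF _).1 h3
  rw [A.mul, A.inv, mul_a, inv_a] at h4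
  linear_combination -h4

theorem a_eq_zero (hF : UG σ q) {x : Pt σ} (h : (φ x).a = 0) : x.a = 0 := by
  apply (central_iff hF _).1
  intro y
  apply A.inj
  rw [A.mul, A.mul, (central_iff hF _).2 h]

theorem a_zero (hF : UG σ q) {x : Pt σ} (h : x.a = 0) : (φ x).a = 0 := by
  rw [a_congr A hF (show x.a = (1 : Pt σ).a from h), A.map_one, one_a]

/-- The function on first coordinates. -/
theorem exists_f (hF : UG σ q) : ∃ f : F → F, (∀ x : Pt σ, (φ x).a = f x.a) ∧ (∀ a b, f (a + b) = f a + f b) ∧
    (∀ a, f a = 0 → a = 0) := by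
  choose pt hpt using fun a => exists_pt (σ := σ) hF a
  have h1 : ∀ x : Pt σ, (φ x).a = (φ (pt x.a)).a := fun x => a_congr A hF (hpt x.a).symm
  refine ⟨fun a => (φ (pt a)).a, h1, ?_, ?_⟩
  · intro a b
    have h2 := h1 (pt a * pt b)
    rw [A.mul, mul_a, mul_a, hpt, hpt] at h2
    exact h2.symm
  · intro a ha
    have h2 := a_eq_zero A hF ha
    rwa [hpt] at h2

end Au

/-- The subring generated by the multipliers is everything if `q > 2`. -/
theorem mem_of_lam [Finite F] (hF : UG σ q) (hq : 2 < q) (S : Subring F) (hS : ∀ x : Pt σ, x ≠ 1 → lam x ∈ S)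
    (c : F) : c ∈ S := by
  have hfix : ∀ r, σ r = r → r ∈ S := by
    intro r hr
    by_cases h0 : r = 0
    · rw [h0]; exact zero_mem S
    · obtain ⟨x, hx⟩ := exists_pt_b hF r
      have hx1 : x ≠ 1 := by
        rintro rfl
        exact h0 (by rw [← hx, one_b])
      have h1 := hS x hx1
      unfold lam at h1
      rw [hx, hr, mul_div_assoc, div_self h0, mul_one] at h1
      exact h1
  have hex : ∃ κ ∈ S, σ κ ≠ κ := by
    by_contra hcon
    push Not at hcon
    have hcube : ∀ b : F, σ b * σ b * σ b = b * b * b := by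
      intro b
      by_cases h0 : b = 0
      · rw [h0, map_zero]
      · obtain ⟨x, hx⟩ := exists_pt_b hF b
        have hx1 : x ≠ 1 := by
          rintro rfl
          exact h0 (by rw [← hx, one_b])
        have h1 := hcon _ (hS x hx1)
        unfold lam at h1
        rw [hx, map_div₀, map_mul, H.invol] at h1
        have h2 : σ b ≠ 0 := fun h2 => h0 ((map_eq_zero σ).1 h2)
        field_simp at h1
        linear_combination -h1
    obtain ⟨g, hg⟩ := IsCyclic.exists_generator (α := Fˣ)
    have h1 : orderOf g = Nat.card Fˣ := orderOf_eq_card_of_forall_mem_zpowers hg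
    have h2 : g ^ (3 * (q - 1)) = 1 := by
      apply Units.ext
      have h3 := hcube g
      rw [hF.pow] at h3
      have h4 : (g : F) ^ 3 * (g : F) ^ (3 * (q - 1)) = (g : F) ^ 3 * 1 := by
        have h5 : 3 + 3 * (q - 1) = q * 3 := by omega
        rw [← pow_add, h5, mul_one, pow_mul]
        linear_combination h3
      simpa using mul_left_cancel₀ (pow_ne_zero 3 g.ne_zero) h4
    have h3 := orderOf_dvd_of_pow_eq_one h2
    rw [h1, Nat.card_units, hF.card] at h3
    have h4 := Nat.le_of_dvd (by omega) h3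
    obtain ⟨m, rfl⟩ : ∃ m, q = m + 3 := ⟨q - 3, by omega⟩
    have h6 : m + 3 - 1 = m + 2 := by omega
    rw [h6] at h4
    have h7 : (m + 3) ^ 2 - 1 = m * m + 6 * m + 8 := by
      have : (m + 3) ^ 2 = m * m + 6 * m + 8 + 1 := by ring
      omega
    rw [h7] at h4
    nlinarith
  obtain ⟨κ, hκS, hκ⟩ := hex
  have hne : κ - σ κ ≠ 0 := fun h => hκ (sub_eq_zero.1 h).symm
  have hne' : σ κ - κ ≠ 0 := fun h => hκ (sub_eq_zero.1 h)
  have hs : (c - σ c) / (κ - σ κ) ∈ S := by
    apply hfix
    rw [map_div₀, map_sub, map_sub, H.invol, H.invol]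
    field_simp
    ring
  have hr : c - κ * ((c - σ c) / (κ - σ κ)) ∈ S := by
    apply hfix
    rw [map_sub, map_mul, map_div₀, map_sub, map_sub, H.invol, H.invol]
    field_simp
    ring
  have h5 := S.add_mem hr (S.mul_mem hκS hs)
  rwa [sub_add_cancel] at h5

/-- **Automorphisms fixing the two base points act semilinearly** on the first coordinate and on the centre. -/
theorem semi [Finite F] (hF : UG σ q) (hq : 2 < q) {β : Equiv.Perm (Om σ)} {φ φ' : Pt σ → Pt σ} (A : Au β φ φ') :
    ∃ (c : F) (τ : F →+* F), c ≠ 0 ∧ (∀ x : Pt σ, (φ x).a = c * τ x.a) ∧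
      ∀ x : Pt σ, x.a = 0 → (φ x).b = c * σ c * τ x.b := by
  obtain ⟨f, hfa, hadd, hf0⟩ := exists_f A hF
  have hf1 : f 1 ≠ 0 := fun h => one_ne_zero (hf0 1 h)
  have hfz : f 0 = 0 := by
    have := hadd 0 0
    rw [add_zero] at this
    linear_combination -this
  have hfn : ∀ a, f (-a) = -f a := by
    intro a
    have := hadd a (-a)
    rw [add_neg_cancel, hfz] at this
    linear_combination -this
  -- the base multiplier
  obtain ⟨x₀, hx₀⟩ := exists_pt_b hF (1 : F)
  have hx₀1 : x₀ ≠ 1 := by
    rintro rfl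
    rw [one_b] at hx₀
    exact zero_ne_one hx₀
  have hl₀ : lam x₀ = 1 := by unfold lam; rw [hx₀, _root_.map_one]; simp
  have hφ' : ∀ w, φ w = D (lam (φ x₀)) (φ' w) := fun w => by
    have := A.mu hx₀1 w
    rwa [hl₀, D_one'] at this
  have hl0 : lam (φ x₀) ≠ 0 := lam_ne_zero (A.ne_one hx₀1)
  have hκ : ∀ x : Pt σ, x ≠ 1 → ∀ w, φ (D (lam x) w) = D (lam (φ x) * (lam (φ x₀))⁻¹) (φ w) := by
    intro x hx w
    rw [A.mu hx, hφ' w, D_D, mul_assoc, inv_mul_cancel₀ hl0, mul_one]
  have hκf : ∀ x : Pt σ, x ≠ 1 → ∀ a, f (lam x * a) = lam (φ x) * (lam (φ x₀))⁻¹ * f a := by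
    intro x hx a
    obtain ⟨w, rfl⟩ := exists_pt (σ := σ) hF a
    rw [← hfa, ← D_a, ← hfa, hκ x hx, D_a]
  -- multiplicativity
  have hS : ∀ c, ∀ a, f (c * a) * f 1 = f c * f a := by
    let S : Subring F :=
      { carrier := {c | ∀ a, f (c * a) * f 1 = f c * f a}
        mul_mem' := by
          intro c d hc hd a
          show f (c * d * a) * f 1 = f (c * d) * f a
          have h3 := hc (d * a)
          have h4 := hd a
          have h5 := hc d
          rw [← mul_assoc] at h3
          have h6 : (f (c * d * a) * f 1) * f 1 = (f (c * d) * f a) * f 1 := by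
            linear_combination f 1 * h3 + f c * h4 - f a * h5
          exact mul_right_cancel₀ hf1 h6
        one_mem' := by
          intro a
          rw [one_mul, mul_comm]
        add_mem' := by
          intro c d hc hd a
          show f ((c + d) * a) * f 1 = f (c + d) * f a
          have h3 : f (c * a) * f 1 = f c * f a := hc a
          have h4 : f (d * a) * f 1 = f d * f a := hd a
          rw [add_mul, hadd, hadd]
          linear_combination h3 + h4
        zero_mem' := by
          intro a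
          rw [zero_mul, hfz]; ring
        neg_mem' := by
          intro c hc a
          show f (-c * a) * f 1 = f (-c) * f a
          have h3 : f (c * a) * f 1 = f c * f a := hc a
          rw [neg_mul, hfn, hfn]
          linear_combination -h3 }
    intro c
    have : c ∈ S := by
      apply mem_of_lam hF hq
      intro x hx a
      show f (lam x * a) * f 1 = f (lam x) * f a
      have h3 := hκf x hx a
      have h4 := hκf x hx 1
      rw [mul_one] at h4
      rw [h3, h4]; ring
    exact this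
  let τ : F →+* F :=
    { toFun := fun a => f a / f 1
      map_one' := div_self hf1
      map_mul' := by
        intro a b
        have := hS a b
        field_simp
        linear_combination this
      map_zero' := by simp [hfz]
      map_add' := by
        intro a b
        rw [hadd]; ring }
  have hτ : ∀ a, f a = f 1 * τ a := by
    intro a
    show f a = f 1 * (f a / f 1)
    field_simp
  refine ⟨f 1, τ, hf1, fun x => by rw [hfa, hτ], fun x hx => ?_⟩
  -- the centre consists of commutators
  obtain ⟨w, hw⟩ := hF.tr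
  obtain ⟨y, hy⟩ := exists_pt (σ := σ) hF (w * x.b)
  obtain ⟨z, hz⟩ := exists_pt (σ := σ) hF (1 : F)
  have hxb : σ x.b = -x.b := by
    have := x.h
    rw [hx] at this
    linear_combination this
  have h3 : y * z = x * (z * y) := by
    apply ext'
    · simp only [mul_a, hx]; ring
    · simp only [mul_a, mul_b, hx, hy, hz, map_zero, map_mul, hxb, _root_.map_one]
      linear_combination x.b * hw
  have h4 := congrArg (fun v => (φ v).b) h3
  simp only [A.mul, mul_b, mul_a] at h4
  rw [hfa x, hfa y, hfa z, hx, hy, hz, hfz, hτ (w * x.b), hτ 1, _root_.map_one, map_zero, map_mul, map_mul,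
    ← hF.comm, map_mul, hxb] at h4
  have h5 : τ (w + σ w) = 1 := by rw [hw, _root_.map_one]
  rw [map_add] at h5
  simp only [map_mul, map_neg, mul_one, _root_.map_one] at h4 ⊢
  linear_combination (-1 : F) * h4 + f 1 * σ (f 1) * τ x.b * h5

end Cfsg.Agent.H223.U3Fin
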